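import Cfsg.Agent.L0.Th.CloT

/-! Generated: double coset enumeration. -/

set_option autoImplicit false
set_option maxRecDepth 100000

namespace Cfsg.Agent.L0.ThClo

open Dce

theorem k14_0 : allR k14 13 0 = true := by decide +kernel
theorem k14_1 : allR k14 13 1 = true := by decide +kernel
theorem k14_2 : allR k14 13 2 = true := by decide +kernel
theorem l0_0 : allR l0 2 0 = true := by decide +kernel
theorem l1_0 : allR l1 9 0 = true := by decide +kernel
theorem l2_0 : allR l2 3 0 = true := by decide +kernel
theorem l3_0 : allR l3 2 0 = true := by decide +kernel
theorem tk_0 : allR tk 14 0 = true := by decide +kernel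
theorem tk_1 : allR tk 14 1 = true := by decide +kernel

end Cfsg.Agent.L0.ThClo
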