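import Cfsg.Agent.L0.Th.CloC0
import Cfsg.Agent.L0.Th.CloC1

/-! Generated: double coset enumeration. -/

set_option autoImplicit false
set_option maxRecDepth 100000

namespace Cfsg.Agent.L0.ThClo

open Dce

theorem k1_all : ∀ t < 3 * 2 ^ 13, k1 t = true := allR_glue (forall_lt_succ' (forall_lt_succ' (forall_lt_succ' forall_lt_zero' k1_0) k1_1) k1_2)

theorem k6_all : ∀ t < 3 * 2 ^ 13, k6 t = true := allR_glue (forall_lt_succ' (forall_lt_succ' (forall_lt_succ' forall_lt_zero' k6_0) k6_1) k6_2)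

theorem k7_all : ∀ t < 3 * 2 ^ 13, k7 t = true := allR_glue (forall_lt_succ' (forall_lt_succ' (forall_lt_succ' forall_lt_zero' k7_0) k7_1) k7_2)

theorem k8_all : ∀ t < 3 * 2 ^ 13, k8 t = true := allR_glue (forall_lt_succ' (forall_lt_succ' (forall_lt_succ' forall_lt_zero' k8_0) k8_1) k8_2)

theorem k9_all : ∀ t < 3 * 2 ^ 13, k9 t = true := allR_glue (forall_lt_succ' (forall_lt_succ' (forall_lt_succ' forall_lt_zero' k9_0) k9_1) k9_2)

theorem k10_all : ∀ t < 3 * 2 ^ 13, k10 t = true := allR_glue (forall_lt_succ' (forall_lt_succ' (forall_lt_succ' forall_lt_zero' k10_0) k10_1) k10_2)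

theorem k11_all : ∀ t < 3 * 2 ^ 13, k11 t = true := allR_glue (forall_lt_succ' (forall_lt_succ' (forall_lt_succ' forall_lt_zero' k11_0) k11_1) k11_2)

theorem k12_all : ∀ t < 3 * 2 ^ 13, k12 t = true := allR_glue (forall_lt_succ' (forall_lt_succ' (forall_lt_succ' forall_lt_zero' k12_0) k12_1) k12_2)

theorem k13_all : ∀ t < 3 * 2 ^ 13, k13 t = true := allR_glue (forall_lt_succ' (forall_lt_succ' (forall_lt_succ' forall_lt_zero' k13_0) k13_1) k13_2)

theorem k14_all : ∀ t < 3 * 2 ^ 13, k14 t = true := allR_glue (forall_lt_succ' (forall_lt_succ' (forall_lt_succ' forall_lt_zero' k14_0) k14_1) k14_2)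

theorem l0_all : ∀ t < 1 * 2 ^ 2, l0 t = true := allR_glue (forall_lt_succ' forall_lt_zero' l0_0)

theorem l1_all : ∀ t < 1 * 2 ^ 9, l1 t = true := allR_glue (forall_lt_succ' forall_lt_zero' l1_0)

theorem l2_all : ∀ t < 1 * 2 ^ 3, l2 t = true := allR_glue (forall_lt_succ' forall_lt_zero' l2_0)

theorem l3_all : ∀ t < 1 * 2 ^ 2, l3 t = true := allR_glue (forall_lt_succ' forall_lt_zero' l3_0)

theorem tk_all : ∀ t < 2 * 2 ^ 14, tk t = true := allR_glue (forall_lt_succ' (forall_lt_succ' forall_lt_zero' tk_0) tk_1)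

theorem fin {H : Type} [Group H] [Finite H] {Γ : Type} [Group Γ] {A : RAct H 819} {B : RAct H 17199} {g : ℕ → H}
    {φ : H →* Γ} {z : Γ} (h : CtxH ThFB.P A g) (hG : CtxG ThFB.P g φ z fun _ => 1) (hB : B.Tab g 17 ThActN.T)
    (hc : Nat.card H ≤ 634023936) (hgen : ∀ S : Subgroup Γ, (∀ x, φ x ∈ S) → z ∈ S → S = ⊤) :
    Finite Γ ∧ ∀ γ, γ ∈ UU ThFB.P g φ z L := by
  have hv := ThFB.val h hG
  have hK : ∀ x, B.act 0 x = 0 → x ∈ KK φ z :=
    stab_le (A := A) (hB.lev_all (by decide +kernel) tk_all) (chK_cons (lev_treeK h.tab (kW_fix h hv hB (l := KS) (by decide +kernel)) (by decide +kernel) l0_all)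
      (chK_cons (lev_treeK h.tab (kW_fix h hv hB (l := KS) (by decide +kernel)) (by decide +kernel) l1_all)
      (chK_cons (lev_treeK h.tab (kW_fix h hv hB (l := KS) (by decide +kernel)) (by decide +kernel) l2_all)
      (chK_cons (lev_treeK h.tab (kW_fix h hv hB (l := KS) (by decide +kernel)) (by decide +kernel) l3_all)
      (chK_nil))))) (hc.trans (by decide +kernel))
  refine finite_of_clo h hG (by decide) (by decide) (fun i hi h0 => ?_) hgen
  simp only [L, List.mem_cons, List.not_mem_nil, or_false] at hi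
  rcases hi with rfl | rfl | rfl | rfl | rfl | rfl | rfl | rfl | rfl | rfl | rfl
  · exact absurd rfl h0
  · exact clo_spec h hG hv hB (by norm_num) hK fun x hx => k1_all x (by omega)
  · exact clo_spec h hG hv hB (by norm_num) hK fun x hx => k6_all x (by omega)
  · exact clo_spec h hG hv hB (by norm_num) hK fun x hx => k7_all x (by omega)
  · exact clo_spec h hG hv hB (by norm_num) hK fun x hx => k8_all x (by omega)
  · exact clo_spec h hG hv hB (by norm_num) hK fun x hx => k9_all x (by omega)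
  · exact clo_spec h hG hv hB (by norm_num) hK fun x hx => k10_all x (by omega)
  · exact clo_spec h hG hv hB (by norm_num) hK fun x hx => k11_all x (by omega)
  · exact clo_spec h hG hv hB (by norm_num) hK fun x hx => k12_all x (by omega)
  · exact clo_spec h hG hv hB (by norm_num) hK fun x hx => k13_all x (by omega)
  · exact clo_spec h hG hv hB (by norm_num) hK fun x hx => k14_all x (by omega)

end Cfsg.Agent.L0.ThClo
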