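import Cfsg.Agent.L0.Dce
import Cfsg.Agent.L0.Th.Act

/-! Generated: double coset enumeration. -/

set_option autoImplicit false
set_option maxRecDepth 100000

namespace Cfsg.Agent.L0.ThFA

open Dce

noncomputable def F0 : GT Fa := .node (.node (.node (.node (.node (.leaf ⟨nat_lit 1, nat_lit 0, nat_lit 1, nat_lit 0, nat_lit 0, nat_lit 0, [], [], []⟩) (.leaf ⟨nat_lit 0, nat_lit 1, nat_lit 1, nat_lit 0, nat_lit 0xa50c130e2, nat_lit 0xc299a8, [], [nat_lit 0, nat_lit 0, nat_lit 0, nat_lit 0, nat_lit 0, nat_lit 0, nat_lit 0, nat_lit 0, nat_lit 0, nat_lit 2], []⟩)) (.leaf ⟨nat_lit 0, nat_lit 0, nat_lit 0, nat_lit 0, nat_lit 0x5328cb, nat_lit 0xa42d05, [], [], []⟩)) (.node (.node (.leaf ⟨nat_lit 0, nat_lit 8, nat_lit 8, nat_lit 0, nat_lit 0, nat_lit 0, [nat_lit 0, nat_lit 0, nat_lit 0, nat_lit 0, nat_lit 0, nat_lit 0, nat_lit 1], [], []⟩) (.leaf ⟨nat_lit 0, nat_lit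 1, nat_lit 1, nat_lit 0, nat_lit 0x1d6571d8b, nat_lit 0x5e57346c, [], [nat_lit 0, nat_lit 0, nat_lit 0, nat_lit 0, nat_lit 0, nat_lit 0, nat_lit 0, nat_lit 0, nat_lit 0, nat_lit 2], []⟩)) (.leaf ⟨nat_lit 0, nat_lit 1, nat_lit 1, nat_lit 0, nat_lit 0x2314618982, nat_lit 0x6c299a8, [], [nat_lit 0, nat_lit 0, nat_lit 0, nat_lit 0, nat_lit 0, nat_lit 0, nat_lit 0, nat_lit 0, nat_lit 0, nat_lit 2], []⟩))) (.node (.node (.node (.leaf ⟨nat_lit 0, nat_lit 8, nat_lit 8, nat_lit 0, nat_lit 97, nat_lit 1, [nat_lit 0, nat_lit 0, nat_lit 0, nat_lit 0, nat_lit 0, nat_lit 0, nat_lit 0, nat_lit 0, nat_lit 2], [nat_lit 0, nat_lit 0, nat_lit 0, nat_lit 0, nat_lit 0, nat_lit 1], []⟩) (.leaf ⟨nat_lit 0, nat_lit 1, nat_lit 1, nat_lit 0, nat_lit 0x1631544ad, nat_lit 0xac82e10, [], [nat_lit 0, nat_lit 0, nat_lit 0, nat_lit 0, nat_lit 0, nat_lit 0, nat_lit 0, nat_lit 0, nat_lit 0,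 nat_lit 2], []⟩)) (.leaf ⟨nat_lit 0, nat_lit 1, nat_lit 1, nat_lit 0, nat_lit 0x3298a8bd30, nat_lit 0x1e312c5d0, [nat_lit 0, nat_lit 0, nat_lit 0, nat_lit 0, nat_lit 0, nat_lit 0, nat_lit 0, nat_lit 0, nat_lit 1], [nat_lit 0, nat_lit 0, nat_lit 0, nat_lit 0, nat_lit 0, nat_lit 0, nat_lit 0, nat_lit 0, nat_lit 0, nat_lit 1], []⟩)) (.node (.node (.leaf ⟨nat_lit 0, nat_lit 0, nat_lit 0, nat_lit 0, nat_lit 1, nat_lit 1, [], [], []⟩) (.leaf ⟨nat_lit 0, nat_lit 0, nat_lit 0, nat_lit 0, nat_lit 0, nat_lit 0, [nat_lit 0, nat_lit 0, nat_lit 0, nat_lit 0, nat_lit 1], [], []⟩)) (.leaf ⟨nat_lit 0, nat_lit 1, nat_lit 1, nat_lit 0, nat_lit 0x288f134ee, nat_lit 0x125116c5ad, [nat_lit 0, nat_lit 0, nat_lit 0, nat_lit 0, nat_lit 0, nat_lit 0, nat_lit 0, nat_lit 0, nat_lit 1], [nat_lit 0, nat_lit 0, nat_lit 0, nat_lit 0, nat_lit 0, nat_lit 0, nat_lit 0, nat_lit 0, nat_lit 0,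 nat_lit 3], []⟩)))) (.node (.node (.node (.node (.leaf ⟨nat_lit 2, nat_lit 0, nat_lit 0, nat_lit 4193, nat_lit 0, nat_lit 0, [nat_lit 0, nat_lit 1], [], [nat_lit 0x8218445, nat_lit 0x2082310ca4, nat_lit 0x2086111023]⟩) (.leaf ⟨nat_lit 0, nat_lit 0, nat_lit 0, nat_lit 0, nat_lit 0x6e4160d, nat_lit 0x191299e3, [], [], []⟩)) (.leaf ⟨nat_lit 0, nat_lit 1, nat_lit 1, nat_lit 0, nat_lit 0x41658a1ea, nat_lit 0x3142595a9, [nat_lit 0, nat_lit 0, nat_lit 0, nat_lit 0, nat_lit 0, nat_lit 0, nat_lit 0, nat_lit 0, nat_lit 1], [nat_lit 0, nat_lit 0, nat_lit 0, nat_lit 0, nat_lit 0, nat_lit 0, nat_lit 0, nat_lit 0, nat_lit 0, nat_lit 1], []⟩)) (.node (.node (.leaf ⟨nat_lit 0, nat_lit 1, nat_lit 1, nat_lit 0, nat_lit 0x20c8510c8110c8520c8218441, nat_lit 0x329064, [nat_lit 1], [nat_lit 0, nat_lit 0, nat_lit 0, nat_lit 0, nat_lit 0, nat_lit 0, nat_lit 0, nat_lit 0, nat_lit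 11], []⟩) (.leaf ⟨nat_lit 2, nat_lit 0, nat_lit 0, nat_lit 0x191836256d, nat_lit 0, nat_lit 0, [], [nat_lit 0, nat_lit 0, nat_lit 0, nat_lit 0, nat_lit 1], [nat_lit 4131, nat_lit 0x58ad0d, nat_lit 0x43c1c48ace2]⟩)) (.leaf ⟨nat_lit 0, nat_lit 1, nat_lit 1, nat_lit 0, nat_lit 0x2d0c7a82c, nat_lit 0x452250b, [nat_lit 0, nat_lit 0, nat_lit 0, nat_lit 0, nat_lit 0, nat_lit 0, nat_lit 0, nat_lit 0, nat_lit 1], [nat_lit 0, nat_lit 0, nat_lit 0, nat_lit 0, nat_lit 0, nat_lit 0, nat_lit 0, nat_lit 0, nat_lit 0, nat_lit 1], []⟩))) (.node (.node (.node (.leaf ⟨nat_lit 0, nat_lit 0, nat_lit 0, nat_lit 0, nat_lit 0, nat_lit 0, [nat_lit 0, nat_lit 0, nat_lit 0, nat_lit 0, nat_lit 0, nat_lit 1, nat_lit 1, nat_lit 2], [], []⟩) (.leaf ⟨nat_lit 0, nat_lit 1, nat_lit 1, nat_lit 0, nat_lit 0x11990445ad, nat_lit 0x8a8421a3, [nat_lit 0, nat_lit 0, nat_lit 0, nat_lit 0, nat_lit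 0, nat_lit 0, nat_lit 0, nat_lit 0, nat_lit 1], [nat_lit 0, nat_lit 0, nat_lit 0, nat_lit 0, nat_lit 0, nat_lit 0, nat_lit 0, nat_lit 0, nat_lit 0, nat_lit 1], []⟩)) (.leaf ⟨nat_lit 0, nat_lit 1, nat_lit 1, nat_lit 0, nat_lit 0x312c2c4e1, nat_lit 0x15862b507, [], [nat_lit 0, nat_lit 0, nat_lit 0, nat_lit 0, nat_lit 0, nat_lit 0, nat_lit 0, nat_lit 0, nat_lit 0, nat_lit 2], []⟩)) (.node (.leaf ⟨nat_lit 0, nat_lit 1, nat_lit 1, nat_lit 0, nat_lit 1, nat_lit 1, [], [], []⟩) (.leaf ⟨nat_lit 0, nat_lit 1, nat_lit 1, nat_lit 0, nat_lit 0x130d064102, nat_lit 0x95e783c6d, [], [nat_lit 0, nat_lit 0, nat_lit 0, nat_lit 0, nat_lit 0, nat_lit 0, nat_lit 0, nat_lit 0, nat_lit 0, nat_lit 3], []⟩))))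

noncomputable def F1 : GT Fa := .node (.node (.node (.node (.node (.leaf ⟨nat_lit 2, nat_lit 0, nat_lit 0, nat_lit 1, nat_lit 0, nat_lit 0, [], [nat_lit 0, nat_lit 0, nat_lit 0, nat_lit 0, nat_lit 0, nat_lit 1], [nat_lit 1]⟩) (.leaf ⟨nat_lit 0, nat_lit 1, nat_lit 1, nat_lit 0, nat_lit 0x18c414cf, nat_lit 0x1832c0c5, [], [nat_lit 0, nat_lit 0, nat_lit 0, nat_lit 0, nat_lit 0, nat_lit 0, nat_lit 0, nat_lit 0, nat_lit 0, nat_lit 2], []⟩)) (.leaf ⟨nat_lit 0, nat_lit 1, nat_lit 1, nat_lit 0, nat_lit 0xa42d05, nat_lit 0x5328cb, [], [nat_lit 0, nat_lit 0, nat_lit 0, nat_lit 0, nat_lit 0, nat_lit 0, nat_lit 0, nat_lit 0, nat_lit 0, nat_lit 1], []⟩)) (.node (.node (.leaf ⟨nat_lit 0, nat_lit 8, nat_lit 8, nat_lit 0, nat_lit 163, nat_lit 0x2520c85, [nat_lit 0, nat_lit 0, nat_lit 0, nat_lit 0, nat_lit 0, nat_lit 0, nat_lit 0, nat_lit 1], [nat_lit 0, nat_lit 0, nat_lit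 0, nat_lit 0, nat_lit 0, nat_lit 0, nat_lit 0, nat_lit 0, nat_lit 5], []⟩) (.leaf ⟨nat_lit 0, nat_lit 1, nat_lit 1, nat_lit 0, nat_lit 0, nat_lit 0, [], [nat_lit 0, nat_lit 0, nat_lit 0, nat_lit 0, nat_lit 0, nat_lit 0, nat_lit 0, nat_lit 0, nat_lit 0, nat_lit 1], []⟩)) (.leaf ⟨nat_lit 0, nat_lit 1, nat_lit 1, nat_lit 0, nat_lit 0x158f28e2d, nat_lit 0x5ef685a9, [nat_lit 0, nat_lit 0, nat_lit 0, nat_lit 0, nat_lit 0, nat_lit 0, nat_lit 0, nat_lit 0, nat_lit 1], [nat_lit 0, nat_lit 0, nat_lit 0, nat_lit 0, nat_lit 0, nat_lit 0, nat_lit 0, nat_lit 0, nat_lit 0, nat_lit 2], []⟩))) (.node (.node (.node (.leaf ⟨nat_lit 0, nat_lit 8, nat_lit 8, nat_lit 0, nat_lit 0x510c22, nat_lit 3, [nat_lit 0, nat_lit 0, nat_lit 0, nat_lit 0, nat_lit 0, nat_lit 1, nat_lit 0, nat_lit 1, nat_lit 1], [], []⟩) (.leaf ⟨nat_lit 0, nat_lit 1, nat_lit 1, nat_lit 0, nat_lit 0xb0c6298a2,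 nat_lit 0xd8522d82, [nat_lit 0, nat_lit 0, nat_lit 0, nat_lit 0, nat_lit 0, nat_lit 0, nat_lit 0, nat_lit 0, nat_lit 1], [nat_lit 0, nat_lit 0, nat_lit 0, nat_lit 0, nat_lit 0, nat_lit 0, nat_lit 0, nat_lit 0, nat_lit 0, nat_lit 2], []⟩)) (.leaf ⟨nat_lit 0, nat_lit 1, nat_lit 1, nat_lit 0, nat_lit 0x13d637acc2, nat_lit 0xc5858b8ed, [nat_lit 0, nat_lit 0, nat_lit 0, nat_lit 0, nat_lit 0, nat_lit 0, nat_lit 0, nat_lit 0, nat_lit 1], [nat_lit 0, nat_lit 0, nat_lit 0, nat_lit 0, nat_lit 0, nat_lit 0, nat_lit 0, nat_lit 0, nat_lit 0, nat_lit 2], []⟩)) (.node (.node (.leaf ⟨nat_lit 0, nat_lit 0, nat_lit 0, nat_lit 0, nat_lit 0, nat_lit 0, [nat_lit 0, nat_lit 0, nat_lit 0, nat_lit 0, nat_lit 0, nat_lit 0, nat_lit 0, nat_lit 0, nat_lit 2], [], []⟩) (.leaf ⟨nat_lit 0, nat_lit 0, nat_lit 0, nat_lit 0, nat_lit 0, nat_lit 0, [nat_lit 0, nat_lit 0, nat_lit 0, nat_lit 1],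 [], []⟩)) (.leaf ⟨nat_lit 0, nat_lit 1, nat_lit 1, nat_lit 0, nat_lit 0x2bd0f6bdae, nat_lit 0x3e0979510, [], [nat_lit 0, nat_lit 0, nat_lit 0, nat_lit 0, nat_lit 0, nat_lit 0, nat_lit 0, nat_lit 0, nat_lit 0, nat_lit 3], []⟩)))) (.node (.node (.node (.node (.leaf ⟨nat_lit 0, nat_lit 1, nat_lit 1, nat_lit 0, nat_lit 97, nat_lit 35, [], [nat_lit 0, nat_lit 0, nat_lit 0, nat_lit 0, nat_lit 0, nat_lit 1, nat_lit 1], []⟩) (.leaf ⟨nat_lit 0, nat_lit 1, nat_lit 1, nat_lit 0, nat_lit 0xb10c805c1, nat_lit 0x95e18b4cd, [nat_lit 0, nat_lit 0, nat_lit 1, nat_lit 0, nat_lit 1], [nat_lit 0, nat_lit 0, nat_lit 0, nat_lit 0, nat_lit 0, nat_lit 0, nat_lit 0, nat_lit 0, nat_lit 0, nat_lit 23], []⟩)) (.leaf ⟨nat_lit 0, nat_lit 1, nat_lit 1, nat_lit 0, nat_lit 0x4b04f415c5, nat_lit 0x25e483d6d, [nat_lit 0, nat_lit 0, nat_lit 0, nat_lit 0, nat_lit 0, nat_lit 0, nat_lit 0, nat_lit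 0, nat_lit 1], [nat_lit 0, nat_lit 0, nat_lit 0, nat_lit 0, nat_lit 0, nat_lit 0, nat_lit 0, nat_lit 0, nat_lit 0, nat_lit 2], []⟩)) (.node (.node (.leaf ⟨nat_lit 0, nat_lit 1, nat_lit 1, nat_lit 0, nat_lit 0x8219022190a41902219022, nat_lit 0x520c85, [nat_lit 1], [nat_lit 0, nat_lit 0, nat_lit 0, nat_lit 0, nat_lit 0, nat_lit 0, nat_lit 0, nat_lit 0, nat_lit 11], []⟩) (.leaf ⟨nat_lit 1, nat_lit 10, nat_lit 10, nat_lit 0x13206285c1, nat_lit 0x47b56c2ad82, nat_lit 0x26922559443, [], [], []⟩)) (.leaf ⟨nat_lit 0, nat_lit 1, nat_lit 1, nat_lit 0, nat_lit 0x795c9, nat_lit 0x62361625, [], [nat_lit 0, nat_lit 0, nat_lit 0, nat_lit 0, nat_lit 0, nat_lit 0, nat_lit 0, nat_lit 0, nat_lit 0, nat_lit 1], []⟩))) (.node (.node (.node (.leaf ⟨nat_lit 0, nat_lit 0, nat_lit 0, nat_lit 0, nat_lit 0xc4120c45, nat_lit 0x144320443, [], [], []⟩) (.leaf ⟨nat_lit 0, nat_lit 1, nat_lit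 1, nat_lit 0, nat_lit 0x2b1eb79d62, nat_lit 0x10dc5798b0, [nat_lit 0, nat_lit 0, nat_lit 0, nat_lit 0, nat_lit 0, nat_lit 0, nat_lit 0, nat_lit 0, nat_lit 1], [nat_lit 0, nat_lit 0, nat_lit 0, nat_lit 0, nat_lit 0, nat_lit 0, nat_lit 0, nat_lit 0, nat_lit 0, nat_lit 2], []⟩)) (.leaf ⟨nat_lit 0, nat_lit 1, nat_lit 1, nat_lit 0, nat_lit 0x414c9, nat_lit 0x5498a8, [], [nat_lit 0, nat_lit 0, nat_lit 0, nat_lit 0, nat_lit 0, nat_lit 0, nat_lit 0, nat_lit 0, nat_lit 0, nat_lit 1], []⟩)) (.node (.leaf ⟨nat_lit 2, nat_lit 0, nat_lit 0, nat_lit 3, nat_lit 0, nat_lit 0, [], [nat_lit 0, nat_lit 0, nat_lit 0, nat_lit 0, nat_lit 0, nat_lit 0, nat_lit 1], [nat_lit 3]⟩) (.leaf ⟨nat_lit 0, nat_lit 1, nat_lit 1, nat_lit 0, nat_lit 0xe2542462, nat_lit 0xbded41dc5, [nat_lit 0, nat_lit 0, nat_lit 0, nat_lit 0, nat_lit 0, nat_lit 0, nat_lit 0, nat_lit 0, nat_lit 1], [nat_lit 0,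 nat_lit 0, nat_lit 0, nat_lit 0, nat_lit 0, nat_lit 0, nat_lit 0, nat_lit 0, nat_lit 0, nat_lit 3], []⟩))))

noncomputable def F2 : GT Fa := .node (.node (.node (.node (.node (.leaf ⟨nat_lit 0, nat_lit 0, nat_lit 0, nat_lit 0, nat_lit 1, nat_lit 1, [], [], []⟩) (.leaf ⟨nat_lit 0, nat_lit 1, nat_lit 1, nat_lit 0, nat_lit 0x1c5218b46e, nat_lit 0x8b8d1730e2, [nat_lit 0, nat_lit 0, nat_lit 0, nat_lit 0, nat_lit 0, nat_lit 0, nat_lit 0, nat_lit 0, nat_lit 1], [nat_lit 0, nat_lit 0, nat_lit 0, nat_lit 0, nat_lit 0, nat_lit 0, nat_lit 0, nat_lit 0, nat_lit 0, nat_lit 2], []⟩)) (.leaf ⟨nat_lit 2, nat_lit 0, nat_lit 0, nat_lit 8, nat_lit 0, nat_lit 0, [], [nat_lit 0, nat_lit 0, nat_lit 0, nat_lit 0, nat_lit 1], [nat_lit 8, nat_lit 8227]⟩)) (.node (.node (.leaf ⟨nat_lit 0, nat_lit 8, nat_lit 8, nat_lit 0, nat_lit 0x410c8110c8520c8219022, nat_lit 4196, [nat_lit 3, nat_lit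 0, nat_lit 0, nat_lit 0, nat_lit 0, nat_lit 0, nat_lit 0, nat_lit 1, nat_lit 5], [], []⟩) (.leaf ⟨nat_lit 0, nat_lit 0, nat_lit 0, nat_lit 0, nat_lit 0, nat_lit 0, [nat_lit 0, nat_lit 0, nat_lit 0, nat_lit 0, nat_lit 0, nat_lit 0, nat_lit 0, nat_lit 0, nat_lit 0, nat_lit 1], [], []⟩)) (.leaf ⟨nat_lit 0, nat_lit 1, nat_lit 1, nat_lit 0, nat_lit 0x11128da5, nat_lit 0x18521ccb, [], [nat_lit 0, nat_lit 0, nat_lit 0, nat_lit 0, nat_lit 0, nat_lit 0, nat_lit 0, nat_lit 0, nat_lit 0, nat_lit 2], []⟩))) (.node (.node (.node (.leaf ⟨nat_lit 1, nat_lit 1, nat_lit 9, nat_lit 4, nat_lit 0, nat_lit 0, [], [], []⟩) (.leaf ⟨nat_lit 0, nat_lit 1, nat_lit 1, nat_lit 0, nat_lit 0xec2b4a1, nat_lit 0x789605, [], [nat_lit 0, nat_lit 0, nat_lit 0, nat_lit 0, nat_lit 0, nat_lit 0, nat_lit 0, nat_lit 0, nat_lit 0, nat_lit 1], []⟩)) (.leaf ⟨nat_lit 0, nat_lit 1, nat_lit 1, nat_lit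 0, nat_lit 0x6320c4c043, nat_lit 0xa5f1229cd, [nat_lit 0, nat_lit 0, nat_lit 0, nat_lit 0, nat_lit 0, nat_lit 0, nat_lit 0, nat_lit 0, nat_lit 1], [nat_lit 0, nat_lit 0, nat_lit 0, nat_lit 0, nat_lit 0, nat_lit 0, nat_lit 0, nat_lit 0, nat_lit 0, nat_lit 2], []⟩)) (.node (.node (.leaf ⟨nat_lit 0, nat_lit 2, nat_lit 2, nat_lit 0, nat_lit 0x410c8110c852044320c41, nat_lit 0x1048310483110a418883, [nat_lit 1], [], []⟩) (.leaf ⟨nat_lit 0, nat_lit 0, nat_lit 0, nat_lit 0, nat_lit 0, nat_lit 0, [nat_lit 0, nat_lit 0, nat_lit 1], [], []⟩)) (.leaf ⟨nat_lit 0, nat_lit 1, nat_lit 1, nat_lit 0, nat_lit 0x40c27b0e2, nat_lit 0x3615a9, [], [nat_lit 0, nat_lit 0, nat_lit 0, nat_lit 0, nat_lit 0, nat_lit 0, nat_lit 0, nat_lit 0, nat_lit 0, nat_lit 1], []⟩)))) (.node (.node (.node (.node (.leaf ⟨nat_lit 1, nat_lit 1, nat_lit 2, nat_lit 2, nat_lit 0, nat_lit 0, [], [], []⟩) (.leaf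 ⟨nat_lit 0, nat_lit 1, nat_lit 1, nat_lit 0, nat_lit 0, nat_lit 0, [nat_lit 0, nat_lit 0, nat_lit 1, nat_lit 0, nat_lit 1, nat_lit 0, nat_lit 0, nat_lit 0, nat_lit 1], [nat_lit 0, nat_lit 0, nat_lit 0, nat_lit 0, nat_lit 0, nat_lit 0, nat_lit 0, nat_lit 0, nat_lit 0, nat_lit 22], []⟩)) (.leaf ⟨nat_lit 0, nat_lit 1, nat_lit 1, nat_lit 0, nat_lit 0x52168, nat_lit 0x328cb, [], [nat_lit 0, nat_lit 0, nat_lit 0, nat_lit 0, nat_lit 0, nat_lit 0, nat_lit 0, nat_lit 0, nat_lit 0, nat_lit 1], []⟩)) (.node (.node (.leaf ⟨nat_lit 0, nat_lit 1, nat_lit 1, nat_lit 0, nat_lit 0x864088642906410c22, nat_lit 0x8823110642906209062, [], [nat_lit 0, nat_lit 0, nat_lit 0, nat_lit 0, nat_lit 0, nat_lit 0, nat_lit 0, nat_lit 0, nat_lit 44], []⟩) (.leaf ⟨nat_lit 1, nat_lit 1, nat_lit 1, nat_lit 0x33a8301c182, nat_lit 0xc4ab28609, nat_lit 0x619875ada1, [nat_lit 0, nat_lit 0, nat_lit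 0, nat_lit 0, nat_lit 1], [], []⟩)) (.leaf ⟨nat_lit 0, nat_lit 1, nat_lit 1, nat_lit 0, nat_lit 0xb0a279822, nat_lit 0x49a25440c3, [], [nat_lit 0, nat_lit 0, nat_lit 0, nat_lit 0, nat_lit 0, nat_lit 0, nat_lit 0, nat_lit 0, nat_lit 0, nat_lit 2], []⟩))) (.node (.node (.node (.leaf ⟨nat_lit 0, nat_lit 9, nat_lit 9, nat_lit 0, nat_lit 0x28c83, nat_lit 164, [nat_lit 0, nat_lit 0, nat_lit 0, nat_lit 0, nat_lit 0, nat_lit 0, nat_lit 2, nat_lit 1], [nat_lit 1, nat_lit 0, nat_lit 0, nat_lit 0, nat_lit 0, nat_lit 0, nat_lit 0, nat_lit 0, nat_lit 2], []⟩) (.leaf ⟨nat_lit 0, nat_lit 1, nat_lit 1, nat_lit 0, nat_lit 0x11d8e8adc2, nat_lit 0x129c5691aa, [nat_lit 0, nat_lit 0, nat_lit 0, nat_lit 0, nat_lit 0, nat_lit 0, nat_lit 0, nat_lit 0, nat_lit 1], [nat_lit 0, nat_lit 0, nat_lit 0, nat_lit 0, nat_lit 0, nat_lit 0, nat_lit 0, nat_lit 0, nat_lit 0, nat_lit 2], []⟩))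 (.leaf ⟨nat_lit 0, nat_lit 1, nat_lit 1, nat_lit 0, nat_lit 0x125795c9, nat_lit 0x653bcae, [], [nat_lit 0, nat_lit 0, nat_lit 0, nat_lit 0, nat_lit 0, nat_lit 0, nat_lit 0, nat_lit 0, nat_lit 0, nat_lit 1], []⟩)) (.node (.leaf ⟨nat_lit 0, nat_lit 0, nat_lit 0, nat_lit 0, nat_lit 3, nat_lit 3, [], [], []⟩) (.leaf ⟨nat_lit 0, nat_lit 1, nat_lit 1, nat_lit 0, nat_lit 0x8b931438a1, nat_lit 0x2883745c8, [], [nat_lit 0, nat_lit 0, nat_lit 0, nat_lit 0, nat_lit 0, nat_lit 0, nat_lit 0, nat_lit 0, nat_lit 0, nat_lit 3], []⟩))))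

noncomputable def F3 : GT Fa := .node (.node (.node (.node (.node (.leaf ⟨nat_lit 0, nat_lit 1, nat_lit 1, nat_lit 0, nat_lit 1, nat_lit 1, [], [nat_lit 0, nat_lit 0, nat_lit 0, nat_lit 0, nat_lit 0, nat_lit 1], []⟩) (.leaf ⟨nat_lit 0, nat_lit 1, nat_lit 1, nat_lit 0, nat_lit 0x630b07be02, nat_lit 0x608af2a5c3, [nat_lit 0, nat_lit 0, nat_lit 0, nat_lit 0, nat_lit 0, nat_lit 0, nat_lit 0, nat_lit 0, nat_lit 1], [nat_lit 0, nat_lit 0, nat_lit 0, nat_lit 0, nat_lit 0, nat_lit 0, nat_lit 0, nat_lit 0, nat_lit 0, nat_lit 2], []⟩)) (.leaf ⟨nat_lit 2, nat_lit 0, nat_lit 0, nat_lit 6241, nat_lit 0, nat_lit 0, [], [], [nat_lit 6, nat_lit 1126]⟩)) (.node (.node (.leaf ⟨nat_lit 0, nat_lit 8, nat_lit 8, nat_lit 0, nat_lit 0, nat_lit 0, [nat_lit 0, nat_lit 0, nat_lit 0, nat_lit 0, nat_lit 0, nat_lit 0, nat_lit 0, nat_lit 1, nat_lit 2], [nat_lit 2], []⟩) (.leaf ⟨nat_lit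 1, nat_lit 1, nat_lit 10, nat_lit 4, nat_lit 0, nat_lit 0, [], [], []⟩)) (.leaf ⟨nat_lit 0, nat_lit 1, nat_lit 1, nat_lit 0, nat_lit 0x60e06, nat_lit 0x498a8, [], [nat_lit 0, nat_lit 0, nat_lit 0, nat_lit 0, nat_lit 0, nat_lit 0, nat_lit 0, nat_lit 0, nat_lit 0, nat_lit 1], []⟩))) (.node (.node (.node (.leaf ⟨nat_lit 0, nat_lit 9, nat_lit 9, nat_lit 0, nat_lit 1, nat_lit 1, [nat_lit 0, nat_lit 0, nat_lit 0, nat_lit 0, nat_lit 0, nat_lit 0, nat_lit 1, nat_lit 2, nat_lit 2], [nat_lit 0, nat_lit 0, nat_lit 0, nat_lit 0, nat_lit 0, nat_lit 1], []⟩) (.leaf ⟨nat_lit 0, nat_lit 1, nat_lit 1, nat_lit 0, nat_lit 0x1114f1bdb1, nat_lit 0x96216a62e, [], [nat_lit 0, nat_lit 0, nat_lit 0, nat_lit 0, nat_lit 0, nat_lit 0, nat_lit 0, nat_lit 0, nat_lit 0, nat_lit 2], []⟩)) (.leaf ⟨nat_lit 0, nat_lit 1, nat_lit 1, nat_lit 0, nat_lit 0x615af2b8a1, nat_lit 0xa628745c3, [], [nat_lit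 0, nat_lit 0, nat_lit 0, nat_lit 0, nat_lit 0, nat_lit 0, nat_lit 0, nat_lit 0, nat_lit 0, nat_lit 2], []⟩)) (.node (.node (.leaf ⟨nat_lit 0, nat_lit 2, nat_lit 2, nat_lit 0, nat_lit 0, nat_lit 0, [nat_lit 1], [], []⟩) (.leaf ⟨nat_lit 0, nat_lit 0, nat_lit 0, nat_lit 0, nat_lit 0, nat_lit 0, [nat_lit 0, nat_lit 1], [], []⟩)) (.leaf ⟨nat_lit 0, nat_lit 1, nat_lit 1, nat_lit 0, nat_lit 0x12c2b4a3, nat_lit 0x6c2912b, [], [nat_lit 0, nat_lit 0, nat_lit 0, nat_lit 0, nat_lit 0, nat_lit 0, nat_lit 0, nat_lit 0, nat_lit 0, nat_lit 1], []⟩)))) (.node (.node (.node (.node (.leaf ⟨nat_lit 0, nat_lit 2, nat_lit 2, nat_lit 0, nat_lit 0x142218441, nat_lit 0x44118825, [], [nat_lit 0, nat_lit 0, nat_lit 0, nat_lit 0, nat_lit 0, nat_lit 0, nat_lit 0, nat_lit 1], []⟩) (.leaf ⟨nat_lit 0, nat_lit 1, nat_lit 1, nat_lit 0, nat_lit 0x158569461, nat_lit 0x11b0ad, [], [nat_lit 0,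 nat_lit 0, nat_lit 0, nat_lit 0, nat_lit 0, nat_lit 0, nat_lit 0, nat_lit 0, nat_lit 0, nat_lit 1], []⟩)) (.leaf ⟨nat_lit 0, nat_lit 1, nat_lit 1, nat_lit 0, nat_lit 0x31507, nat_lit 0x4446d, [], [nat_lit 0, nat_lit 0, nat_lit 0, nat_lit 0, nat_lit 0, nat_lit 0, nat_lit 0, nat_lit 0, nat_lit 0, nat_lit 1], []⟩)) (.node (.node (.leaf ⟨nat_lit 0, nat_lit 1, nat_lit 1, nat_lit 0, nat_lit 0x148219022190a41904320441, nat_lit 0x412906220c8520c4120c44, [], [nat_lit 0, nat_lit 0, nat_lit 0, nat_lit 0, nat_lit 0, nat_lit 0, nat_lit 0, nat_lit 0, nat_lit 44], []⟩) (.leaf ⟨nat_lit 0, nat_lit 1, nat_lit 1, nat_lit 0, nat_lit 0x1415ec74121, nat_lit 0x62f319ae, [nat_lit 0, nat_lit 0, nat_lit 0, nat_lit 0, nat_lit 1], [], []⟩)) (.leaf ⟨nat_lit 0, nat_lit 1, nat_lit 1, nat_lit 0, nat_lit 0xa66150d, nat_lit 0x253889838c1, [], [nat_lit 0, nat_lit 0, nat_lit 0, nat_lit 0, nat_lit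 0, nat_lit 0, nat_lit 0, nat_lit 0, nat_lit 0, nat_lit 2], []⟩))) (.node (.node (.node (.leaf ⟨nat_lit 2, nat_lit 0, nat_lit 0, nat_lit 4193, nat_lit 0, nat_lit 0, [nat_lit 0, nat_lit 0, nat_lit 0, nat_lit 0, nat_lit 0, nat_lit 0, nat_lit 2, nat_lit 1], [nat_lit 1, nat_lit 0, nat_lit 0, nat_lit 0, nat_lit 1, nat_lit 0, nat_lit 0, nat_lit 0, nat_lit 2], [nat_lit 164, nat_lit 4131, nat_lit 0x28c81]⟩) (.leaf ⟨nat_lit 0, nat_lit 1, nat_lit 1, nat_lit 0, nat_lit 0x1214e51dcd, nat_lit 0x22b1d15b841, [nat_lit 0, nat_lit 0, nat_lit 0, nat_lit 0, nat_lit 0, nat_lit 0, nat_lit 0, nat_lit 0, nat_lit 1], [nat_lit 0, nat_lit 0, nat_lit 0, nat_lit 0, nat_lit 0, nat_lit 0, nat_lit 0, nat_lit 0, nat_lit 0, nat_lit 2], []⟩)) (.leaf ⟨nat_lit 0, nat_lit 1, nat_lit 1, nat_lit 0, nat_lit 0x1e6395c6, nat_lit 0x90a48ad0d, [], [nat_lit 0, nat_lit 0, nat_lit 0, nat_lit 0, nat_lit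 0, nat_lit 0, nat_lit 0, nat_lit 0, nat_lit 0, nat_lit 2], []⟩)) (.node (.leaf ⟨nat_lit 0, nat_lit 1, nat_lit 1, nat_lit 0, nat_lit 3, nat_lit 3, [], [], []⟩) (.leaf ⟨nat_lit 0, nat_lit 1, nat_lit 1, nat_lit 0, nat_lit 0x630ae80561, nat_lit 0x3e2a8b62e, [], [nat_lit 0, nat_lit 0, nat_lit 0, nat_lit 0, nat_lit 0, nat_lit 0, nat_lit 0, nat_lit 0, nat_lit 0, nat_lit 2], []⟩))))

noncomputable def F4 : GT Fa := .node (.node (.node (.node (.node (.leaf ⟨nat_lit 2, nat_lit 0, nat_lit 0, nat_lit 3, nat_lit 0, nat_lit 0, [], [nat_lit 0, nat_lit 0, nat_lit 0, nat_lit 0, nat_lit 0, nat_lit 0, nat_lit 1], [nat_lit 3]⟩) (.leaf ⟨nat_lit 0, nat_lit 1, nat_lit 1, nat_lit 0, nat_lit 0x22e89422, nat_lit 0x580a25, [nat_lit 0, nat_lit 0, nat_lit 0, nat_lit 0, nat_lit 0, nat_lit 0, nat_lit 0, nat_lit 0, nat_lit 1], [], []⟩)) (.leaf ⟨nat_lit 2, nat_lit 0, nat_lit 0, nat_lit 8289,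 nat_lit 0, nat_lit 0, [], [nat_lit 0, nat_lit 0, nat_lit 1, nat_lit 0, nat_lit 3], [nat_lit 6179, nat_lit 8, nat_lit 6179, nat_lit 8, nat_lit 6179, nat_lit 8289, nat_lit 6179]⟩)) (.node (.node (.leaf ⟨nat_lit 0, nat_lit 0, nat_lit 0, nat_lit 0, nat_lit 0, nat_lit 0, [nat_lit 2, nat_lit 0, nat_lit 0, nat_lit 0, nat_lit 0, nat_lit 0, nat_lit 0, nat_lit 1], [nat_lit 0, nat_lit 0, nat_lit 0, nat_lit 0, nat_lit 0, nat_lit 0, nat_lit 0, nat_lit 0, nat_lit 2], []⟩) (.leaf ⟨nat_lit 0, nat_lit 10, nat_lit 10, nat_lit 0, nat_lit 0x19f02302a, nat_lit 0x221335f0, [], [], []⟩)) (.leaf ⟨nat_lit 0, nat_lit 1, nat_lit 1, nat_lit 0, nat_lit 0x12f2b921, nat_lit 0x7188db0, [], [nat_lit 0, nat_lit 0, nat_lit 0, nat_lit 0, nat_lit 0, nat_lit 0, nat_lit 0, nat_lit 0, nat_lit 0, nat_lit 1], []⟩))) (.node (.node (.node (.leaf ⟨nat_lit 0, nat_lit 0, nat_lit 0, nat_lit 0, nat_lit 35973,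 nat_lit 0x29061, [], [], []⟩) (.leaf ⟨nat_lit 0, nat_lit 1, nat_lit 1, nat_lit 0, nat_lit 0x10c130e2, nat_lit 0x51189ad, [], [nat_lit 0, nat_lit 0, nat_lit 0, nat_lit 0, nat_lit 0, nat_lit 0, nat_lit 0, nat_lit 0, nat_lit 0, nat_lit 2], []⟩)) (.leaf ⟨nat_lit 0, nat_lit 0, nat_lit 0, nat_lit 0, nat_lit 0xb0ad1344d, nat_lit 0x60982615a1, [], [], []⟩)) (.node (.node (.leaf ⟨nat_lit 1, nat_lit 2, nat_lit 1, nat_lit 0x29043214432044321464, nat_lit 0x20c8510c8320864, nat_lit 0x1110642906209062, [nat_lit 0, nat_lit 0, nat_lit 0, nat_lit 0, nat_lit 0, nat_lit 0, nat_lit 0, nat_lit 0, nat_lit 1], [nat_lit 0, nat_lit 1], []⟩) (.leaf ⟨nat_lit 0, nat_lit 0, nat_lit 0, nat_lit 0, nat_lit 0, nat_lit 0, [nat_lit 1], [], []⟩)) (.leaf ⟨nat_lit 0, nat_lit 1, nat_lit 1, nat_lit 0, nat_lit 0x94e3bd6d, nat_lit 0x135312a601, [nat_lit 0, nat_lit 0, nat_lit 0, nat_lit 0, nat_lit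 0, nat_lit 0, nat_lit 0, nat_lit 0, nat_lit 1], [nat_lit 0, nat_lit 0, nat_lit 0, nat_lit 0, nat_lit 0, nat_lit 0, nat_lit 0, nat_lit 0, nat_lit 0, nat_lit 1], []⟩)))) (.node (.node (.node (.node (.leaf ⟨nat_lit 0, nat_lit 2, nat_lit 2, nat_lit 0, nat_lit 5, nat_lit 5, [nat_lit 0, nat_lit 0, nat_lit 0, nat_lit 0, nat_lit 0, nat_lit 2], [], []⟩) (.leaf ⟨nat_lit 0, nat_lit 1, nat_lit 1, nat_lit 0, nat_lit 0x1b20b1b605, nat_lit 0x3c705c1c5, [], [nat_lit 0, nat_lit 0, nat_lit 0, nat_lit 0, nat_lit 0, nat_lit 0, nat_lit 0, nat_lit 0, nat_lit 0, nat_lit 2], []⟩)) (.leaf ⟨nat_lit 0, nat_lit 1, nat_lit 1, nat_lit 0, nat_lit 0x4183c50, nat_lit 0x329064, [nat_lit 0, nat_lit 0, nat_lit 0, nat_lit 0, nat_lit 0, nat_lit 0, nat_lit 0, nat_lit 0, nat_lit 1], [], []⟩)) (.node (.node (.leaf ⟨nat_lit 0, nat_lit 1, nat_lit 1, nat_lit 0, nat_lit 0x520c8510c8110c8520c83, nat_lit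 0x11046220c85, [nat_lit 1], [nat_lit 0, nat_lit 0, nat_lit 0, nat_lit 0, nat_lit 0, nat_lit 0, nat_lit 0, nat_lit 0, nat_lit 12], []⟩) (.leaf ⟨nat_lit 0, nat_lit 1, nat_lit 1, nat_lit 0, nat_lit 0, nat_lit 0, [nat_lit 0, nat_lit 0, nat_lit 0, nat_lit 0, nat_lit 1], [], []⟩)) (.leaf ⟨nat_lit 0, nat_lit 1, nat_lit 1, nat_lit 0, nat_lit 0x3e077c182, nat_lit 0xa5ef4b5c5, [nat_lit 0, nat_lit 0, nat_lit 0, nat_lit 0, nat_lit 0, nat_lit 0, nat_lit 0, nat_lit 0, nat_lit 1], [nat_lit 0, nat_lit 0, nat_lit 0, nat_lit 0, nat_lit 0, nat_lit 0, nat_lit 0, nat_lit 0, nat_lit 0, nat_lit 2], []⟩))) (.node (.node (.node (.leaf ⟨nat_lit 1, nat_lit 3, nat_lit 1, nat_lit 0x28c83, nat_lit 0x20c8519064, nat_lit 133, [nat_lit 0, nat_lit 0, nat_lit 0, nat_lit 0, nat_lit 1, nat_lit 0, nat_lit 0, nat_lit 0, nat_lit 4], [nat_lit 0, nat_lit 0, nat_lit 0, nat_lit 0, nat_lit 0, nat_lit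 0, nat_lit 2], []⟩) (.leaf ⟨nat_lit 0, nat_lit 1, nat_lit 1, nat_lit 0, nat_lit 0x25392a28621, nat_lit 0x825421c3, [nat_lit 0, nat_lit 0, nat_lit 0, nat_lit 0, nat_lit 0, nat_lit 0, nat_lit 0, nat_lit 0, nat_lit 1], [nat_lit 0, nat_lit 0, nat_lit 0, nat_lit 0, nat_lit 0, nat_lit 0, nat_lit 0, nat_lit 0, nat_lit 0, nat_lit 1], []⟩)) (.leaf ⟨nat_lit 0, nat_lit 1, nat_lit 1, nat_lit 0, nat_lit 0x3cca411ce, nat_lit 0xc42c80609, [nat_lit 0, nat_lit 0, nat_lit 0, nat_lit 0, nat_lit 0, nat_lit 0, nat_lit 0, nat_lit 0, nat_lit 1], [nat_lit 0, nat_lit 0, nat_lit 0, nat_lit 0, nat_lit 0, nat_lit 0, nat_lit 0, nat_lit 0, nat_lit 0, nat_lit 2], []⟩)) (.node (.leaf ⟨nat_lit 2, nat_lit 0, nat_lit 0, nat_lit 5, nat_lit 0, nat_lit 0, [], [nat_lit 0, nat_lit 0, nat_lit 0, nat_lit 0, nat_lit 0, nat_lit 0, nat_lit 0, nat_lit 1], [nat_lit 5]⟩) (.leaf ⟨nat_lit 0, nat_lit 1, nat_lit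 1, nat_lit 0, nat_lit 0x125615a5, nat_lit 0x615a9, [], [nat_lit 0, nat_lit 0, nat_lit 0, nat_lit 0, nat_lit 0, nat_lit 0, nat_lit 0, nat_lit 0, nat_lit 0, nat_lit 1], []⟩))))

noncomputable def F5 : GT Fa := .node (.node (.node (.node (.node (.leaf ⟨nat_lit 0, nat_lit 0, nat_lit 0, nat_lit 0, nat_lit 3, nat_lit 3, [], [], []⟩) (.leaf ⟨nat_lit 0, nat_lit 1, nat_lit 1, nat_lit 0, nat_lit 0xca66150d, nat_lit 0x2a1e5714c5, [], [nat_lit 0, nat_lit 0, nat_lit 0, nat_lit 0, nat_lit 0, nat_lit 0, nat_lit 0, nat_lit 0, nat_lit 0, nat_lit 2], []⟩)) (.leaf ⟨nat_lit 2, nat_lit 0, nat_lit 0, nat_lit 8289, nat_lit 0, nat_lit 0, [], [nat_lit 0, nat_lit 0, nat_lit 1, nat_lit 0, nat_lit 3], [nat_lit 6179, nat_lit 8, nat_lit 6179, nat_lit 8289, nat_lit 6179, nat_lit 8, nat_lit 6179]⟩)) (.node (.node (.leaf ⟨nat_lit 1, nat_lit 8, nat_lit 1, nat_lit 0x520c8110c22, nat_lit 4,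 nat_lit 4196, [nat_lit 0, nat_lit 0, nat_lit 0, nat_lit 0, nat_lit 1, nat_lit 0, nat_lit 0, nat_lit 0, nat_lit 3], [], []⟩) (.leaf ⟨nat_lit 0, nat_lit 10, nat_lit 10, nat_lit 0, nat_lit 0x25f07c0c6, nat_lit 0x61d858a182, [], [], []⟩)) (.leaf ⟨nat_lit 0, nat_lit 1, nat_lit 1, nat_lit 0, nat_lit 0x310c2c501, nat_lit 0x30a439963, [], [nat_lit 0, nat_lit 0, nat_lit 0, nat_lit 0, nat_lit 0, nat_lit 0, nat_lit 0, nat_lit 0, nat_lit 0, nat_lit 2], []⟩))) (.node (.node (.node (.leaf ⟨nat_lit 0, nat_lit 9, nat_lit 9, nat_lit 0, nat_lit 4257, nat_lit 0x119065, [], [nat_lit 1, nat_lit 0, nat_lit 0, nat_lit 0, nat_lit 0, nat_lit 1, nat_lit 1, nat_lit 2], []⟩) (.leaf ⟨nat_lit 0, nat_lit 1, nat_lit 1, nat_lit 0, nat_lit 0x5a18f50581, nat_lit 0x16123d0b, [nat_lit 0, nat_lit 0, nat_lit 0, nat_lit 0, nat_lit 0, nat_lit 0, nat_lit 0, nat_lit 0, nat_lit 1], [nat_lit 0, nat_lit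 0, nat_lit 0, nat_lit 0, nat_lit 0, nat_lit 0, nat_lit 0, nat_lit 0, nat_lit 0, nat_lit 1], []⟩)) (.leaf ⟨nat_lit 1, nat_lit 1, nat_lit 1, nat_lit 0x1be0f3c0c1, nat_lit 6241, nat_lit 0xb04c130ad, [nat_lit 0, nat_lit 0, nat_lit 0, nat_lit 0, nat_lit 1], [nat_lit 0, nat_lit 0, nat_lit 0, nat_lit 0, nat_lit 0, nat_lit 0, nat_lit 0, nat_lit 0, nat_lit 0, nat_lit 3], []⟩)) (.node (.leaf ⟨nat_lit 0, nat_lit 1, nat_lit 1, nat_lit 0, nat_lit 0x520c85, nat_lit 0x4120c441906520c4120c44, [nat_lit 0, nat_lit 0, nat_lit 0, nat_lit 0, nat_lit 0, nat_lit 0, nat_lit 0, nat_lit 0, nat_lit 1], [], []⟩) (.leaf ⟨nat_lit 0, nat_lit 1, nat_lit 1, nat_lit 0, nat_lit 0xf2b923, nat_lit 0x12689608, [], [nat_lit 0, nat_lit 0, nat_lit 0, nat_lit 0, nat_lit 0, nat_lit 0, nat_lit 0, nat_lit 0, nat_lit 0, nat_lit 1], []⟩)))) (.node (.node (.node (.node (.leaf ⟨nat_lit 0, nat_lit 2, nat_lit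 2, nat_lit 0, nat_lit 68642, nat_lit 1125, [nat_lit 0, nat_lit 0, nat_lit 0, nat_lit 0, nat_lit 0, nat_lit 1, nat_lit 1, nat_lit 1], [nat_lit 0, nat_lit 0, nat_lit 0, nat_lit 0, nat_lit 0, nat_lit 0, nat_lit 0, nat_lit 0, nat_lit 1], []⟩) (.leaf ⟨nat_lit 0, nat_lit 1, nat_lit 1, nat_lit 0, nat_lit 0x25f079a05, nat_lit 0x4b143a2e, [], [nat_lit 0, nat_lit 0, nat_lit 0, nat_lit 0, nat_lit 0, nat_lit 0, nat_lit 0, nat_lit 0, nat_lit 0, nat_lit 3], []⟩)) (.leaf ⟨nat_lit 0, nat_lit 1, nat_lit 1, nat_lit 0, nat_lit 0xcf2b903, nat_lit 0x26795c8, [], [], []⟩)) (.node (.node (.leaf ⟨nat_lit 0, nat_lit 7, nat_lit 4, nat_lit 0, nat_lit 0x20c82190a110c8321483, nat_lit 0, [nat_lit 1], [nat_lit 0, nat_lit 0, nat_lit 0, nat_lit 0, nat_lit 0, nat_lit 0, nat_lit 0, nat_lit 0, nat_lit 56], []⟩) (.leaf ⟨nat_lit 1, nat_lit 10, nat_lit 1, nat_lit 0x894c4b5c5, nat_lit 0x310160c81,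 nat_lit 0x12e2b19d6b, [], [], []⟩)) (.leaf ⟨nat_lit 0, nat_lit 1, nat_lit 1, nat_lit 0, nat_lit 0x2be077c182, nat_lit 0x52f7a5ae, [nat_lit 0, nat_lit 0, nat_lit 0, nat_lit 0, nat_lit 0, nat_lit 0, nat_lit 0, nat_lit 0, nat_lit 1], [nat_lit 0, nat_lit 0, nat_lit 0, nat_lit 0, nat_lit 0, nat_lit 0, nat_lit 0, nat_lit 0, nat_lit 0, nat_lit 2], []⟩))) (.node (.node (.node (.leaf ⟨nat_lit 0, nat_lit 3, nat_lit 3, nat_lit 0, nat_lit 0x190a3, nat_lit 133, [nat_lit 0, nat_lit 0, nat_lit 0, nat_lit 0, nat_lit 0, nat_lit 0, nat_lit 0, nat_lit 0, nat_lit 4], [nat_lit 0, nat_lit 0, nat_lit 0, nat_lit 0, nat_lit 0, nat_lit 0, nat_lit 2], []⟩) (.leaf ⟨nat_lit 0, nat_lit 0, nat_lit 0, nat_lit 0, nat_lit 0xcf609cd, nat_lit 0x18f135c8, [], [], []⟩)) (.leaf ⟨nat_lit 0, nat_lit 1, nat_lit 1, nat_lit 0, nat_lit 0x1be0f34121, nat_lit 0x4c50e8b8e3, [], [nat_lit 0, nat_lit 0, nat_lit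 0, nat_lit 0, nat_lit 0, nat_lit 0, nat_lit 0, nat_lit 0, nat_lit 0, nat_lit 2], []⟩)) (.node (.leaf ⟨nat_lit 0, nat_lit 0, nat_lit 0, nat_lit 0, nat_lit 5, nat_lit 5, [], [], []⟩) (.leaf ⟨nat_lit 0, nat_lit 1, nat_lit 1, nat_lit 0, nat_lit 0x45c78b982, nat_lit 0x30518a610, [nat_lit 0, nat_lit 0, nat_lit 0, nat_lit 0, nat_lit 0, nat_lit 0, nat_lit 0, nat_lit 0, nat_lit 1], [nat_lit 0, nat_lit 0, nat_lit 0, nat_lit 0, nat_lit 0, nat_lit 0, nat_lit 0, nat_lit 0, nat_lit 0, nat_lit 1], []⟩))))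

noncomputable def F6 : GT Fa := .node (.node (.node (.node (.node (.leaf ⟨nat_lit 0, nat_lit 1, nat_lit 1, nat_lit 0, nat_lit 3, nat_lit 3, [], [nat_lit 0, nat_lit 0, nat_lit 0, nat_lit 0, nat_lit 0, nat_lit 0, nat_lit 1], []⟩) (.leaf ⟨nat_lit 0, nat_lit 1, nat_lit 1, nat_lit 0, nat_lit 0x9615a5, nat_lit 0xc2912b, [], [nat_lit 0, nat_lit 0, nat_lit 0, nat_lit 0, nat_lit 0, nat_lit 0, nat_lit 0, nat_lit 0, nat_lit 0, nat_lit 1], []⟩)) (.leaf ⟨nat_lit 2, nat_lit 0, nat_lit 0, nat_lit 8, nat_lit 0, nat_lit 0, [nat_lit 0, nat_lit 0, nat_lit 1], [nat_lit 0, nat_lit 0, nat_lit 0, nat_lit 0, nat_lit 3], [nat_lit 6, nat_lit 8227, nat_lit 6, nat_lit 8227, nat_lit 6, nat_lit 8227, nat_lit 1126]⟩)) (.node (.node (.leaf ⟨nat_lit 0, nat_lit 1, nat_lit 1, nat_lit 0, nat_lit 0, nat_lit 0, [nat_lit 0, nat_lit 0, nat_lit 0, nat_lit 0, nat_lit 0, nat_lit 0, nat_lit 0, nat_lit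 1], [], []⟩) (.leaf ⟨nat_lit 0, nat_lit 10, nat_lit 10, nat_lit 0, nat_lit 0x989135a3, nat_lit 0x9a253c182, [], [], []⟩)) (.leaf ⟨nat_lit 0, nat_lit 1, nat_lit 1, nat_lit 0, nat_lit 0x115112e05, nat_lit 0x30a66a0a3, [], [nat_lit 0, nat_lit 0, nat_lit 0, nat_lit 0, nat_lit 0, nat_lit 0, nat_lit 0, nat_lit 0, nat_lit 0, nat_lit 2], []⟩))) (.node (.node (.node (.leaf ⟨nat_lit 0, nat_lit 9, nat_lit 9, nat_lit 0, nat_lit 133, nat_lit 0x19065, [], [nat_lit 1, nat_lit 0, nat_lit 0, nat_lit 0, nat_lit 0, nat_lit 0, nat_lit 2, nat_lit 4, nat_lit 2], []⟩) (.leaf ⟨nat_lit 0, nat_lit 1, nat_lit 1, nat_lit 0, nat_lit 0x44a848862, nat_lit 0x3ded41dc5, [nat_lit 0, nat_lit 0, nat_lit 0, nat_lit 0, nat_lit 0, nat_lit 0, nat_lit 0, nat_lit 0, nat_lit 1], [nat_lit 0, nat_lit 0, nat_lit 0, nat_lit 0, nat_lit 0, nat_lit 0, nat_lit 0, nat_lit 0, nat_lit 0, nat_lit 3], []⟩)) (.leaf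 ⟨nat_lit 0, nat_lit 1, nat_lit 1, nat_lit 0, nat_lit 0x145af1b9a9, nat_lit 0x4c22da6, [nat_lit 0, nat_lit 0, nat_lit 0, nat_lit 0, nat_lit 0, nat_lit 0, nat_lit 0, nat_lit 0, nat_lit 1], [nat_lit 0, nat_lit 0, nat_lit 0, nat_lit 0, nat_lit 0, nat_lit 0, nat_lit 0, nat_lit 0, nat_lit 0, nat_lit 1], []⟩)) (.node (.leaf ⟨nat_lit 0, nat_lit 1, nat_lit 1, nat_lit 0, nat_lit 0x20c85, nat_lit 0x823110a4190620948311064, [nat_lit 0, nat_lit 0, nat_lit 0, nat_lit 0, nat_lit 0, nat_lit 0, nat_lit 0, nat_lit 0, nat_lit 1], [], []⟩) (.leaf ⟨nat_lit 0, nat_lit 1, nat_lit 1, nat_lit 0, nat_lit 0xf2b921, nat_lit 0x22361625, [], [nat_lit 0, nat_lit 0, nat_lit 0, nat_lit 0, nat_lit 0, nat_lit 0, nat_lit 0, nat_lit 0, nat_lit 0, nat_lit 1], []⟩)))) (.node (.node (.node (.node (.leaf ⟨nat_lit 0, nat_lit 2, nat_lit 2, nat_lit 0, nat_lit 5217, nat_lit 66658, [nat_lit 0, nat_lit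 0, nat_lit 0, nat_lit 0, nat_lit 0, nat_lit 1, nat_lit 1, nat_lit 2], [nat_lit 0, nat_lit 0, nat_lit 0, nat_lit 0, nat_lit 0, nat_lit 0, nat_lit 0, nat_lit 0, nat_lit 1], []⟩) (.leaf ⟨nat_lit 0, nat_lit 1, nat_lit 1, nat_lit 0, nat_lit 0x12b1eb79d62, nat_lit 0x49a268aa22, [nat_lit 0, nat_lit 0, nat_lit 0, nat_lit 0, nat_lit 0, nat_lit 0, nat_lit 0, nat_lit 0, nat_lit 1], [nat_lit 0, nat_lit 0, nat_lit 0, nat_lit 0, nat_lit 0, nat_lit 0, nat_lit 0, nat_lit 0, nat_lit 0, nat_lit 2], []⟩)) (.leaf ⟨nat_lit 0, nat_lit 1, nat_lit 1, nat_lit 0, nat_lit 0x310510d82, nat_lit 0x4d114cd, [], [nat_lit 0, nat_lit 0, nat_lit 0, nat_lit 0, nat_lit 0, nat_lit 0, nat_lit 0, nat_lit 0, nat_lit 0, nat_lit 1], []⟩)) (.node (.node (.leaf ⟨nat_lit 0, nat_lit 1, nat_lit 1, nat_lit 0, nat_lit 97, nat_lit 35, [], [], []⟩) (.leaf ⟨nat_lit 0, nat_lit 10, nat_lit 10, nat_lit 0, nat_lit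 0x26251418b, nat_lit 0x1196c298cb, [], [], []⟩)) (.leaf ⟨nat_lit 0, nat_lit 1, nat_lit 1, nat_lit 0, nat_lit 0x9d8828982, nat_lit 0x13622194c2, [], [nat_lit 0, nat_lit 0, nat_lit 0, nat_lit 0, nat_lit 0, nat_lit 0, nat_lit 0, nat_lit 0, nat_lit 0, nat_lit 1], []⟩))) (.node (.node (.node (.leaf ⟨nat_lit 0, nat_lit 1, nat_lit 1, nat_lit 0, nat_lit 0, nat_lit 0, [nat_lit 0, nat_lit 0, nat_lit 0, nat_lit 0, nat_lit 0, nat_lit 0, nat_lit 0, nat_lit 2], [], []⟩) (.leaf ⟨nat_lit 0, nat_lit 1, nat_lit 1, nat_lit 0, nat_lit 0x9b173030, nat_lit 0x9eb7956b, [], [nat_lit 0, nat_lit 0, nat_lit 0, nat_lit 0, nat_lit 0, nat_lit 0, nat_lit 0, nat_lit 0, nat_lit 0, nat_lit 35], []⟩)) (.leaf ⟨nat_lit 0, nat_lit 1, nat_lit 1, nat_lit 0, nat_lit 0x5b9440a901, nat_lit 0x15f079a09, [], [nat_lit 0, nat_lit 0, nat_lit 0, nat_lit 0, nat_lit 0, nat_lit 0, nat_lit 0, nat_lit 0, nat_lit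 0, nat_lit 2], []⟩)) (.node (.leaf ⟨nat_lit 0, nat_lit 1, nat_lit 1, nat_lit 0, nat_lit 5, nat_lit 5, [], [], []⟩) (.leaf ⟨nat_lit 0, nat_lit 1, nat_lit 1, nat_lit 0, nat_lit 0x1116c2b4c9, nat_lit 0x1a5f079462, [nat_lit 0, nat_lit 0, nat_lit 0, nat_lit 0, nat_lit 0, nat_lit 0, nat_lit 0, nat_lit 0, nat_lit 1], [nat_lit 0, nat_lit 0, nat_lit 0, nat_lit 0, nat_lit 0, nat_lit 0, nat_lit 0, nat_lit 0, nat_lit 0, nat_lit 2], []⟩))))

noncomputable def F7 : GT Fa := .node (.node (.node (.node (.node (.leaf ⟨nat_lit 2, nat_lit 0, nat_lit 0, nat_lit 5, nat_lit 0, nat_lit 0, [], [nat_lit 0, nat_lit 0, nat_lit 0, nat_lit 0, nat_lit 0, nat_lit 0, nat_lit 0, nat_lit 1], [nat_lit 5]⟩) (.leaf ⟨nat_lit 0, nat_lit 1, nat_lit 1, nat_lit 0, nat_lit 0x8b8e18b982, nat_lit 0x62de5499c4, [nat_lit 0, nat_lit 0, nat_lit 0, nat_lit 0, nat_lit 0, nat_lit 0, nat_lit 0, nat_lit 0, nat_lit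 1], [nat_lit 0, nat_lit 0, nat_lit 0, nat_lit 0, nat_lit 0, nat_lit 0, nat_lit 0, nat_lit 0, nat_lit 0, nat_lit 1], []⟩)) (.leaf ⟨nat_lit 2, nat_lit 0, nat_lit 0, nat_lit 6241, nat_lit 0, nat_lit 0, [nat_lit 0, nat_lit 0, nat_lit 1], [nat_lit 0, nat_lit 0, nat_lit 0, nat_lit 0, nat_lit 3], [nat_lit 8227, nat_lit 6, nat_lit 8227, nat_lit 6, nat_lit 8227, nat_lit 1126, nat_lit 8227]⟩)) (.node (.node (.leaf ⟨nat_lit 0, nat_lit 1, nat_lit 1, nat_lit 0, nat_lit 0, nat_lit 0, [nat_lit 0, nat_lit 0, nat_lit 0, nat_lit 0, nat_lit 0, nat_lit 0, nat_lit 0, nat_lit 1], [], []⟩) (.leaf ⟨nat_lit 0, nat_lit 10, nat_lit 10, nat_lit 0, nat_lit 9, nat_lit 7, [], [], []⟩)) (.leaf ⟨nat_lit 0, nat_lit 1, nat_lit 1, nat_lit 0, nat_lit 0x45c389462, nat_lit 0x1018a25, [], [], []⟩))) (.node (.node (.node (.leaf ⟨nat_lit 2, nat_lit 0, nat_lit 0, nat_lit 4193, nat_lit 0, nat_lit 0,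 [], [nat_lit 1, nat_lit 0, nat_lit 0, nat_lit 0, nat_lit 1, nat_lit 1, nat_lit 1, nat_lit 2], [nat_lit 0x119065, nat_lit 4131, nat_lit 4259]⟩) (.leaf ⟨nat_lit 0, nat_lit 1, nat_lit 1, nat_lit 0, nat_lit 0xc2b4a3, nat_lit 0x3615a5, [], [nat_lit 0, nat_lit 0, nat_lit 0, nat_lit 0, nat_lit 0, nat_lit 0, nat_lit 0, nat_lit 0, nat_lit 0, nat_lit 1], []⟩)) (.leaf ⟨nat_lit 0, nat_lit 1, nat_lit 1, nat_lit 0, nat_lit 0x2d2c7a82c, nat_lit 0x454b526, [nat_lit 0, nat_lit 0, nat_lit 0, nat_lit 0, nat_lit 0, nat_lit 0, nat_lit 0, nat_lit 0, nat_lit 1], [nat_lit 0, nat_lit 0, nat_lit 0, nat_lit 0, nat_lit 0, nat_lit 0, nat_lit 0, nat_lit 0, nat_lit 0, nat_lit 1], []⟩)) (.node (.leaf ⟨nat_lit 0, nat_lit 1, nat_lit 1, nat_lit 0, nat_lit 0x8219022190a320c8219022, nat_lit 0x2520c85, [nat_lit 0, nat_lit 0, nat_lit 0, nat_lit 0, nat_lit 0, nat_lit 0, nat_lit 0, nat_lit 0, nat_lit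 1], [], []⟩) (.leaf ⟨nat_lit 0, nat_lit 1, nat_lit 1, nat_lit 0, nat_lit 97, nat_lit 35, [], [], []⟩)))) (.node (.node (.node (.node (.leaf ⟨nat_lit 1, nat_lit 1, nat_lit 3, nat_lit 0x106429064, nat_lit 0, nat_lit 0, [], [], []⟩) (.leaf ⟨nat_lit 0, nat_lit 1, nat_lit 1, nat_lit 0, nat_lit 0x1b0512a110, nat_lit 0x1158e8adc2, [nat_lit 0, nat_lit 0, nat_lit 0, nat_lit 0, nat_lit 0, nat_lit 0, nat_lit 0, nat_lit 0, nat_lit 1], [nat_lit 0, nat_lit 0, nat_lit 0, nat_lit 0, nat_lit 0, nat_lit 0, nat_lit 0, nat_lit 0, nat_lit 0, nat_lit 2], []⟩)) (.leaf ⟨nat_lit 0, nat_lit 1, nat_lit 1, nat_lit 0, nat_lit 0x120a380d82, nat_lit 0x9a2299a9, [], [nat_lit 0, nat_lit 0, nat_lit 0, nat_lit 0, nat_lit 0, nat_lit 0, nat_lit 0, nat_lit 0, nat_lit 0, nat_lit 1], []⟩)) (.node (.node (.leaf ⟨nat_lit 0, nat_lit 8, nat_lit 4, nat_lit 0, nat_lit 0x2218441, nat_lit 0x208c4419065,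 [nat_lit 1, nat_lit 0, nat_lit 0, nat_lit 0, nat_lit 0, nat_lit 0, nat_lit 0, nat_lit 0, nat_lit 9], [], []⟩) (.leaf ⟨nat_lit 0, nat_lit 10, nat_lit 10, nat_lit 0, nat_lit 0x11112d66, nat_lit 0xa6a82e, [], [], []⟩)) (.leaf ⟨nat_lit 0, nat_lit 1, nat_lit 1, nat_lit 0, nat_lit 0x218261c41, nat_lit 0x18533507, [], [nat_lit 0, nat_lit 0, nat_lit 0, nat_lit 0, nat_lit 0, nat_lit 0, nat_lit 0, nat_lit 0, nat_lit 0, nat_lit 2], []⟩))) (.node (.node (.node (.leaf ⟨nat_lit 0, nat_lit 1, nat_lit 1, nat_lit 0, nat_lit 0, nat_lit 0, [nat_lit 0, nat_lit 0, nat_lit 0, nat_lit 0, nat_lit 0, nat_lit 0, nat_lit 0, nat_lit 2], [], []⟩) (.leaf ⟨nat_lit 0, nat_lit 1, nat_lit 1, nat_lit 0, nat_lit 0, nat_lit 0, [nat_lit 0, nat_lit 0, nat_lit 0, nat_lit 0, nat_lit 0, nat_lit 0, nat_lit 0, nat_lit 0, nat_lit 1], [nat_lit 0, nat_lit 0, nat_lit 0, nat_lit 0, nat_lit 0, nat_lit 0,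 nat_lit 0, nat_lit 0, nat_lit 0, nat_lit 32], []⟩)) (.leaf ⟨nat_lit 0, nat_lit 1, nat_lit 1, nat_lit 0, nat_lit 0x62a0e5, nat_lit 0x3a0a6, [], [nat_lit 0, nat_lit 0, nat_lit 0, nat_lit 0, nat_lit 0, nat_lit 0, nat_lit 0, nat_lit 0, nat_lit 0, nat_lit 1], []⟩)) (.node (.leaf ⟨nat_lit 2, nat_lit 0, nat_lit 0, nat_lit 0x29061, nat_lit 0, nat_lit 0, [], [nat_lit 1, nat_lit 0, nat_lit 0, nat_lit 0, nat_lit 1], [nat_lit 4131, nat_lit 164, nat_lit 4131]⟩) (.leaf ⟨nat_lit 0, nat_lit 1, nat_lit 1, nat_lit 0, nat_lit 0x4507745c1, nat_lit 0x25f079a07, [], [nat_lit 0, nat_lit 0, nat_lit 0, nat_lit 0, nat_lit 0, nat_lit 0, nat_lit 0, nat_lit 0, nat_lit 0, nat_lit 2], []⟩))))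

noncomputable def F8 : GT Fa := .node (.node (.node (.node (.node (.leaf ⟨nat_lit 0, nat_lit 0, nat_lit 0, nat_lit 0, nat_lit 5, nat_lit 5, [], [], []⟩) (.leaf ⟨nat_lit 0, nat_lit 1, nat_lit 1, nat_lit 0, nat_lit 0x5b90a329c1, nat_lit 0x25f078ca2, [nat_lit 0, nat_lit 0, nat_lit 0, nat_lit 0, nat_lit 0, nat_lit 0, nat_lit 0, nat_lit 0, nat_lit 1], [nat_lit 0, nat_lit 0, nat_lit 0, nat_lit 0, nat_lit 0, nat_lit 0, nat_lit 0, nat_lit 0, nat_lit 0, nat_lit 2], []⟩)) (.leaf ⟨nat_lit 2, nat_lit 0, nat_lit 0, nat_lit 8, nat_lit 0, nat_lit 0, [nat_lit 0, nat_lit 0, nat_lit 1], [nat_lit 0, nat_lit 0, nat_lit 0, nat_lit 0, nat_lit 3], [nat_lit 1126, nat_lit 8227, nat_lit 6, nat_lit 8227, nat_lit 6, nat_lit 8227, nat_lit 6]⟩)) (.node (.node (.leaf ⟨nat_lit 0, nat_lit 1, nat_lit 1, nat_lit 0, nat_lit 0xc8219022190a320c8219022, nat_lit 0x6520c85, [nat_lit 1], [nat_lit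 0, nat_lit 0, nat_lit 0, nat_lit 0, nat_lit 0, nat_lit 0, nat_lit 0, nat_lit 0, nat_lit 11], []⟩) (.leaf ⟨nat_lit 0, nat_lit 10, nat_lit 10, nat_lit 0, nat_lit 0x19a2534182, nat_lit 0x414152e, [], [], []⟩)) (.leaf ⟨nat_lit 0, nat_lit 1, nat_lit 1, nat_lit 0, nat_lit 0xd05795c6, nat_lit 0xac315a8, [], [nat_lit 0, nat_lit 0, nat_lit 0, nat_lit 0, nat_lit 0, nat_lit 0, nat_lit 0, nat_lit 0, nat_lit 0, nat_lit 2], []⟩))) (.node (.node (.node (.leaf ⟨nat_lit 2, nat_lit 0, nat_lit 0, nat_lit 4257, nat_lit 0, nat_lit 0, [], [nat_lit 1, nat_lit 0, nat_lit 0, nat_lit 0, nat_lit 1, nat_lit 1, nat_lit 1, nat_lit 2], [nat_lit 4, nat_lit 0x119065, nat_lit 4131]⟩) (.leaf ⟨nat_lit 0, nat_lit 1, nat_lit 1, nat_lit 0, nat_lit 0xaf2b921, nat_lit 0x111b0b1, [], [nat_lit 0, nat_lit 0, nat_lit 0, nat_lit 0, nat_lit 0, nat_lit 0, nat_lit 0, nat_lit 0, nat_lit 0, nat_lit 1], []⟩))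 (.leaf ⟨nat_lit 0, nat_lit 1, nat_lit 1, nat_lit 0, nat_lit 0x9795c9, nat_lit 0x22288db0, [], [nat_lit 0, nat_lit 0, nat_lit 0, nat_lit 0, nat_lit 0, nat_lit 0, nat_lit 0, nat_lit 0, nat_lit 0, nat_lit 1], []⟩)) (.node (.leaf ⟨nat_lit 0, nat_lit 1, nat_lit 1, nat_lit 0, nat_lit 0x106410c8508864190a410c22, nat_lit 0x129064, [nat_lit 0, nat_lit 0, nat_lit 0, nat_lit 0, nat_lit 0, nat_lit 0, nat_lit 0, nat_lit 0, nat_lit 1], [], []⟩) (.leaf ⟨nat_lit 0, nat_lit 1, nat_lit 1, nat_lit 0, nat_lit 0x6298658562, nat_lit 0xb04f415c5, [nat_lit 0, nat_lit 0, nat_lit 0, nat_lit 0, nat_lit 0, nat_lit 0, nat_lit 0, nat_lit 0, nat_lit 1], [nat_lit 0, nat_lit 0, nat_lit 0, nat_lit 0, nat_lit 0, nat_lit 0, nat_lit 0, nat_lit 0, nat_lit 0, nat_lit 2], []⟩)))) (.node (.node (.node (.node (.leaf ⟨nat_lit 0, nat_lit 3, nat_lit 3, nat_lit 0, nat_lit 1, nat_lit 1, [nat_lit 0, nat_lit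 0, nat_lit 0, nat_lit 0, nat_lit 0, nat_lit 0, nat_lit 1, nat_lit 0, nat_lit 2], [nat_lit 0, nat_lit 0, nat_lit 0, nat_lit 0, nat_lit 0, nat_lit 1], []⟩) (.leaf ⟨nat_lit 0, nat_lit 1, nat_lit 1, nat_lit 0, nat_lit 0x344d1544e2, nat_lit 0x1284e3c48e, [nat_lit 0, nat_lit 0, nat_lit 0, nat_lit 0, nat_lit 0, nat_lit 0, nat_lit 0, nat_lit 0, nat_lit 1], [nat_lit 0, nat_lit 0, nat_lit 0, nat_lit 0, nat_lit 0, nat_lit 0, nat_lit 0, nat_lit 0, nat_lit 0, nat_lit 2], []⟩)) (.leaf ⟨nat_lit 0, nat_lit 1, nat_lit 1, nat_lit 0, nat_lit 0x10625531c6, nat_lit 0x29cd4bd48, [nat_lit 0, nat_lit 0, nat_lit 0, nat_lit 0, nat_lit 0, nat_lit 0, nat_lit 0, nat_lit 0, nat_lit 1], [nat_lit 0, nat_lit 0, nat_lit 0, nat_lit 0, nat_lit 0, nat_lit 0, nat_lit 0, nat_lit 0, nat_lit 0, nat_lit 1], []⟩)) (.node (.node (.leaf ⟨nat_lit 0, nat_lit 1, nat_lit 1, nat_lit 0, nat_lit 0xa4190a1,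 nat_lit 0x4120c4120c8520c4120c44, [nat_lit 1, nat_lit 0, nat_lit 0, nat_lit 0, nat_lit 0, nat_lit 0, nat_lit 0, nat_lit 0, nat_lit 33], [], []⟩) (.leaf ⟨nat_lit 0, nat_lit 10, nat_lit 10, nat_lit 0, nat_lit 0x4454e839ab, nat_lit 0x58b22950, [], [nat_lit 0, nat_lit 0, nat_lit 0, nat_lit 1], []⟩)) (.leaf ⟨nat_lit 0, nat_lit 1, nat_lit 1, nat_lit 0, nat_lit 0xa88a32ce2, nat_lit 0x1ef685a3, [nat_lit 0, nat_lit 0, nat_lit 0, nat_lit 0, nat_lit 0, nat_lit 0, nat_lit 0, nat_lit 0, nat_lit 1], [nat_lit 0, nat_lit 0, nat_lit 0, nat_lit 0, nat_lit 0, nat_lit 0, nat_lit 0, nat_lit 0, nat_lit 0, nat_lit 2], []⟩))) (.node (.node (.node (.leaf ⟨nat_lit 0, nat_lit 0, nat_lit 0, nat_lit 0, nat_lit 0x231048310483, nat_lit 0x640886408861, [], [], []⟩) (.leaf ⟨nat_lit 0, nat_lit 0, nat_lit 0, nat_lit 0, nat_lit 0, nat_lit 0, [nat_lit 0, nat_lit 0, nat_lit 0, nat_lit 0, nat_lit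 0, nat_lit 0, nat_lit 0, nat_lit 0, nat_lit 0, nat_lit 64], [], []⟩)) (.leaf ⟨nat_lit 0, nat_lit 1, nat_lit 1, nat_lit 0, nat_lit 0x1330cc83202, nat_lit 0x1e2581064, [nat_lit 0, nat_lit 0, nat_lit 0, nat_lit 0, nat_lit 0, nat_lit 0, nat_lit 0, nat_lit 0, nat_lit 1], [nat_lit 0, nat_lit 0, nat_lit 0, nat_lit 0, nat_lit 0, nat_lit 0, nat_lit 0, nat_lit 0, nat_lit 0, nat_lit 1], []⟩)) (.node (.leaf ⟨nat_lit 2, nat_lit 0, nat_lit 0, nat_lit 13420, nat_lit 0, nat_lit 0, [], [nat_lit 0, nat_lit 0, nat_lit 0, nat_lit 0, nat_lit 0, nat_lit 0, nat_lit 0, nat_lit 0, nat_lit 1], [nat_lit 0x68d85]⟩) (.leaf ⟨nat_lit 0, nat_lit 1, nat_lit 1, nat_lit 0, nat_lit 0x25f01bc62, nat_lit 0x140ae640c2, [nat_lit 0, nat_lit 0, nat_lit 0, nat_lit 0, nat_lit 0, nat_lit 0, nat_lit 0, nat_lit 0, nat_lit 1], [nat_lit 0, nat_lit 0, nat_lit 0, nat_lit 0, nat_lit 0, nat_lit 0, nat_lit 0,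 nat_lit 0, nat_lit 0, nat_lit 3], []⟩))))

noncomputable def F9 : GT Fa := .node (.node (.node (.node (.node (.leaf ⟨nat_lit 0, nat_lit 1, nat_lit 1, nat_lit 0, nat_lit 5, nat_lit 5, [], [nat_lit 0, nat_lit 0, nat_lit 0, nat_lit 0, nat_lit 0, nat_lit 0, nat_lit 0, nat_lit 1], []⟩) (.leaf ⟨nat_lit 0, nat_lit 1, nat_lit 1, nat_lit 0, nat_lit 0x78e0b34022, nat_lit 0x14449835f0, [nat_lit 0, nat_lit 0, nat_lit 0, nat_lit 0, nat_lit 0, nat_lit 0, nat_lit 0, nat_lit 0, nat_lit 1], [nat_lit 0, nat_lit 0, nat_lit 0, nat_lit 0, nat_lit 0, nat_lit 0, nat_lit 0, nat_lit 0, nat_lit 0, nat_lit 2], []⟩)) (.leaf ⟨nat_lit 2, nat_lit 0, nat_lit 0, nat_lit 0x1deb6bc91, nat_lit 0, nat_lit 0, [nat_lit 0, nat_lit 0, nat_lit 0, nat_lit 0, nat_lit 1], [nat_lit 0, nat_lit 0, nat_lit 0, nat_lit 1], [nat_lit 0x318c4, nat_lit 0x318c4, nat_lit 0x318c4]⟩)) (.node (.node (.leaf ⟨nat_lit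 0, nat_lit 1, nat_lit 1, nat_lit 0, nat_lit 0xa4190a3, nat_lit 0x82418824190a41882418883, [nat_lit 0, nat_lit 0, nat_lit 0, nat_lit 0, nat_lit 0, nat_lit 0, nat_lit 0, nat_lit 0, nat_lit 23], [], []⟩) (.leaf ⟨nat_lit 0, nat_lit 0, nat_lit 0, nat_lit 0, nat_lit 0x329b02b5a4, nat_lit 0x231858b168, [], [], []⟩)) (.leaf ⟨nat_lit 0, nat_lit 1, nat_lit 1, nat_lit 0, nat_lit 0x290e5bd45, nat_lit 0xb22d8b4e2, [nat_lit 0, nat_lit 0, nat_lit 0, nat_lit 0, nat_lit 0, nat_lit 0, nat_lit 0, nat_lit 0, nat_lit 1], [nat_lit 0, nat_lit 0, nat_lit 0, nat_lit 0, nat_lit 0, nat_lit 0, nat_lit 0, nat_lit 0, nat_lit 0, nat_lit 2], []⟩))) (.node (.node (.node (.leaf ⟨nat_lit 1, nat_lit 6, nat_lit 1, nat_lit 100, nat_lit 0x4190a1, nat_lit 0x19065, [nat_lit 0, nat_lit 0, nat_lit 0, nat_lit 0, nat_lit 1], [nat_lit 2, nat_lit 0, nat_lit 0, nat_lit 0, nat_lit 0, nat_lit 2, nat_lit 5,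 nat_lit 7, nat_lit 2], []⟩) (.leaf ⟨nat_lit 0, nat_lit 0, nat_lit 0, nat_lit 0, nat_lit 0x11ccd895c3, nat_lit 0x1bcb062122, [], [], []⟩)) (.leaf ⟨nat_lit 0, nat_lit 1, nat_lit 1, nat_lit 0, nat_lit 0x20ec609a2, nat_lit 0x2b0c56a0e3, [], [nat_lit 0, nat_lit 0, nat_lit 0, nat_lit 0, nat_lit 0, nat_lit 0, nat_lit 0, nat_lit 0, nat_lit 0, nat_lit 2], []⟩)) (.node (.leaf ⟨nat_lit 0, nat_lit 0, nat_lit 0, nat_lit 0, nat_lit 0x44320c442906220c44, nat_lit 0x1043208642904320c41, [], [], []⟩) (.leaf ⟨nat_lit 0, nat_lit 1, nat_lit 1, nat_lit 0, nat_lit 0x1b1c28adc2, nat_lit 0x5827a0ae, [nat_lit 0, nat_lit 0, nat_lit 0, nat_lit 0, nat_lit 0, nat_lit 0, nat_lit 0, nat_lit 0, nat_lit 1], [nat_lit 0, nat_lit 0, nat_lit 0, nat_lit 0, nat_lit 0, nat_lit 0, nat_lit 0, nat_lit 0, nat_lit 0, nat_lit 2], []⟩)))) (.node (.node (.node (.node (.leaf ⟨nat_lit 1, nat_lit 1, nat_lit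 4, nat_lit 0x821902219022, nat_lit 0, nat_lit 0, [], [], []⟩) (.leaf ⟨nat_lit 0, nat_lit 1, nat_lit 1, nat_lit 0, nat_lit 0x28b5e373521, nat_lit 0x44c22da6, [nat_lit 0, nat_lit 0, nat_lit 0, nat_lit 0, nat_lit 0, nat_lit 0, nat_lit 0, nat_lit 0, nat_lit 1], [nat_lit 0, nat_lit 0, nat_lit 0, nat_lit 0, nat_lit 0, nat_lit 0, nat_lit 0, nat_lit 0, nat_lit 0, nat_lit 1], []⟩)) (.leaf ⟨nat_lit 0, nat_lit 1, nat_lit 1, nat_lit 0, nat_lit 0x1c4ae8a422, nat_lit 0x12e28585c4, [nat_lit 0, nat_lit 0, nat_lit 0, nat_lit 0, nat_lit 0, nat_lit 0, nat_lit 0, nat_lit 0, nat_lit 1], [nat_lit 0, nat_lit 0, nat_lit 0, nat_lit 0, nat_lit 0, nat_lit 0, nat_lit 0, nat_lit 0, nat_lit 0, nat_lit 1], []⟩)) (.node (.node (.leaf ⟨nat_lit 0, nat_lit 9, nat_lit 2, nat_lit 0, nat_lit 0x14641904321462, nat_lit 0x8231106418825, [nat_lit 1, nat_lit 1, nat_lit 0, nat_lit 0, nat_lit 1, nat_lit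 0, nat_lit 0, nat_lit 0, nat_lit 13], [], []⟩) (.leaf ⟨nat_lit 0, nat_lit 10, nat_lit 10, nat_lit 0, nat_lit 0, nat_lit 0, [], [nat_lit 0, nat_lit 0, nat_lit 0, nat_lit 1], []⟩)) (.leaf ⟨nat_lit 0, nat_lit 1, nat_lit 1, nat_lit 0, nat_lit 0x14c5c78b982, nat_lit 0x9def3b5c8, [nat_lit 0, nat_lit 0, nat_lit 0, nat_lit 0, nat_lit 0, nat_lit 0, nat_lit 0, nat_lit 0, nat_lit 1], [nat_lit 0, nat_lit 0, nat_lit 0, nat_lit 0, nat_lit 0, nat_lit 0, nat_lit 0, nat_lit 0, nat_lit 0, nat_lit 1], []⟩))) (.node (.node (.node (.leaf ⟨nat_lit 1, nat_lit 1, nat_lit 9, nat_lit 0x2142219022, nat_lit 0x2844320441, nat_lit 0x231048310483, [], [nat_lit 0, nat_lit 1, nat_lit 0, nat_lit 0, nat_lit 1], []⟩) (.leaf ⟨nat_lit 0, nat_lit 0, nat_lit 0, nat_lit 0, nat_lit 0x10f2a1c8, nat_lit 0xcf315c6, [], [], []⟩)) (.leaf ⟨nat_lit 0, nat_lit 1, nat_lit 1, nat_lit 0, nat_lit 0x1106d83d45,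 nat_lit 0xb0ad118ed, [nat_lit 0, nat_lit 0, nat_lit 0, nat_lit 0, nat_lit 0, nat_lit 0, nat_lit 0, nat_lit 0, nat_lit 1], [nat_lit 0, nat_lit 0, nat_lit 0, nat_lit 0, nat_lit 0, nat_lit 0, nat_lit 0, nat_lit 0, nat_lit 0, nat_lit 2], []⟩)) (.node (.leaf ⟨nat_lit 0, nat_lit 0, nat_lit 0, nat_lit 0, nat_lit 0x2b46c, nat_lit 0x68d85, [], [], []⟩) (.leaf ⟨nat_lit 0, nat_lit 1, nat_lit 1, nat_lit 0, nat_lit 0x9e95c42b, nat_lit 0xbc904bd62, [], [nat_lit 0, nat_lit 0, nat_lit 0, nat_lit 0, nat_lit 0, nat_lit 0, nat_lit 0, nat_lit 0, nat_lit 0, nat_lit 3], []⟩))))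

noncomputable def F10 : GT Fa := .node (.node (.node (.node (.node (.leaf ⟨nat_lit 2, nat_lit 0, nat_lit 0, nat_lit 4, nat_lit 0, nat_lit 0, [], [nat_lit 1, nat_lit 0, nat_lit 0, nat_lit 0, nat_lit 1], [nat_lit 164, nat_lit 4131, nat_lit 164]⟩) (.leaf ⟨nat_lit 0, nat_lit 1, nat_lit 1, nat_lit 0, nat_lit 0x1c1658a1ea, nat_lit 0xa9cd4bd48, [nat_lit 0, nat_lit 0, nat_lit 0, nat_lit 0, nat_lit 0, nat_lit 0, nat_lit 0, nat_lit 0, nat_lit 1], [nat_lit 0, nat_lit 0, nat_lit 0, nat_lit 0, nat_lit 0, nat_lit 0, nat_lit 0, nat_lit 0, nat_lit 0, nat_lit 1], []⟩)) (.leaf ⟨nat_lit 0, nat_lit 1, nat_lit 1, nat_lit 0, nat_lit 0x45c389422, nat_lit 0x6229166, [nat_lit 0, nat_lit 0, nat_lit 0, nat_lit 0, nat_lit 0, nat_lit 0, nat_lit 0, nat_lit 0, nat_lit 1], [], []⟩)) (.node (.node (.leaf ⟨nat_lit 0, nat_lit 1, nat_lit 1, nat_lit 0, nat_lit 0xa320c85, nat_lit 0x8241888320ca41882418883,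 [nat_lit 1, nat_lit 0, nat_lit 0, nat_lit 0, nat_lit 0, nat_lit 0, nat_lit 0, nat_lit 0, nat_lit 33], [], []⟩) (.leaf ⟨nat_lit 0, nat_lit 10, nat_lit 10, nat_lit 0, nat_lit 0x7132da9, nat_lit 0xacce1b9c5, [], [], []⟩)) (.leaf ⟨nat_lit 0, nat_lit 1, nat_lit 1, nat_lit 0, nat_lit 0x134d17442d, nat_lit 0x8677306e, [nat_lit 0, nat_lit 0, nat_lit 0, nat_lit 0, nat_lit 0, nat_lit 0, nat_lit 0, nat_lit 0, nat_lit 1], [nat_lit 0, nat_lit 0, nat_lit 0, nat_lit 0, nat_lit 0, nat_lit 0, nat_lit 0, nat_lit 0, nat_lit 0, nat_lit 2], []⟩))) (.node (.node (.node (.leaf ⟨nat_lit 2, nat_lit 0, nat_lit 0, nat_lit 0x19064, nat_lit 0, nat_lit 0, [nat_lit 2, nat_lit 0, nat_lit 0, nat_lit 0, nat_lit 0, nat_lit 2, nat_lit 5, nat_lit 7, nat_lit 2], [nat_lit 0, nat_lit 0, nat_lit 0, nat_lit 0, nat_lit 1], [nat_lit 0x28c83, nat_lit 0x520c83, nat_lit 100]⟩) (.leaf ⟨nat_lit 0, nat_lit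 1, nat_lit 1, nat_lit 0, nat_lit 0x5e779db0, nat_lit 0x183131ce, [nat_lit 0, nat_lit 0, nat_lit 0, nat_lit 0, nat_lit 0, nat_lit 0, nat_lit 0, nat_lit 0, nat_lit 1, nat_lit 9], [nat_lit 0, nat_lit 0, nat_lit 0, nat_lit 0, nat_lit 2], []⟩)) (.leaf ⟨nat_lit 0, nat_lit 1, nat_lit 1, nat_lit 0, nat_lit 0x105795c6, nat_lit 0x15862b503, [], [nat_lit 0, nat_lit 0, nat_lit 0, nat_lit 0, nat_lit 0, nat_lit 0, nat_lit 0, nat_lit 0, nat_lit 0, nat_lit 2], []⟩)) (.node (.leaf ⟨nat_lit 0, nat_lit 2, nat_lit 2, nat_lit 0, nat_lit 0x1483208642906410c85, nat_lit 0x11483110622148311064, [nat_lit 0, nat_lit 2, nat_lit 0, nat_lit 0, nat_lit 2, nat_lit 0, nat_lit 0, nat_lit 0, nat_lit 1], [], []⟩) (.leaf ⟨nat_lit 0, nat_lit 1, nat_lit 1, nat_lit 0, nat_lit 0x3cd0345c6, nat_lit 0x9de36c5c7, [], [nat_lit 0, nat_lit 0, nat_lit 0, nat_lit 0, nat_lit 0, nat_lit 0, nat_lit 0, nat_lit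 0, nat_lit 0, nat_lit 2], []⟩)))) (.node (.node (.node (.node (.leaf ⟨nat_lit 1, nat_lit 1, nat_lit 5, nat_lit 0x20c8510c8320864, nat_lit 0, nat_lit 0, [], [], []⟩) (.leaf ⟨nat_lit 0, nat_lit 1, nat_lit 1, nat_lit 0, nat_lit 0x1ea2382d, nat_lit 0x3ded0b523, [nat_lit 0, nat_lit 0, nat_lit 0, nat_lit 0, nat_lit 0, nat_lit 0, nat_lit 0, nat_lit 0, nat_lit 1], [nat_lit 0, nat_lit 0, nat_lit 0, nat_lit 0, nat_lit 0, nat_lit 0, nat_lit 0, nat_lit 0, nat_lit 0, nat_lit 2], []⟩)) (.leaf ⟨nat_lit 0, nat_lit 1, nat_lit 1, nat_lit 0, nat_lit 0xb1eb79d62, nat_lit 0x43d8e71cc3, [nat_lit 0, nat_lit 0, nat_lit 0, nat_lit 0, nat_lit 0, nat_lit 0, nat_lit 0, nat_lit 0, nat_lit 1], [nat_lit 0, nat_lit 0, nat_lit 0, nat_lit 0, nat_lit 0, nat_lit 0, nat_lit 0, nat_lit 0, nat_lit 0, nat_lit 2], []⟩)) (.node (.node (.leaf ⟨nat_lit 0, nat_lit 1, nat_lit 1, nat_lit 0, nat_lit 0x10c8110c851906410c22,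 nat_lit 0x10462090642906209062, [nat_lit 0, nat_lit 0, nat_lit 0, nat_lit 0, nat_lit 0, nat_lit 0, nat_lit 0, nat_lit 0, nat_lit 24], [], []⟩) (.leaf ⟨nat_lit 0, nat_lit 0, nat_lit 0, nat_lit 0, nat_lit 0, nat_lit 0, [nat_lit 0, nat_lit 0, nat_lit 0, nat_lit 1], [], []⟩)) (.leaf ⟨nat_lit 0, nat_lit 1, nat_lit 1, nat_lit 0, nat_lit 0x3320b34062, nat_lit 0x3bcaf335c7, [nat_lit 0, nat_lit 0, nat_lit 0, nat_lit 0, nat_lit 0, nat_lit 0, nat_lit 0, nat_lit 0, nat_lit 1], [nat_lit 0, nat_lit 0, nat_lit 0, nat_lit 0, nat_lit 0, nat_lit 0, nat_lit 0, nat_lit 0, nat_lit 0, nat_lit 2], []⟩))) (.node (.node (.node (.leaf ⟨nat_lit 1, nat_lit 7, nat_lit 1, nat_lit 0x32144320441, nat_lit 0x2044320441, nat_lit 0x19483, [nat_lit 2, nat_lit 1, nat_lit 0, nat_lit 0, nat_lit 2, nat_lit 0, nat_lit 5, nat_lit 1, nat_lit 2], [], []⟩) (.leaf ⟨nat_lit 0, nat_lit 1, nat_lit 1, nat_lit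 0, nat_lit 0xdf02bcd0, nat_lit 0x106245388b, [], [nat_lit 0, nat_lit 0, nat_lit 0, nat_lit 0, nat_lit 0, nat_lit 0, nat_lit 0, nat_lit 0, nat_lit 0, nat_lit 28], []⟩)) (.leaf ⟨nat_lit 0, nat_lit 1, nat_lit 1, nat_lit 0, nat_lit 0x37c1e534121, nat_lit 0x13d65895c4, [], [nat_lit 0, nat_lit 0, nat_lit 0, nat_lit 0, nat_lit 0, nat_lit 0, nat_lit 0, nat_lit 0, nat_lit 0, nat_lit 2], []⟩)) (.node (.leaf ⟨nat_lit 0, nat_lit 1, nat_lit 1, nat_lit 0, nat_lit 13420, nat_lit 0x2b46c, [nat_lit 0, nat_lit 0, nat_lit 0, nat_lit 0, nat_lit 0, nat_lit 0, nat_lit 0, nat_lit 0, nat_lit 1], [], []⟩) (.leaf ⟨nat_lit 0, nat_lit 1, nat_lit 1, nat_lit 0, nat_lit 0x145b122d2d, nat_lit 0x129c33c48e, [nat_lit 0, nat_lit 0, nat_lit 0, nat_lit 0, nat_lit 0, nat_lit 0, nat_lit 0, nat_lit 0, nat_lit 1], [nat_lit 0, nat_lit 0, nat_lit 0, nat_lit 0, nat_lit 0, nat_lit 0, nat_lit 0, nat_lit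 0, nat_lit 0, nat_lit 2], []⟩))))

noncomputable def F11 : GT Fa := .node (.node (.node (.node (.node (.leaf ⟨nat_lit 2, nat_lit 0, nat_lit 0, nat_lit 66658, nat_lit 0, nat_lit 0, [], [nat_lit 0, nat_lit 0, nat_lit 0, nat_lit 0, nat_lit 0, nat_lit 0, nat_lit 0, nat_lit 0, nat_lit 1], [nat_lit 0x510c22]⟩) (.leaf ⟨nat_lit 0, nat_lit 1, nat_lit 1, nat_lit 0, nat_lit 0x4c52e3c5c5, nat_lit 0x1a2e60530, [], [nat_lit 0, nat_lit 0, nat_lit 0, nat_lit 0, nat_lit 0, nat_lit 0, nat_lit 0, nat_lit 0, nat_lit 0, nat_lit 2], []⟩)) (.leaf ⟨nat_lit 0, nat_lit 1, nat_lit 1, nat_lit 0, nat_lit 0x45d128441, nat_lit 0x229166, [nat_lit 0, nat_lit 0, nat_lit 0, nat_lit 0, nat_lit 0, nat_lit 0, nat_lit 0, nat_lit 0, nat_lit 1], [], []⟩)) (.node (.node (.leaf ⟨nat_lit 0, nat_lit 1, nat_lit 1, nat_lit 0, nat_lit 0x320c85, nat_lit 0x882311064290620906229064, [nat_lit 1, nat_lit 0,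 nat_lit 0, nat_lit 0, nat_lit 0, nat_lit 0, nat_lit 0, nat_lit 0, nat_lit 33], [], []⟩) (.leaf ⟨nat_lit 0, nat_lit 10, nat_lit 10, nat_lit 0, nat_lit 9380, nat_lit 0x329067, [], [], []⟩)) (.leaf ⟨nat_lit 0, nat_lit 1, nat_lit 1, nat_lit 0, nat_lit 0x303123d62, nat_lit 0x4be068b8e8, [], [nat_lit 0, nat_lit 0, nat_lit 0, nat_lit 0, nat_lit 0, nat_lit 0, nat_lit 0, nat_lit 0, nat_lit 0, nat_lit 2], []⟩))) (.node (.node (.node (.leaf ⟨nat_lit 0, nat_lit 6, nat_lit 6, nat_lit 0, nat_lit 0x28c83, nat_lit 0x19065, [], [nat_lit 2, nat_lit 0, nat_lit 0, nat_lit 0, nat_lit 0, nat_lit 2, nat_lit 6, nat_lit 8, nat_lit 2], []⟩) (.leaf ⟨nat_lit 0, nat_lit 1, nat_lit 1, nat_lit 0, nat_lit 0, nat_lit 0, [nat_lit 0, nat_lit 0, nat_lit 0, nat_lit 0, nat_lit 0, nat_lit 0, nat_lit 0, nat_lit 0, nat_lit 1, nat_lit 11], [nat_lit 0, nat_lit 0, nat_lit 0, nat_lit 0, nat_lit 2], []⟩))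 (.leaf ⟨nat_lit 0, nat_lit 1, nat_lit 1, nat_lit 0, nat_lit 0x5416c54501, nat_lit 0xc423639c8, [nat_lit 0, nat_lit 0, nat_lit 0, nat_lit 0, nat_lit 0, nat_lit 0, nat_lit 0, nat_lit 0, nat_lit 1], [nat_lit 0, nat_lit 0, nat_lit 0, nat_lit 0, nat_lit 0, nat_lit 0, nat_lit 0, nat_lit 0, nat_lit 0, nat_lit 2], []⟩)) (.node (.leaf ⟨nat_lit 0, nat_lit 2, nat_lit 2, nat_lit 0, nat_lit 0, nat_lit 0, [nat_lit 0, nat_lit 2, nat_lit 0, nat_lit 0, nat_lit 2], [], []⟩) (.leaf ⟨nat_lit 0, nat_lit 1, nat_lit 1, nat_lit 0, nat_lit 0x30ca81481, nat_lit 0x24d12a206, [], [nat_lit 0, nat_lit 0, nat_lit 0, nat_lit 0, nat_lit 0, nat_lit 0, nat_lit 0, nat_lit 0, nat_lit 0, nat_lit 2], []⟩)))) (.node (.node (.node (.node (.leaf ⟨nat_lit 1, nat_lit 1, nat_lit 6, nat_lit 4196, nat_lit 0, nat_lit 0, [], [], []⟩) (.leaf ⟨nat_lit 0, nat_lit 1, nat_lit 1, nat_lit 0, nat_lit 0x3450e89822,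 nat_lit 0x322d8b4e2, [nat_lit 0, nat_lit 0, nat_lit 0, nat_lit 0, nat_lit 0, nat_lit 0, nat_lit 0, nat_lit 0, nat_lit 1], [nat_lit 0, nat_lit 0, nat_lit 0, nat_lit 0, nat_lit 0, nat_lit 0, nat_lit 0, nat_lit 0, nat_lit 0, nat_lit 2], []⟩)) (.leaf ⟨nat_lit 0, nat_lit 1, nat_lit 1, nat_lit 0, nat_lit 0x1962c1aa2d, nat_lit 0x35ca64169, [], [nat_lit 0, nat_lit 0, nat_lit 0, nat_lit 0, nat_lit 0, nat_lit 0, nat_lit 0, nat_lit 0, nat_lit 0, nat_lit 2], []⟩)) (.node (.node (.leaf ⟨nat_lit 0, nat_lit 7, nat_lit 2, nat_lit 0, nat_lit 0x29022190a219022190a1, nat_lit 0xc831048520c4120c85, [nat_lit 1, nat_lit 1, nat_lit 0, nat_lit 0, nat_lit 1, nat_lit 0, nat_lit 0, nat_lit 0, nat_lit 37], [], []⟩) (.leaf ⟨nat_lit 0, nat_lit 0, nat_lit 0, nat_lit 0, nat_lit 0, nat_lit 0, [nat_lit 0, nat_lit 0, nat_lit 0, nat_lit 0, nat_lit 0, nat_lit 0, nat_lit 0, nat_lit 0, nat_lit 0,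 nat_lit 1], [], []⟩)) (.leaf ⟨nat_lit 0, nat_lit 1, nat_lit 1, nat_lit 0, nat_lit 0x3d6710dea, nat_lit 0x5ef694ce, [nat_lit 0, nat_lit 0, nat_lit 0, nat_lit 0, nat_lit 0, nat_lit 0, nat_lit 0, nat_lit 0, nat_lit 1], [nat_lit 0, nat_lit 0, nat_lit 0, nat_lit 0, nat_lit 0, nat_lit 0, nat_lit 0, nat_lit 0, nat_lit 0, nat_lit 1], []⟩))) (.node (.node (.node (.leaf ⟨nat_lit 1, nat_lit 8, nat_lit 1, nat_lit 0x29064, nat_lit 0x10a218441, nat_lit 4196, [nat_lit 2, nat_lit 0, nat_lit 0, nat_lit 0, nat_lit 1, nat_lit 0, nat_lit 2, nat_lit 1, nat_lit 2], [], []⟩) (.leaf ⟨nat_lit 0, nat_lit 1, nat_lit 1, nat_lit 0, nat_lit 0, nat_lit 0, [], [nat_lit 0, nat_lit 0, nat_lit 0, nat_lit 0, nat_lit 0, nat_lit 0, nat_lit 0, nat_lit 0, nat_lit 0, nat_lit 24], []⟩)) (.leaf ⟨nat_lit 0, nat_lit 1, nat_lit 1, nat_lit 0, nat_lit 0x3bd6710dea, nat_lit 0x454210d, [nat_lit 0, nat_lit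 0, nat_lit 0, nat_lit 0, nat_lit 0, nat_lit 0, nat_lit 0, nat_lit 0, nat_lit 1], [nat_lit 0, nat_lit 0, nat_lit 0, nat_lit 0, nat_lit 0, nat_lit 0, nat_lit 0, nat_lit 0, nat_lit 0, nat_lit 1], []⟩)) (.node (.leaf ⟨nat_lit 2, nat_lit 0, nat_lit 0, nat_lit 4193, nat_lit 0, nat_lit 0, [nat_lit 0, nat_lit 1], [], [nat_lit 0xb1a885, nat_lit 0xae20d49, nat_lit 0xb1a861]⟩) (.leaf ⟨nat_lit 0, nat_lit 1, nat_lit 1, nat_lit 0, nat_lit 0x111d8e8adc2, nat_lit 0x609e82b8e3, [nat_lit 0, nat_lit 0, nat_lit 0, nat_lit 0, nat_lit 0, nat_lit 0, nat_lit 0, nat_lit 0, nat_lit 1], [nat_lit 0, nat_lit 0, nat_lit 0, nat_lit 0, nat_lit 0, nat_lit 0, nat_lit 0, nat_lit 0, nat_lit 0, nat_lit 2], []⟩))))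

noncomputable def F12 : GT Fa := .node (.node (.node (.node (.node (.leaf ⟨nat_lit 0, nat_lit 0, nat_lit 0, nat_lit 0, nat_lit 0x208c45, nat_lit 0x510c22, [], [], []⟩) (.leaf ⟨nat_lit 0, nat_lit 1, nat_lit 1, nat_lit 0, nat_lit 0x7c0ef14182, nat_lit 0x9a216bc62, [nat_lit 0, nat_lit 0, nat_lit 0, nat_lit 0, nat_lit 0, nat_lit 0, nat_lit 0, nat_lit 0, nat_lit 1], [nat_lit 0, nat_lit 0, nat_lit 0, nat_lit 0, nat_lit 0, nat_lit 0, nat_lit 0, nat_lit 0, nat_lit 0, nat_lit 2], []⟩)) (.leaf ⟨nat_lit 0, nat_lit 1, nat_lit 1, nat_lit 0, nat_lit 0x4183e01, nat_lit 0x29064, [nat_lit 0, nat_lit 0, nat_lit 0, nat_lit 0, nat_lit 0, nat_lit 0, nat_lit 0, nat_lit 0, nat_lit 1], [], []⟩)) (.node (.node (.leaf ⟨nat_lit 0, nat_lit 1, nat_lit 1, nat_lit 0, nat_lit 0x104320443214832086428441, nat_lit 0x4120c44190a41882418885, [nat_lit 0, nat_lit 0, nat_lit 0, nat_lit 0, nat_lit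 0, nat_lit 0, nat_lit 0, nat_lit 0, nat_lit 44], [], []⟩) (.leaf ⟨nat_lit 0, nat_lit 0, nat_lit 0, nat_lit 0, nat_lit 0x20bdae6c0a1, nat_lit 0x12c58f63822, [], [], []⟩)) (.leaf ⟨nat_lit 0, nat_lit 1, nat_lit 1, nat_lit 0, nat_lit 0x40ad13c22, nat_lit 0x33c4b0, [], [nat_lit 0, nat_lit 0, nat_lit 0, nat_lit 0, nat_lit 0, nat_lit 0, nat_lit 0, nat_lit 0, nat_lit 0, nat_lit 1], []⟩))) (.node (.node (.node (.leaf ⟨nat_lit 0, nat_lit 6, nat_lit 6, nat_lit 0, nat_lit 133, nat_lit 164, [nat_lit 2, nat_lit 0, nat_lit 0, nat_lit 0, nat_lit 0, nat_lit 0, nat_lit 6, nat_lit 4], [nat_lit 0, nat_lit 0, nat_lit 0, nat_lit 0, nat_lit 0, nat_lit 0, nat_lit 0, nat_lit 0, nat_lit 2], []⟩) (.leaf ⟨nat_lit 0, nat_lit 0, nat_lit 0, nat_lit 0, nat_lit 0, nat_lit 0, [nat_lit 0, nat_lit 0, nat_lit 0, nat_lit 0, nat_lit 2, nat_lit 0, nat_lit 0, nat_lit 0, nat_lit 1], [nat_lit 0, nat_lit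 0, nat_lit 0, nat_lit 0, nat_lit 0, nat_lit 0, nat_lit 0, nat_lit 0, nat_lit 0, nat_lit 11], []⟩)) (.leaf ⟨nat_lit 0, nat_lit 1, nat_lit 1, nat_lit 0, nat_lit 0x1f01bc62, nat_lit 0x5e66392e, [nat_lit 0, nat_lit 0, nat_lit 0, nat_lit 0, nat_lit 0, nat_lit 0, nat_lit 0, nat_lit 0, nat_lit 1], [nat_lit 0, nat_lit 0, nat_lit 0, nat_lit 0, nat_lit 0, nat_lit 0, nat_lit 0, nat_lit 0, nat_lit 0, nat_lit 3], []⟩)) (.node (.leaf ⟨nat_lit 0, nat_lit 1, nat_lit 1, nat_lit 0, nat_lit 0x20c8520c8110c22, nat_lit 0x1104622148320ca4, [nat_lit 0, nat_lit 1, nat_lit 0, nat_lit 0, nat_lit 1, nat_lit 0, nat_lit 0, nat_lit 0, nat_lit 1], [], []⟩) (.leaf ⟨nat_lit 0, nat_lit 1, nat_lit 1, nat_lit 0, nat_lit 0x2a88c2c4e1, nat_lit 0xc5821b8a2, [], [nat_lit 0, nat_lit 0, nat_lit 0, nat_lit 0, nat_lit 0, nat_lit 0, nat_lit 0, nat_lit 0, nat_lit 0, nat_lit 2], []⟩)))) (.node (.node (.node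 (.node (.leaf ⟨nat_lit 0, nat_lit 6, nat_lit 6, nat_lit 0, nat_lit 3, nat_lit 35, [nat_lit 0, nat_lit 0, nat_lit 0, nat_lit 0, nat_lit 0, nat_lit 1, nat_lit 0, nat_lit 2, nat_lit 2], [], []⟩) (.leaf ⟨nat_lit 0, nat_lit 1, nat_lit 1, nat_lit 0, nat_lit 0xf83c62, nat_lit 0xbccc725c3, [nat_lit 0, nat_lit 0, nat_lit 0, nat_lit 0, nat_lit 0, nat_lit 0, nat_lit 0, nat_lit 0, nat_lit 1], [nat_lit 0, nat_lit 0, nat_lit 0, nat_lit 0, nat_lit 0, nat_lit 0, nat_lit 0, nat_lit 0, nat_lit 0, nat_lit 3], []⟩)) (.leaf ⟨nat_lit 0, nat_lit 1, nat_lit 1, nat_lit 0, nat_lit 0x1312f5c04c, nat_lit 0xc454210d, [nat_lit 0, nat_lit 0, nat_lit 0, nat_lit 0, nat_lit 0, nat_lit 0, nat_lit 0, nat_lit 0, nat_lit 1], [nat_lit 0, nat_lit 0, nat_lit 0, nat_lit 0, nat_lit 0, nat_lit 0, nat_lit 0, nat_lit 0, nat_lit 0, nat_lit 1], []⟩)) (.node (.node (.leaf ⟨nat_lit 0, nat_lit 0, nat_lit 0,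 nat_lit 0, nat_lit 1, nat_lit 1, [nat_lit 0, nat_lit 0, nat_lit 0, nat_lit 0, nat_lit 0, nat_lit 0, nat_lit 0, nat_lit 0, nat_lit 2], [], []⟩) (.leaf ⟨nat_lit 0, nat_lit 0, nat_lit 0, nat_lit 0, nat_lit 0, nat_lit 0, [nat_lit 0, nat_lit 0, nat_lit 0, nat_lit 0, nat_lit 0, nat_lit 0, nat_lit 0, nat_lit 0, nat_lit 1], [], []⟩)) (.leaf ⟨nat_lit 0, nat_lit 1, nat_lit 1, nat_lit 0, nat_lit 0xc0c27b0e2, nat_lit 0x23615a9, [], [nat_lit 0, nat_lit 0, nat_lit 0, nat_lit 0, nat_lit 0, nat_lit 0, nat_lit 0, nat_lit 0, nat_lit 0, nat_lit 1], []⟩))) (.node (.node (.node (.leaf ⟨nat_lit 0, nat_lit 8, nat_lit 9, nat_lit 0, nat_lit 0x110c8110c85, nat_lit 4196, [nat_lit 2, nat_lit 0, nat_lit 0, nat_lit 0, nat_lit 0, nat_lit 0, nat_lit 1, nat_lit 1, nat_lit 1], [], []⟩) (.leaf ⟨nat_lit 0, nat_lit 0, nat_lit 0, nat_lit 0, nat_lit 0, nat_lit 0, [nat_lit 0, nat_lit 0, nat_lit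 0, nat_lit 0, nat_lit 0, nat_lit 0, nat_lit 0, nat_lit 0, nat_lit 0, nat_lit 24], [], []⟩)) (.leaf ⟨nat_lit 0, nat_lit 1, nat_lit 1, nat_lit 0, nat_lit 0x1282a83de7, nat_lit 0x412a10e, [nat_lit 0, nat_lit 0, nat_lit 0, nat_lit 0, nat_lit 0, nat_lit 0, nat_lit 0, nat_lit 0, nat_lit 1], [nat_lit 0, nat_lit 0, nat_lit 0, nat_lit 0, nat_lit 0, nat_lit 0, nat_lit 0, nat_lit 0, nat_lit 0, nat_lit 1], []⟩)) (.node (.leaf ⟨nat_lit 2, nat_lit 0, nat_lit 0, nat_lit 7, nat_lit 0, nat_lit 0, [], [], [nat_lit 7]⟩) (.leaf ⟨nat_lit 0, nat_lit 1, nat_lit 1, nat_lit 0, nat_lit 0xdea2382d, nat_lit 0x1ef685a9, [nat_lit 0, nat_lit 0, nat_lit 0, nat_lit 0, nat_lit 0, nat_lit 0, nat_lit 0, nat_lit 0, nat_lit 1], [nat_lit 0, nat_lit 0, nat_lit 0, nat_lit 0, nat_lit 0, nat_lit 0, nat_lit 0, nat_lit 0, nat_lit 0, nat_lit 2], []⟩))))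

noncomputable def F13 : GT Fa := .node (.node (.node (.node (.node (.leaf ⟨nat_lit 0, nat_lit 1, nat_lit 1, nat_lit 0, nat_lit 68642, nat_lit 0x208c45, [], [nat_lit 0, nat_lit 0, nat_lit 0, nat_lit 0, nat_lit 0, nat_lit 0, nat_lit 0, nat_lit 0, nat_lit 1], []⟩) (.leaf ⟨nat_lit 0, nat_lit 1, nat_lit 1, nat_lit 0, nat_lit 0x5283159608, nat_lit 0x25ef4b5c3, [nat_lit 0, nat_lit 0, nat_lit 0, nat_lit 0, nat_lit 0, nat_lit 0, nat_lit 0, nat_lit 0, nat_lit 1], [nat_lit 0, nat_lit 0, nat_lit 0, nat_lit 0, nat_lit 0, nat_lit 0, nat_lit 0, nat_lit 0, nat_lit 0, nat_lit 2], []⟩)) (.leaf ⟨nat_lit 0, nat_lit 1, nat_lit 1, nat_lit 0, nat_lit 0x6795c8, nat_lit 0x222414d0, [], [], []⟩)) (.node (.node (.leaf ⟨nat_lit 0, nat_lit 1, nat_lit 1, nat_lit 0, nat_lit 0x106429064, nat_lit 0x20c8329064, [nat_lit 0, nat_lit 0, nat_lit 0, nat_lit 0, nat_lit 0, nat_lit 0, nat_lit 0,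 nat_lit 0, nat_lit 68], [], []⟩) (.leaf ⟨nat_lit 1, nat_lit 1, nat_lit 10, nat_lit 0x5f04bd86, nat_lit 0x1a361061, nat_lit 0x41d8f5c124, [], [], []⟩)) (.leaf ⟨nat_lit 0, nat_lit 1, nat_lit 1, nat_lit 0, nat_lit 0x18861628, nat_lit 0xb0a439963, [], [nat_lit 0, nat_lit 0, nat_lit 0, nat_lit 0, nat_lit 0, nat_lit 0, nat_lit 0, nat_lit 0, nat_lit 0, nat_lit 2], []⟩))) (.node (.node (.node (.leaf ⟨nat_lit 2, nat_lit 0, nat_lit 0, nat_lit 0x19065, nat_lit 0, nat_lit 0, [nat_lit 2, nat_lit 0, nat_lit 0, nat_lit 0, nat_lit 0, nat_lit 2, nat_lit 6, nat_lit 8, nat_lit 2], [nat_lit 0, nat_lit 0, nat_lit 0, nat_lit 0, nat_lit 1], [nat_lit 4196, nat_lit 0x28c83, nat_lit 0x19064]⟩) (.leaf ⟨nat_lit 0, nat_lit 1, nat_lit 1, nat_lit 0, nat_lit 0x82594c1, nat_lit 0x3ded41dc3, [nat_lit 0, nat_lit 0, nat_lit 0, nat_lit 0, nat_lit 0, nat_lit 0, nat_lit 0, nat_lit 0, nat_lit 1],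 [nat_lit 0, nat_lit 0, nat_lit 0, nat_lit 0, nat_lit 0, nat_lit 0, nat_lit 0, nat_lit 0, nat_lit 0, nat_lit 3], []⟩)) (.leaf ⟨nat_lit 0, nat_lit 1, nat_lit 1, nat_lit 0, nat_lit 0x132071b1d0, nat_lit 0xc4c22da6, [nat_lit 0, nat_lit 0, nat_lit 0, nat_lit 0, nat_lit 0, nat_lit 0, nat_lit 0, nat_lit 0, nat_lit 1], [nat_lit 0, nat_lit 0, nat_lit 0, nat_lit 0, nat_lit 0, nat_lit 0, nat_lit 0, nat_lit 0, nat_lit 0, nat_lit 1], []⟩)) (.node (.leaf ⟨nat_lit 0, nat_lit 1, nat_lit 1, nat_lit 0, nat_lit 0, nat_lit 0, [nat_lit 0, nat_lit 1, nat_lit 0, nat_lit 0, nat_lit 1], [], []⟩) (.leaf ⟨nat_lit 0, nat_lit 1, nat_lit 1, nat_lit 0, nat_lit 0x3d485b84d, nat_lit 0x10c477306e, [nat_lit 0, nat_lit 0, nat_lit 0, nat_lit 0, nat_lit 0, nat_lit 0, nat_lit 0, nat_lit 0, nat_lit 1], [nat_lit 0, nat_lit 0, nat_lit 0, nat_lit 0, nat_lit 0, nat_lit 0, nat_lit 0, nat_lit 0, nat_lit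 0, nat_lit 2], []⟩)))) (.node (.node (.node (.node (.leaf ⟨nat_lit 1, nat_lit 1, nat_lit 7, nat_lit 0x20c8219022, nat_lit 0, nat_lit 0, [], [], []⟩) (.leaf ⟨nat_lit 0, nat_lit 1, nat_lit 1, nat_lit 0, nat_lit 0xd3143a2e, nat_lit 0x30ad795c5, [], [nat_lit 0, nat_lit 0, nat_lit 0, nat_lit 0, nat_lit 0, nat_lit 0, nat_lit 0, nat_lit 0, nat_lit 0, nat_lit 2], []⟩)) (.leaf ⟨nat_lit 0, nat_lit 1, nat_lit 1, nat_lit 0, nat_lit 0x129c951431, nat_lit 0xa2a6c550, [nat_lit 0, nat_lit 0, nat_lit 0, nat_lit 0, nat_lit 0, nat_lit 0, nat_lit 0, nat_lit 0, nat_lit 1], [nat_lit 0, nat_lit 0, nat_lit 0, nat_lit 0, nat_lit 0, nat_lit 0, nat_lit 0, nat_lit 0, nat_lit 0, nat_lit 1], []⟩)) (.node (.node (.leaf ⟨nat_lit 0, nat_lit 4, nat_lit 4, nat_lit 0, nat_lit 0x64190432146410c81, nat_lit 0x241888320c4520c83, [nat_lit 1], [nat_lit 0, nat_lit 0, nat_lit 0, nat_lit 0, nat_lit 0,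 nat_lit 0, nat_lit 0, nat_lit 0, nat_lit 2], []⟩) (.leaf ⟨nat_lit 0, nat_lit 0, nat_lit 0, nat_lit 0, nat_lit 0, nat_lit 0, [nat_lit 0, nat_lit 0, nat_lit 0, nat_lit 0, nat_lit 0, nat_lit 0, nat_lit 0, nat_lit 1], [], []⟩)) (.leaf ⟨nat_lit 0, nat_lit 1, nat_lit 1, nat_lit 0, nat_lit 0xb03123d62, nat_lit 0x7c5516c5c3, [], [nat_lit 0, nat_lit 0, nat_lit 0, nat_lit 0, nat_lit 0, nat_lit 0, nat_lit 0, nat_lit 0, nat_lit 0, nat_lit 2], []⟩))) (.node (.node (.node (.leaf ⟨nat_lit 0, nat_lit 8, nat_lit 8, nat_lit 0, nat_lit 97, nat_lit 1, [nat_lit 0, nat_lit 0, nat_lit 0, nat_lit 0, nat_lit 0, nat_lit 0, nat_lit 2, nat_lit 0, nat_lit 2], [], []⟩) (.leaf ⟨nat_lit 0, nat_lit 0, nat_lit 0, nat_lit 0, nat_lit 0, nat_lit 0, [], [nat_lit 0, nat_lit 0, nat_lit 0, nat_lit 0, nat_lit 0, nat_lit 0, nat_lit 0, nat_lit 0, nat_lit 0, nat_lit 8], []⟩)) (.leaf ⟨nat_lit 0, nat_lit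 1, nat_lit 1, nat_lit 0, nat_lit 0x11e471c83, nat_lit 0x3615a7, [], [nat_lit 0, nat_lit 0, nat_lit 0, nat_lit 0, nat_lit 0, nat_lit 0, nat_lit 0, nat_lit 0, nat_lit 0, nat_lit 1], []⟩)) (.node (.leaf ⟨nat_lit 0, nat_lit 0, nat_lit 0, nat_lit 0, nat_lit 9, nat_lit 7, [], [], []⟩) (.leaf ⟨nat_lit 0, nat_lit 1, nat_lit 1, nat_lit 0, nat_lit 0x90244e4, nat_lit 0x3c4b0, [], [nat_lit 0, nat_lit 0, nat_lit 0, nat_lit 0, nat_lit 0, nat_lit 0, nat_lit 0, nat_lit 0, nat_lit 0, nat_lit 1], []⟩))))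

noncomputable def F14 : GT Fa := .node (.node (.node (.node (.node (.leaf ⟨nat_lit 2, nat_lit 0, nat_lit 0, nat_lit 0xa208c44, nat_lit 0, nat_lit 0, [], [nat_lit 0, nat_lit 1, nat_lit 0, nat_lit 0, nat_lit 2], [nat_lit 4131, nat_lit 0x2082311023, nat_lit 0x2146218444]⟩) (.leaf ⟨nat_lit 0, nat_lit 1, nat_lit 1, nat_lit 0, nat_lit 0x10dd15056e, nat_lit 0x345cc0a603, [], [nat_lit 0, nat_lit 0, nat_lit 0, nat_lit 0, nat_lit 0, nat_lit 0, nat_lit 0, nat_lit 0, nat_lit 0, nat_lit 2], []⟩)) (.leaf ⟨nat_lit 0, nat_lit 1, nat_lit 1, nat_lit 0, nat_lit 0x310513041, nat_lit 0x9a2299a3, [], [nat_lit 0, nat_lit 0, nat_lit 0, nat_lit 0, nat_lit 0, nat_lit 0, nat_lit 0, nat_lit 0, nat_lit 0, nat_lit 1], []⟩)) (.node (.node (.leaf ⟨nat_lit 0, nat_lit 3, nat_lit 0, nat_lit 0, nat_lit 0x106429064, nat_lit 0, [nat_lit 0, nat_lit 0, nat_lit 0, nat_lit 0, nat_lit 1, nat_lit 0,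 nat_lit 0, nat_lit 0, nat_lit 68], [], []⟩) (.leaf ⟨nat_lit 2, nat_lit 0, nat_lit 0, nat_lit 0xbe0979de3, nat_lit 0, nat_lit 0, [], [nat_lit 0, nat_lit 0, nat_lit 0, nat_lit 0, nat_lit 1], [nat_lit 0x21e2a73526, nat_lit 4131, nat_lit 0x480871]⟩)) (.leaf ⟨nat_lit 0, nat_lit 1, nat_lit 1, nat_lit 0, nat_lit 0x142dc953202, nat_lit 0x623608b1, [nat_lit 0, nat_lit 0, nat_lit 0, nat_lit 0, nat_lit 0, nat_lit 0, nat_lit 0, nat_lit 0, nat_lit 1], [nat_lit 0, nat_lit 0, nat_lit 0, nat_lit 0, nat_lit 0, nat_lit 0, nat_lit 0, nat_lit 0, nat_lit 0, nat_lit 1], []⟩))) (.node (.node (.node (.leaf ⟨nat_lit 0, nat_lit 1, nat_lit 1, nat_lit 0, nat_lit 0, nat_lit 0, [], [nat_lit 0, nat_lit 0, nat_lit 0, nat_lit 0, nat_lit 0, nat_lit 1, nat_lit 1, nat_lit 2], []⟩) (.leaf ⟨nat_lit 0, nat_lit 1, nat_lit 1, nat_lit 0, nat_lit 0x9af2b982, nat_lit 0xa95113d0a, [], [nat_lit 0, nat_lit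 0, nat_lit 0, nat_lit 0, nat_lit 0, nat_lit 0, nat_lit 0, nat_lit 0, nat_lit 0, nat_lit 3], []⟩)) (.leaf ⟨nat_lit 0, nat_lit 1, nat_lit 1, nat_lit 0, nat_lit 0x5bd0f53062, nat_lit 0x8a96b911, [nat_lit 0, nat_lit 0, nat_lit 0, nat_lit 0, nat_lit 0, nat_lit 0, nat_lit 0, nat_lit 0, nat_lit 1], [nat_lit 0, nat_lit 0, nat_lit 0, nat_lit 0, nat_lit 0, nat_lit 0, nat_lit 0, nat_lit 0, nat_lit 0, nat_lit 1], []⟩)) (.node (.leaf ⟨nat_lit 2, nat_lit 0, nat_lit 0, nat_lit 1, nat_lit 0, nat_lit 0, [], [nat_lit 0, nat_lit 0, nat_lit 0, nat_lit 0, nat_lit 0, nat_lit 1], [nat_lit 1]⟩) (.leaf ⟨nat_lit 0, nat_lit 1, nat_lit 1, nat_lit 0, nat_lit 0x15f01bc62, nat_lit 0x1070741c4, [nat_lit 0, nat_lit 0, nat_lit 0, nat_lit 0, nat_lit 0, nat_lit 0, nat_lit 0, nat_lit 0, nat_lit 1], [nat_lit 0, nat_lit 0, nat_lit 0, nat_lit 0, nat_lit 0, nat_lit 0, nat_lit 0, nat_lit 0, nat_lit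 0, nat_lit 3], []⟩)))) (.node (.node (.node (.node (.leaf ⟨nat_lit 0, nat_lit 7, nat_lit 7, nat_lit 0, nat_lit 1, nat_lit 35, [nat_lit 0, nat_lit 0, nat_lit 0, nat_lit 0, nat_lit 0, nat_lit 0, nat_lit 1], [], []⟩) (.leaf ⟨nat_lit 0, nat_lit 1, nat_lit 1, nat_lit 0, nat_lit 0xac2b4a3, nat_lit 0x1b0ad, [], [nat_lit 0, nat_lit 0, nat_lit 0, nat_lit 0, nat_lit 0, nat_lit 0, nat_lit 0, nat_lit 0, nat_lit 0, nat_lit 1], []⟩)) (.leaf ⟨nat_lit 0, nat_lit 1, nat_lit 1, nat_lit 0, nat_lit 0x8f238e4, nat_lit 0x615a7, [], [nat_lit 0, nat_lit 0, nat_lit 0, nat_lit 0, nat_lit 0, nat_lit 0, nat_lit 0, nat_lit 0, nat_lit 0, nat_lit 1], []⟩)) (.node (.node (.leaf ⟨nat_lit 0, nat_lit 4, nat_lit 2, nat_lit 0, nat_lit 0x4320c82190a408864, nat_lit 34914, [nat_lit 0, nat_lit 1, nat_lit 0, nat_lit 0, nat_lit 1, nat_lit 0, nat_lit 0, nat_lit 0, nat_lit 7], [], []⟩) (.leaf ⟨nat_lit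 0, nat_lit 0, nat_lit 0, nat_lit 0, nat_lit 0, nat_lit 0, [nat_lit 0, nat_lit 0, nat_lit 0, nat_lit 0, nat_lit 0, nat_lit 0, nat_lit 1], [], []⟩)) (.leaf ⟨nat_lit 0, nat_lit 1, nat_lit 1, nat_lit 0, nat_lit 0x15f078c41, nat_lit 0x82683e08, [nat_lit 0, nat_lit 0, nat_lit 0, nat_lit 0, nat_lit 0, nat_lit 0, nat_lit 0, nat_lit 0, nat_lit 1], [nat_lit 0, nat_lit 0, nat_lit 0, nat_lit 0, nat_lit 0, nat_lit 0, nat_lit 0, nat_lit 0, nat_lit 0, nat_lit 3], []⟩))) (.node (.node (.node (.leaf ⟨nat_lit 0, nat_lit 8, nat_lit 8, nat_lit 0, nat_lit 0x1483208642886410c85, nat_lit 0x6429064, [], [nat_lit 1], []⟩) (.leaf ⟨nat_lit 0, nat_lit 0, nat_lit 0, nat_lit 0, nat_lit 0, nat_lit 0, [nat_lit 0, nat_lit 0, nat_lit 0, nat_lit 0, nat_lit 0, nat_lit 0, nat_lit 0, nat_lit 0, nat_lit 0, nat_lit 8], [], []⟩)) (.leaf ⟨nat_lit 0, nat_lit 1, nat_lit 1, nat_lit 0, nat_lit 0xec2b4a3,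 nat_lit 0x6c2b4a7, [], [nat_lit 0, nat_lit 0, nat_lit 0, nat_lit 0, nat_lit 0, nat_lit 0, nat_lit 0, nat_lit 0, nat_lit 0, nat_lit 1], []⟩)) (.node (.leaf ⟨nat_lit 0, nat_lit 1, nat_lit 1, nat_lit 0, nat_lit 7, nat_lit 7, [], [], []⟩) (.leaf ⟨nat_lit 0, nat_lit 1, nat_lit 1, nat_lit 0, nat_lit 0x3cef6a5c5, nat_lit 0x1064615a9, [nat_lit 0, nat_lit 0, nat_lit 0, nat_lit 0, nat_lit 0, nat_lit 0, nat_lit 0, nat_lit 0, nat_lit 1], [nat_lit 0, nat_lit 0, nat_lit 0, nat_lit 0, nat_lit 0, nat_lit 0, nat_lit 0, nat_lit 0, nat_lit 0, nat_lit 1], []⟩))))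

noncomputable def F15 : GT Fa := .node (.node (.node (.node (.node (.leaf ⟨nat_lit 2, nat_lit 0, nat_lit 0, nat_lit 0x8218444, nat_lit 0, nat_lit 0, [nat_lit 0, nat_lit 1], [], [nat_lit 4, nat_lit 0x8218445, nat_lit 0x2082310ca4]⟩) (.leaf ⟨nat_lit 0, nat_lit 1, nat_lit 1, nat_lit 0, nat_lit 0x11be247ad02, nat_lit 0x44ee8a1c3, [], [nat_lit 0, nat_lit 0, nat_lit 0, nat_lit 0, nat_lit 0, nat_lit 0, nat_lit 0, nat_lit 0, nat_lit 0, nat_lit 2], []⟩)) (.leaf ⟨nat_lit 0, nat_lit 1, nat_lit 1, nat_lit 0, nat_lit 0xbcc150c82, nat_lit 0x110a76c562, [], [nat_lit 0, nat_lit 0, nat_lit 0, nat_lit 0, nat_lit 0, nat_lit 0, nat_lit 0, nat_lit 0, nat_lit 0, nat_lit 1], []⟩)) (.node (.node (.leaf ⟨nat_lit 0, nat_lit 5, nat_lit 4, nat_lit 0, nat_lit 0x104320443214832086428441, nat_lit 0x1046220c832906209062, [nat_lit 1, nat_lit 0, nat_lit 0, nat_lit 0, nat_lit 0, nat_lit 0,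 nat_lit 0, nat_lit 0, nat_lit 30], [], []⟩) (.leaf ⟨nat_lit 1, nat_lit 10, nat_lit 1, nat_lit 0xd86540a1, nat_lit 0x1888b5902b, nat_lit 0x53da88c567, [nat_lit 0, nat_lit 0, nat_lit 0, nat_lit 0, nat_lit 1], [], []⟩)) (.leaf ⟨nat_lit 0, nat_lit 1, nat_lit 1, nat_lit 0, nat_lit 0x609856a501, nat_lit 0xc452250b, [nat_lit 0, nat_lit 0, nat_lit 0, nat_lit 0, nat_lit 0, nat_lit 0, nat_lit 0, nat_lit 0, nat_lit 1], [nat_lit 0, nat_lit 0, nat_lit 0, nat_lit 0, nat_lit 0, nat_lit 0, nat_lit 0, nat_lit 0, nat_lit 0, nat_lit 1], []⟩))) (.node (.node (.node (.leaf ⟨nat_lit 0, nat_lit 1, nat_lit 1, nat_lit 0, nat_lit 0, nat_lit 0, [], [nat_lit 0, nat_lit 0, nat_lit 0, nat_lit 0, nat_lit 0, nat_lit 1, nat_lit 1, nat_lit 2], []⟩) (.leaf ⟨nat_lit 0, nat_lit 1, nat_lit 1, nat_lit 0, nat_lit 0x4183e03, nat_lit 0x32c051, [nat_lit 0, nat_lit 0, nat_lit 0, nat_lit 0, nat_lit 0,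 nat_lit 0, nat_lit 0, nat_lit 0, nat_lit 1], [], []⟩)) (.leaf ⟨nat_lit 0, nat_lit 1, nat_lit 1, nat_lit 0, nat_lit 0x12f2b923, nat_lit 0x3188db0, [], [nat_lit 0, nat_lit 0, nat_lit 0, nat_lit 0, nat_lit 0, nat_lit 0, nat_lit 0, nat_lit 0, nat_lit 0, nat_lit 1], []⟩)) (.node (.leaf ⟨nat_lit 0, nat_lit 0, nat_lit 0, nat_lit 0, nat_lit 1, nat_lit 1, [], [], []⟩) (.leaf ⟨nat_lit 0, nat_lit 1, nat_lit 1, nat_lit 0, nat_lit 0xbcf11b422, nat_lit 0xde8639c5, [nat_lit 0, nat_lit 0, nat_lit 0, nat_lit 0, nat_lit 0, nat_lit 0, nat_lit 0, nat_lit 0, nat_lit 1], [nat_lit 0, nat_lit 0, nat_lit 0, nat_lit 0, nat_lit 0, nat_lit 0, nat_lit 0, nat_lit 0, nat_lit 0, nat_lit 3], []⟩)))) (.node (.node (.node (.node (.leaf ⟨nat_lit 1, nat_lit 1, nat_lit 8, nat_lit 0x2086408864, nat_lit 0, nat_lit 0, [], [], []⟩) (.leaf ⟨nat_lit 0, nat_lit 1, nat_lit 1, nat_lit 0, nat_lit 0x4bd304bc62,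 nat_lit 0x10cee60dc1, [nat_lit 0, nat_lit 0, nat_lit 0, nat_lit 0, nat_lit 0, nat_lit 0, nat_lit 0, nat_lit 0, nat_lit 1], [nat_lit 0, nat_lit 0, nat_lit 0, nat_lit 0, nat_lit 0, nat_lit 0, nat_lit 0, nat_lit 0, nat_lit 0, nat_lit 2], []⟩)) (.leaf ⟨nat_lit 0, nat_lit 1, nat_lit 1, nat_lit 0, nat_lit 0x7615a5, nat_lit 0xc2b4a7, [], [nat_lit 0, nat_lit 0, nat_lit 0, nat_lit 0, nat_lit 0, nat_lit 0, nat_lit 0, nat_lit 0, nat_lit 0, nat_lit 1], []⟩)) (.node (.node (.leaf ⟨nat_lit 0, nat_lit 2, nat_lit 2, nat_lit 0, nat_lit 0x204432148219022190a1, nat_lit 0x188831048520c4419065, [nat_lit 0, nat_lit 0, nat_lit 0, nat_lit 0, nat_lit 0, nat_lit 0, nat_lit 0, nat_lit 0, nat_lit 86], [], []⟩) (.leaf ⟨nat_lit 0, nat_lit 0, nat_lit 0, nat_lit 0, nat_lit 0, nat_lit 0, [nat_lit 0, nat_lit 0, nat_lit 0, nat_lit 0, nat_lit 0, nat_lit 1], [], []⟩)) (.leaf ⟨nat_lit 0, nat_lit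 1, nat_lit 1, nat_lit 0, nat_lit 0x15e58162e, nat_lit 0x241c683904, [], [nat_lit 0, nat_lit 0, nat_lit 0, nat_lit 0, nat_lit 0, nat_lit 0, nat_lit 0, nat_lit 0, nat_lit 0, nat_lit 3], []⟩))) (.node (.node (.node (.leaf ⟨nat_lit 0, nat_lit 8, nat_lit 8, nat_lit 0, nat_lit 0x290642844320c82190a1, nat_lit 0x8320ca4, [nat_lit 0, nat_lit 0, nat_lit 0, nat_lit 0, nat_lit 0, nat_lit 0, nat_lit 2, nat_lit 1], [nat_lit 1, nat_lit 0, nat_lit 0, nat_lit 0, nat_lit 0, nat_lit 0, nat_lit 0, nat_lit 0, nat_lit 2], []⟩) (.leaf ⟨nat_lit 0, nat_lit 0, nat_lit 0, nat_lit 0, nat_lit 0x2291e46c541, nat_lit 0x15c184710a2, [], [], []⟩)) (.leaf ⟨nat_lit 0, nat_lit 1, nat_lit 1, nat_lit 0, nat_lit 0x218c2c501, nat_lit 0x144626b461, [], [nat_lit 0, nat_lit 0, nat_lit 0, nat_lit 0, nat_lit 0, nat_lit 0, nat_lit 0, nat_lit 0, nat_lit 0, nat_lit 2], []⟩)) (.node (.leaf ⟨nat_lit 2, nat_lit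 0, nat_lit 0, nat_lit 0x8414c6, nat_lit 0, nat_lit 0, [], [nat_lit 0, nat_lit 0, nat_lit 0, nat_lit 0, nat_lit 0, nat_lit 0, nat_lit 0, nat_lit 0, nat_lit 0, nat_lit 1], [nat_lit 0x8414c6]⟩) (.leaf ⟨nat_lit 0, nat_lit 1, nat_lit 1, nat_lit 0, nat_lit 0x2a83079d6d, nat_lit 0x21ec71cce, [nat_lit 0, nat_lit 0, nat_lit 0, nat_lit 0, nat_lit 0, nat_lit 0, nat_lit 0, nat_lit 0, nat_lit 1], [nat_lit 0, nat_lit 0, nat_lit 0, nat_lit 0, nat_lit 0, nat_lit 0, nat_lit 0, nat_lit 0, nat_lit 0, nat_lit 2], []⟩))))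

noncomputable def F : GT Fa := (.node (.node (.node (.node F0 F8) (.node F4 F12)) (.node (.node F2 F10) (.node F6 F14))) (.node (.node (.node F1 F9) (.node F5 F13)) (.node (.node F3 F11) (.node F7 F15))))

noncomputable def W0 : GT (List ℕ) := .node (.node (.node (.node (.leaf ([])) (.leaf ([nat_lit 17, nat_lit 3, nat_lit 2, nat_lit 1, nat_lit 0, nat_lit 3, nat_lit 2, nat_lit 1, nat_lit 3, nat_lit 17]))) (.leaf ([nat_lit 17, nat_lit 1, nat_lit 0, nat_lit 3, nat_lit 2, nat_lit 1, nat_lit 0, nat_lit 3, nat_lit 2, nat_lit 1, nat_lit 3, nat_lit 17]))) (.node (.node (.leaf ([nat_lit 17, nat_lit 1, nat_lit 17])) (.leaf ([nat_lit 17, nat_lit 3, nat_lit 17]))) (.leaf ([nat_lit 17, nat_lit 3, nat_lit 2, nat_lit 3, nat_lit 17])))) (.node (.node (.node (.leaf ([nat_lit 17])) (.leaf ([nat_lit 17, nat_lit 3, nat_lit 17]))) (.leaf ([nat_lit 17, nat_lit 3, nat_lit 2, nat_lit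 1, nat_lit 3, nat_lit 2, nat_lit 3, nat_lit 2, nat_lit 1, nat_lit 4, nat_lit 3, nat_lit 2, nat_lit 3, nat_lit 17]))) (.node (.leaf ([nat_lit 17, nat_lit 3, nat_lit 2, nat_lit 3, nat_lit 4, nat_lit 3, nat_lit 2, nat_lit 3, nat_lit 17])) (.leaf ([nat_lit 17, nat_lit 1, nat_lit 0, nat_lit 3, nat_lit 2, nat_lit 1, nat_lit 3, nat_lit 2, nat_lit 3, nat_lit 17]))))

noncomputable def W : GT (List ℕ) := W0

/-- the relators with the new generator -/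
def R : List (List ℕ × List ℕ × List ℕ) := [([nat_lit 17, nat_lit 17, nat_lit 2, nat_lit 0], [nat_lit 0, nat_lit 0, nat_lit 0, nat_lit 0, nat_lit 1], []),
  ([nat_lit 18, nat_lit 0, nat_lit 17, nat_lit 0], [nat_lit 0, nat_lit 0, nat_lit 0, nat_lit 0, nat_lit 0, nat_lit 1], []),
  ([nat_lit 18, nat_lit 2, nat_lit 17, nat_lit 2], [nat_lit 0, nat_lit 0, nat_lit 0, nat_lit 0, nat_lit 0, nat_lit 0, nat_lit 1], []),
  ([nat_lit 18, nat_lit 4, nat_lit 17, nat_lit 4], [nat_lit 0, nat_lit 0, nat_lit 0, nat_lit 0, nat_lit 0, nat_lit 0, nat_lit 0, nat_lit 1], []),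
  ([nat_lit 3, nat_lit 4, nat_lit 18, nat_lit 3, nat_lit 17, nat_lit 3, nat_lit 4, nat_lit 18, nat_lit 3, nat_lit 17], [nat_lit 1], []),
  ([nat_lit 18, nat_lit 1, nat_lit 2, nat_lit 0, nat_lit 1, nat_lit 17, nat_lit 1, nat_lit 0, nat_lit 2, nat_lit 1, nat_lit 4], [nat_lit 0, nat_lit 0, nat_lit 0, nat_lit 0, nat_lit 0, nat_lit 0, nat_lit 0, nat_lit 0, nat_lit 1], []),
  ([nat_lit 3, nat_lit 18, nat_lit 3, nat_lit 1, nat_lit 2, nat_lit 0, nat_lit 1, nat_lit 3, nat_lit 17, nat_lit 3, nat_lit 1, nat_lit 0, nat_lit 2, nat_lit 1, nat_lit 2, nat_lit 4, nat_lit 3, nat_lit 18, nat_lit 3, nat_lit 1, nat_lit 2, nat_lit 0, nat_lit 1, nat_lit 4, nat_lit 18], [nat_lit 0, nat_lit 1], []),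
  ([nat_lit 18, nat_lit 6, nat_lit 17, nat_lit 6], [], []),
  ([nat_lit 4, nat_lit 7, nat_lit 7, nat_lit 18, nat_lit 5, nat_lit 5, nat_lit 4, nat_lit 7, nat_lit 7, nat_lit 17, nat_lit 5, nat_lit 5], [nat_lit 0, nat_lit 0, nat_lit 0, nat_lit 0, nat_lit 0, nat_lit 0, nat_lit 0, nat_lit 0, nat_lit 0, nat_lit 1], []),
  ([nat_lit 0, nat_lit 2, nat_lit 7, nat_lit 18, nat_lit 7, nat_lit 18, nat_lit 7, nat_lit 18], [], [nat_lit 0, nat_lit 0, nat_lit 0, nat_lit 0, nat_lit 1]),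
  ([nat_lit 0, nat_lit 2, nat_lit 7, nat_lit 18, nat_lit 5, nat_lit 17, nat_lit 7, nat_lit 18, nat_lit 5, nat_lit 17, nat_lit 7, nat_lit 18, nat_lit 5, nat_lit 17, nat_lit 7, nat_lit 18, nat_lit 5, nat_lit 17], [nat_lit 0, nat_lit 0, nat_lit 1], []),
  ([nat_lit 3, nat_lit 7, nat_lit 7, nat_lit 17, nat_lit 5, nat_lit 5, nat_lit 3, nat_lit 7, nat_lit 7, nat_lit 17, nat_lit 5, nat_lit 5, nat_lit 3, nat_lit 7, nat_lit 7, nat_lit 17, nat_lit 5, nat_lit 5, nat_lit 3, nat_lit 7, nat_lit 7, nat_lit 17, nat_lit 4, nat_lit 3, nat_lit 2, nat_lit 3, nat_lit 4, nat_lit 5, nat_lit 5, nat_lit 5, nat_lit 4, nat_lit 3, nat_lit 2, nat_lit 3, nat_lit 4, nat_lit 7, nat_lit 3, nat_lit 2, nat_lit 3, nat_lit 2, nat_lit 0], [nat_lit 0, nat_lit 0, nat_lit 0, nat_lit 1], [])]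

/-- the data -/
noncomputable def P : Par := ⟨ThAct.T, nat_lit 17, fun y => Nat.land (Nat.shiftRight (nat_lit 0x464f835cb625462a0e418820) (Nat.mul (nat_lit 5) y)) (nat_lit 31), [nat_lit 0, nat_lit 1, nat_lit 50, nat_lit 26], nat_lit 0, nat_lit 35, [], [nat_lit 0, nat_lit 0, nat_lit 0, nat_lit 0, nat_lit 1], F.get, W.get, R⟩

def D0 : List De := [⟨nat_lit 2, nat_lit 0, nat_lit 0, nat_lit 0, false, nat_lit 0⟩,
  ⟨nat_lit 3, nat_lit 0, nat_lit 0, nat_lit 1, false, nat_lit 0⟩,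
  ⟨nat_lit 1, nat_lit 0, nat_lit 0, nat_lit 0, false, nat_lit 0⟩,
  ⟨nat_lit 0, nat_lit 4, nat_lit 0x2000000000020000000000013000000000004, nat_lit 0, false, nat_lit 0⟩,
  ⟨nat_lit 3, nat_lit 0, nat_lit 0, nat_lit 2, false, nat_lit 0⟩,
  ⟨nat_lit 1, nat_lit 0, nat_lit 0, nat_lit 0, false, nat_lit 0⟩,
  ⟨nat_lit 0, nat_lit 4, nat_lit 0x2000000000050000000000043000000000004, nat_lit 0, false, nat_lit 0⟩,
  ⟨nat_lit 3, nat_lit 0, nat_lit 0, nat_lit 3, false, nat_lit 0⟩,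
  ⟨nat_lit 1, nat_lit 0, nat_lit 0, nat_lit 0, false, nat_lit 0⟩,
  ⟨nat_lit 0, nat_lit 4, nat_lit 0x2000000000080000000000073000000000004, nat_lit 0, false, nat_lit 0⟩,
  ⟨nat_lit 3, nat_lit 0, nat_lit 0, nat_lit 4, false, nat_lit 7⟩,
  ⟨nat_lit 3, nat_lit 0, nat_lit 0, nat_lit 5, false, nat_lit 0⟩,
  ⟨nat_lit 1, nat_lit 0, nat_lit 0, nat_lit 0, false, nat_lit 0⟩,
  ⟨nat_lit 0, nat_lit 4, nat_lit 0x20000000000c00000000000b3000000000004, nat_lit 0, false, nat_lit 0⟩,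
  ⟨nat_lit 3, nat_lit 0, nat_lit 0, nat_lit 6, false, nat_lit 17⟩,
  ⟨nat_lit 3, nat_lit 0, nat_lit 0, nat_lit 6, true, nat_lit 16⟩,
  ⟨nat_lit 3, nat_lit 0, nat_lit 0, nat_lit 6, true, nat_lit 23⟩,
  ⟨nat_lit 0, nat_lit 2, nat_lit 0x60000000000030, nat_lit 0, false, nat_lit 0⟩,
  ⟨nat_lit 2, nat_lit 0, nat_lit 0, nat_lit 0, false, nat_lit 0⟩,
  ⟨nat_lit 0, nat_lit 8, nat_lit 0x1220000000000d10000000001110000000000910000000000380000000000680000000000d8000000000124, nat_lit 0, false, nat_lit 0⟩,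
  ⟨nat_lit 0, nat_lit 6, nat_lit 0x122000000000091000000000038000000000098000000000038000000000124, nat_lit 0, false, nat_lit 0⟩,
  ⟨nat_lit 0, nat_lit 6, nat_lit 0x1220000000000d1000000000038000000000098000000000068000000000124, nat_lit 0, false, nat_lit 0⟩,
  ⟨nat_lit 0, nat_lit 2, nat_lit 0x138000000000150, nat_lit 0, false, nat_lit 0⟩,
  ⟨nat_lit 2, nat_lit 0, nat_lit 0, nat_lit 0, false, nat_lit 0⟩,
  ⟨nat_lit 0, nat_lit 6, nat_lit 0x1720000000000310000000000d80000000000680000000000d8000000000174, nat_lit 0, false, nat_lit 0⟩,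
  ⟨nat_lit 2, nat_lit 0, nat_lit 0, nat_lit 0, false, nat_lit 0⟩,
  ⟨nat_lit 2, nat_lit 0, nat_lit 0, nat_lit 0, false, nat_lit 0⟩,
  ⟨nat_lit 2, nat_lit 0, nat_lit 0, nat_lit 0, false, nat_lit 0⟩,
  ⟨nat_lit 0, nat_lit 9, nat_lit 0x1b20000000000610000000000980000000000d80000000000980000000000380000000000680000000000d80000000001b4, nat_lit 0, false, nat_lit 0⟩,
  ⟨nat_lit 2, nat_lit 0, nat_lit 0, nat_lit 0, false, nat_lit 0⟩,
  ⟨nat_lit 0, nat_lit 5, nat_lit 0x1d20000000000310000000000380000000000680000000001d4, nat_lit 0, false, nat_lit 0⟩,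
  ⟨nat_lit 2, nat_lit 0, nat_lit 0, nat_lit 0, false, nat_lit 0⟩,
  ⟨nat_lit 0, nat_lit 6, nat_lit 0x1f20000000001110000000000d80000000000680000000000d80000000001f4, nat_lit 0, false, nat_lit 0⟩,
  ⟨nat_lit 0, nat_lit 9, nat_lit 0x1f20000000000d10000000000910000000000980000000000d80000000000980000000000380000000000d80000000001f4, nat_lit 0, false, nat_lit 0⟩,
  ⟨nat_lit 2, nat_lit 0, nat_lit 0, nat_lit 0, false, nat_lit 0⟩,
  ⟨nat_lit 0, nat_lit 8, nat_lit 0x2220000000000310000000000980000000000d80000000000980000000000680000000000d8000000000224, nat_lit 0, false, nat_lit 0⟩,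
  ⟨nat_lit 1, nat_lit 0, nat_lit 0, nat_lit 0, false, nat_lit 0⟩,
  ⟨nat_lit 0, nat_lit 12, nat_lit 0x22200000000009800000000000200000000024000000000000a0000000000910000000000a3000000000031000000000091000000000090000000000060000000000224, nat_lit 0, false, nat_lit 0⟩,
  ⟨nat_lit 0, nat_lit 2, nat_lit 0x238000000000250, nat_lit 0, false, nat_lit 0⟩,
  ⟨nat_lit 4, nat_lit 0, nat_lit 0, nat_lit 37, true, nat_lit 3⟩,
  ⟨nat_lit 4, nat_lit 0, nat_lit 0, nat_lit 37, true, nat_lit 13⟩,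
  ⟨nat_lit 0, nat_lit 9, nat_lit 0x22a0000000000610000000002600000000002220000000000310000000000910000000001ba000000000061000000000283, nat_lit 0, false, nat_lit 0⟩,
  ⟨nat_lit 4, nat_lit 0, nat_lit 0, nat_lit 41, false, nat_lit 3⟩,
  ⟨nat_lit 0, nat_lit 4, nat_lit 0x1b200000000006100000000009100000000029c, nat_lit 0, false, nat_lit 0⟩,
  ⟨nat_lit 0, nat_lit 5, nat_lit 0x2b00000000002b80000000001c80000000002b80000000001c8, nat_lit 0, false, nat_lit 0⟩,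
  ⟨nat_lit 4, nat_lit 0, nat_lit 0, nat_lit 43, false, nat_lit 13⟩,
  ⟨nat_lit 0, nat_lit 5, nat_lit 0x1ba0000000000310000000000910000000002b0000000000294, nat_lit 0, false, nat_lit 0⟩,
  ⟨nat_lit 0, nat_lit 1, nat_lit 736, nat_lit 0, false, nat_lit 0⟩,
  ⟨nat_lit 0, nat_lit 1, nat_lit 0x10002fd, nat_lit 0, false, nat_lit 0⟩,
  ⟨nat_lit 1, nat_lit 0, nat_lit 0, nat_lit 0, false, nat_lit 0⟩,
  ⟨nat_lit 0, nat_lit 15, nat_lit 0x300030500000000022200000000011100000000009100000000006800000000000200000000031000000000000a0000000000d10000000000310000000000910000000002730000000000d0000000000090000000000224, nat_lit 0, false, nat_lit 0⟩,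
  ⟨nat_lit 4, nat_lit 0, nat_lit 0, nat_lit 50, true, nat_lit 4⟩,
  ⟨nat_lit 0, nat_lit 10, nat_lit 0x1ba0000000000910000000002c80000000001b200000000011100000000009100000000017a0000000000310000000000910000000002a3, nat_lit 0, false, nat_lit 0⟩,
  ⟨nat_lit 0, nat_lit 2, nat_lit 0x17200000000034c, nat_lit 0, false, nat_lit 0⟩,
  ⟨nat_lit 0, nat_lit 5, nat_lit 0x100030500000000017a000000000111000000000350000000000344, nat_lit 0, false, nat_lit 0⟩,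
  ⟨nat_lit 0, nat_lit 1, nat_lit 864, nat_lit 0, false, nat_lit 0⟩,
  ⟨nat_lit 1, nat_lit 0, nat_lit 0, nat_lit 0, false, nat_lit 0⟩,
  ⟨nat_lit 0, nat_lit 9, nat_lit 0x200037d00000200030500000000022200000000011100000000000200000000038000000000000a0000000001110000000000e3, nat_lit 0, false, nat_lit 0⟩,
  ⟨nat_lit 0, nat_lit 10, nat_lit 0x300037d0000000001ba0000000000310000000002b80000000001b20000000000610000000000910000000001da0000000000310000000000f3, nat_lit 0, false, nat_lit 0⟩,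
  ⟨nat_lit 0, nat_lit 10, nat_lit 0x200037d00000100030d0000000003a20000000000610000000001e80000000003aa0000000001110000000001fa0000000000910000000002d3, nat_lit 0, false, nat_lit 0⟩,
  ⟨nat_lit 0, nat_lit 4, nat_lit 0x2220000000000d10000000000610000000003bc, nat_lit 0, false, nat_lit 0⟩,
  ⟨nat_lit 0, nat_lit 5, nat_lit 0x200037d0000010003050000000003c80000000002300000000003c0, nat_lit 0, false, nat_lit 0⟩,
  ⟨nat_lit 0, nat_lit 4, nat_lit 0x10003050000000003c80000000002500000000003c0, nat_lit 0, false, nat_lit 0⟩,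
  ⟨nat_lit 0, nat_lit 3, nat_lit 0x3c80000000003200000000003c0, nat_lit 0, false, nat_lit 0⟩,
  ⟨nat_lit 0, nat_lit 4, nat_lit 0x100037500000100030d0000000002080000000003d0, nat_lit 0, false, nat_lit 0⟩,
  ⟨nat_lit 0, nat_lit 10, nat_lit 0x200037500000100040500000100030d0000000003e00000000002080000000003e00000000003e80000000002080000000002180000000003e8, nat_lit 0, false, nat_lit 0⟩,
  ⟨nat_lit 0, nat_lit 14, nat_lit 0x100037500000200040d0000020003050000000002180000000003e80000000003e00000000002080000000004180000000002180000000003e80000000003e80000000004180000000002180000000003e8, nat_lit 0, false, nat_lit 0⟩,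
  ⟨nat_lit 0, nat_lit 6, nat_lit 0x300040d0000010003050000000004180000000002180000000003e00000000003f0, nat_lit 0, false, nat_lit 0⟩,
  ⟨nat_lit 0, nat_lit 2, nat_lit 0x100037500000100043d, nat_lit 0, false, nat_lit 0⟩,
  ⟨nat_lit 0, nat_lit 4, nat_lit 0x100040d00000100044d00000000022a0000000003c0, nat_lit 0, false, nat_lit 0⟩,
  ⟨nat_lit 0, nat_lit 8, nat_lit 0x100037500000100040d00000100044d0000000003b20000000000d1000000000061000000000091000000000454, nat_lit 0, false, nat_lit 0⟩,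
  ⟨nat_lit 0, nat_lit 1, nat_lit 1120, nat_lit 0, false, nat_lit 0⟩,
  ⟨nat_lit 0, nat_lit 12, nat_lit 0x100047d0000010003050000020004450000000001fa0000000000d10000000000610000000000910000000003e00000000004280000000002180000000003e80000000001fc, nat_lit 0, false, nat_lit 0⟩,
  ⟨nat_lit 0, nat_lit 9, nat_lit 0x300047d0000010004450000000000d80000000000980000000004880000000000d80000000004880000000000980000000000d8, nat_lit 0, false, nat_lit 0⟩,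
  ⟨nat_lit 0, nat_lit 13, nat_lit 0x300047d00000200040d0000020004450000000000d80000000004880000000000980000000000680000000000d80000000000d80000000000680000000004880000000000d8000000000488, nat_lit 0, false, nat_lit 0⟩,
  ⟨nat_lit 0, nat_lit 3, nat_lit 0x10004750000000000900000000004a0, nat_lit 0, false, nat_lit 0⟩,
  ⟨nat_lit 0, nat_lit 2, nat_lit 0x4880000000004b0, nat_lit 0, false, nat_lit 0⟩,
  ⟨nat_lit 0, nat_lit 4, nat_lit 0x100047500000100044d0000000004a00000000004b0, nat_lit 0, false, nat_lit 0⟩,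
  ⟨nat_lit 0, nat_lit 3, nat_lit 0xa0000000004d1000000000174, nat_lit 0, false, nat_lit 0⟩,
  ⟨nat_lit 0, nat_lit 7, nat_lit 0x100047d0000010004450000000001920000000004c10000000004880000000004980000000001a4, nat_lit 0, false, nat_lit 0⟩,
  ⟨nat_lit 0, nat_lit 3, nat_lit 0x1000475000000000090000000000480, nat_lit 0, false, nat_lit 0⟩,
  ⟨nat_lit 0, nat_lit 3, nat_lit 0x1000405000000000480000000000060, nat_lit 0, false, nat_lit 0⟩,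
  ⟨nat_lit 0, nat_lit 2, nat_lit 0x4a8000000000510, nat_lit 0, false, nat_lit 0⟩,
  ⟨nat_lit 0, nat_lit 2, nat_lit 0x4a8000000000500, nat_lit 0, false, nat_lit 0⟩,
  ⟨nat_lit 0, nat_lit 2, nat_lit 0x4800000000000d0, nat_lit 0, false, nat_lit 0⟩,
  ⟨nat_lit 0, nat_lit 4, nat_lit 0x1920000000005410000000005210000000001d4, nat_lit 0, false, nat_lit 0⟩,
  ⟨nat_lit 0, nat_lit 4, nat_lit 0x200047d000001000305000000000060000000000030, nat_lit 0, false, nat_lit 0⟩,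
  ⟨nat_lit 0, nat_lit 8, nat_lit 0x100047d0000010004450000000001920000000000d10000000005610000000004880000000000d80000000001f4, nat_lit 0, false, nat_lit 0⟩,
  ⟨nat_lit 0, nat_lit 3, nat_lit 0x10004050000000004a0000000000060, nat_lit 0, false, nat_lit 0⟩,
  ⟨nat_lit 0, nat_lit 8, nat_lit 0x100047500000100044d0000000001220000000005410000000005810000000004800000000000d8000000000394, nat_lit 0, false, nat_lit 0⟩,
  ⟨nat_lit 0, nat_lit 4, nat_lit 0x100047500000100044d0000000004a0000000000480, nat_lit 0, false, nat_lit 0⟩,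
  ⟨nat_lit 0, nat_lit 9, nat_lit 0x100047d00000500040d0000000001220000000005410000000005a10000000004880000000000d80000000004880000000003ac, nat_lit 0, false, nat_lit 0⟩,
  ⟨nat_lit 0, nat_lit 6, nat_lit 0x200047d00000200040d0000010003050000000004e00000000001800000000004e8, nat_lit 0, false, nat_lit 0⟩,
  ⟨nat_lit 0, nat_lit 5, nat_lit 0x100047d0000010004450000000005700000000003e0000000000578, nat_lit 0, false, nat_lit 0⟩,
  ⟨nat_lit 0, nat_lit 5, nat_lit 0x100040d00000100044d0000000005900000000003c0000000000578, nat_lit 0, false, nat_lit 0⟩,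
  ⟨nat_lit 0, nat_lit 3, nat_lit 0x5b00000000005580000000005e8, nat_lit 0, false, nat_lit 0⟩,
  ⟨nat_lit 1, nat_lit 0, nat_lit 0, nat_lit 0, false, nat_lit 0⟩,
  ⟨nat_lit 0, nat_lit 2, nat_lit 0x6000000000005c0, nat_lit 0, false, nat_lit 0⟩,
  ⟨nat_lit 0, nat_lit 4, nat_lit 0x10006150000000005e00000000005d00000000005e8, nat_lit 0, false, nat_lit 0⟩,
  ⟨nat_lit 0, nat_lit 4, nat_lit 0x560006150000000005f80000000005f8000000000620, nat_lit 0, false, nat_lit 0⟩,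
  ⟨nat_lit 0, nat_lit 5, nat_lit 0x130006150000010006350000000001aa0000000004f80000000005e8, nat_lit 0, false, nat_lit 0⟩,
  ⟨nat_lit 0, nat_lit 5, nat_lit 0x110006150000010004050000010006350000000004a8000000000060, nat_lit 0, false, nat_lit 0⟩,
  ⟨nat_lit 0, nat_lit 3, nat_lit 0x1000475000000000090000000000650, nat_lit 0, false, nat_lit 0⟩,
  ⟨nat_lit 0, nat_lit 5, nat_lit 0x500061d000001000405000001000635000000000488000000000060, nat_lit 0, false, nat_lit 0⟩,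
  ⟨nat_lit 0, nat_lit 3, nat_lit 0x1000475000000000090000000000670, nat_lit 0, false, nat_lit 0⟩,
  ⟨nat_lit 1, nat_lit 0, nat_lit 0, nat_lit 0, false, nat_lit 0⟩,
  ⟨nat_lit 0, nat_lit 23, nat_lit 0x800061500000300047500000400063d0000000005e00000000001920000000000d10000000005010000000004880000000000d800000000000200000000069000000000000a0000000005410000000005a10000000000910000000001030000000000d1000000000511000000000091000000000480000000000090000000000480000000000124, nat_lit 0, false, nat_lit 0⟩,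
  ⟨nat_lit 0, nat_lit 10, nat_lit 0x100061d00000800047d00000400040d0000050003050000000001480000000001680000000005f80000000001480000000005f00000000006a0, nat_lit 0, false, nat_lit 0⟩,
  ⟨nat_lit 0, nat_lit 22, nat_lit 0x1200061500000200040d0000010006b50000000006420000000000d100000000012200000000054100000000068100000000048800000000009800000000049000000000012a0000000005410000000005310000000003330000000000d10000000006610000000000910000000005f80000000001300000000005f000000000012c, nat_lit 0, false, nat_lit 0⟩,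
  ⟨nat_lit 0, nat_lit 6, nat_lit 0x50006150000010006350000000004880000000004980000000000d80000000006c0, nat_lit 0, false, nat_lit 0⟩,
  ⟨nat_lit 3, nat_lit 0, nat_lit 0, nat_lit 1, false, nat_lit 0⟩,
  ⟨nat_lit 1, nat_lit 0, nat_lit 0, nat_lit 0, false, nat_lit 0⟩,
  ⟨nat_lit 0, nat_lit 7, nat_lit 0x200047d00000100040d0000010003050000000000020000000006f00000000006e3000000000004, nat_lit 0, false, nat_lit 0⟩,
  ⟨nat_lit 3, nat_lit 0, nat_lit 0, nat_lit 2, false, nat_lit 0⟩,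
  ⟨nat_lit 1, nat_lit 0, nat_lit 0, nat_lit 0, false, nat_lit 0⟩,
  ⟨nat_lit 0, nat_lit 5, nat_lit 0x1000405000000000002000000000720000000000713000000000004, nat_lit 0, false, nat_lit 0⟩,
  ⟨nat_lit 3, nat_lit 0, nat_lit 0, nat_lit 3, false, nat_lit 0⟩,
  ⟨nat_lit 1, nat_lit 0, nat_lit 0, nat_lit 0, false, nat_lit 0⟩,
  ⟨nat_lit 0, nat_lit 5, nat_lit 0x1000475000000000002000000000750000000000743000000000004, nat_lit 0, false, nat_lit 0⟩,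
  ⟨nat_lit 3, nat_lit 0, nat_lit 0, nat_lit 4, false, nat_lit 9⟩,
  ⟨nat_lit 3, nat_lit 0, nat_lit 0, nat_lit 5, false, nat_lit 0⟩,
  ⟨nat_lit 1, nat_lit 0, nat_lit 0, nat_lit 0, false, nat_lit 0⟩,
  ⟨nat_lit 0, nat_lit 5, nat_lit 0x1000615000000000002000000000790000000000783000000000004, nat_lit 0, false, nat_lit 0⟩,
  ⟨nat_lit 3, nat_lit 0, nat_lit 0, nat_lit 6, true, nat_lit 23⟩,
  ⟨nat_lit 3, nat_lit 0, nat_lit 0, nat_lit 7, false, nat_lit 0⟩,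
  ⟨nat_lit 1, nat_lit 0, nat_lit 0, nat_lit 0, false, nat_lit 0⟩,
  ⟨nat_lit 0, nat_lit 4, nat_lit 0x20000000007d00000000007c3000000000004, nat_lit 0, false, nat_lit 0⟩,
  ⟨nat_lit 3, nat_lit 0, nat_lit 0, nat_lit 8, false, nat_lit 3⟩,
  ⟨nat_lit 1, nat_lit 0, nat_lit 0, nat_lit 0, false, nat_lit 0⟩,
  ⟨nat_lit 0, nat_lit 4, nat_lit 0x20000000008000000000007f3000000000004, nat_lit 0, false, nat_lit 0⟩,
  ⟨nat_lit 3, nat_lit 0, nat_lit 0, nat_lit 9, false, nat_lit 5⟩,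
  ⟨nat_lit 3, nat_lit 0, nat_lit 0, nat_lit 9, true, nat_lit 0⟩,
  ⟨nat_lit 3, nat_lit 0, nat_lit 0, nat_lit 10, false, nat_lit 5⟩,
  ⟨nat_lit 3, nat_lit 0, nat_lit 0, nat_lit 10, false, nat_lit 9⟩,
  ⟨nat_lit 3, nat_lit 0, nat_lit 0, nat_lit 10, true, nat_lit 0⟩,
  ⟨nat_lit 3, nat_lit 0, nat_lit 0, nat_lit 10, true, nat_lit 2⟩,
  ⟨nat_lit 3, nat_lit 0, nat_lit 0, nat_lit 10, true, nat_lit 12⟩,
  ⟨nat_lit 3, nat_lit 0, nat_lit 0, nat_lit 11, false, nat_lit 21⟩,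
  ⟨nat_lit 0, nat_lit 5, nat_lit 0x600061500000100063d000000000480000000000488000000000480, nat_lit 0, false, nat_lit 0⟩,
  ⟨nat_lit 0, nat_lit 2, nat_lit 0x8a0000000000730, nat_lit 0, false, nat_lit 0⟩,
  ⟨nat_lit 0, nat_lit 2, nat_lit 0x7600000000008b0, nat_lit 0, false, nat_lit 0⟩,
  ⟨nat_lit 0, nat_lit 3, nat_lit 0x100061d0000000008a00000000008c0, nat_lit 0, false, nat_lit 0⟩,
  ⟨nat_lit 0, nat_lit 2, nat_lit 0x8100000000008d0, nat_lit 0, false, nat_lit 0⟩,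
  ⟨nat_lit 0, nat_lit 2, nat_lit 0x7e80000000008e0, nat_lit 0, false, nat_lit 0⟩,
  ⟨nat_lit 0, nat_lit 2, nat_lit 0x8a00000000008f0, nat_lit 0, false, nat_lit 0⟩,
  ⟨nat_lit 0, nat_lit 2, nat_lit 0x810000000000900, nat_lit 0, false, nat_lit 0⟩,
  ⟨nat_lit 0, nat_lit 2, nat_lit 0x810000000000760, nat_lit 0, false, nat_lit 0⟩,
  ⟨nat_lit 0, nat_lit 2, nat_lit 0x7e0000000000920, nat_lit 0, false, nat_lit 0⟩,
  ⟨nat_lit 0, nat_lit 2, nat_lit 0x7600000000008a0, nat_lit 0, false, nat_lit 0⟩,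
  ⟨nat_lit 0, nat_lit 3, nat_lit 0x100061d0000000008a0000000000940, nat_lit 0, false, nat_lit 0⟩,
  ⟨nat_lit 0, nat_lit 2, nat_lit 0x810000000000950, nat_lit 0, false, nat_lit 0⟩,
  ⟨nat_lit 0, nat_lit 2, nat_lit 0x7e8000000000960, nat_lit 0, false, nat_lit 0⟩,
  ⟨nat_lit 0, nat_lit 2, nat_lit 0x8a0000000000970, nat_lit 0, false, nat_lit 0⟩,
  ⟨nat_lit 0, nat_lit 2, nat_lit 0x760000000000980, nat_lit 0, false, nat_lit 0⟩,
  ⟨nat_lit 0, nat_lit 2, nat_lit 0x810000000000990, nat_lit 0, false, nat_lit 0⟩,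
  ⟨nat_lit 0, nat_lit 2, nat_lit 0x8a80000000009a0, nat_lit 0, false, nat_lit 0⟩,
  ⟨nat_lit 0, nat_lit 2, nat_lit 0x810000000000940, nat_lit 0, false, nat_lit 0⟩,
  ⟨nat_lit 0, nat_lit 2, nat_lit 0x7e00000000009c0, nat_lit 0, false, nat_lit 0⟩,
  ⟨nat_lit 0, nat_lit 3, nat_lit 0x100061d0000000008a00000000009d0, nat_lit 0, false, nat_lit 0⟩,
  ⟨nat_lit 0, nat_lit 2, nat_lit 0x7600000000009e0, nat_lit 0, false, nat_lit 0⟩,
  ⟨nat_lit 0, nat_lit 2, nat_lit 0x8a00000000009f0, nat_lit 0, false, nat_lit 0⟩,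
  ⟨nat_lit 0, nat_lit 2, nat_lit 0x810000000000a00, nat_lit 0, false, nat_lit 0⟩,
  ⟨nat_lit 0, nat_lit 2, nat_lit 0x7e8000000000a10, nat_lit 0, false, nat_lit 0⟩,
  ⟨nat_lit 0, nat_lit 2, nat_lit 0x8a8000000000a20, nat_lit 0, false, nat_lit 0⟩,
  ⟨nat_lit 1, nat_lit 0, nat_lit 0, nat_lit 0, false, nat_lit 0⟩,
  ⟨nat_lit 0, nat_lit 6, nat_lit 0x2000000000a4000000000000a000000000a31000000000921000000000833, nat_lit 0, false, nat_lit 0⟩,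
  ⟨nat_lit 0, nat_lit 2, nat_lit 0x8100000000008b0, nat_lit 0, false, nat_lit 0⟩,
  ⟨nat_lit 0, nat_lit 2, nat_lit 0x7e0000000000a60, nat_lit 0, false, nat_lit 0⟩,
  ⟨nat_lit 0, nat_lit 3, nat_lit 0x100061d0000000008a0000000000a70, nat_lit 0, false, nat_lit 0⟩,
  ⟨nat_lit 0, nat_lit 2, nat_lit 0x810000000000a80, nat_lit 0, false, nat_lit 0⟩,
  ⟨nat_lit 0, nat_lit 2, nat_lit 0x7e8000000000a90, nat_lit 0, false, nat_lit 0⟩,
  ⟨nat_lit 0, nat_lit 2, nat_lit 0x8a0000000000aa0, nat_lit 0, false, nat_lit 0⟩,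
  ⟨nat_lit 0, nat_lit 2, nat_lit 0x810000000000ab0, nat_lit 0, false, nat_lit 0⟩,
  ⟨nat_lit 0, nat_lit 2, nat_lit 0x8100000000008a0, nat_lit 0, false, nat_lit 0⟩,
  ⟨nat_lit 0, nat_lit 2, nat_lit 0x7e0000000000ad0, nat_lit 0, false, nat_lit 0⟩,
  ⟨nat_lit 0, nat_lit 3, nat_lit 0x100061d0000000008a0000000000ae0, nat_lit 0, false, nat_lit 0⟩,
  ⟨nat_lit 0, nat_lit 2, nat_lit 0x810000000000af0, nat_lit 0, false, nat_lit 0⟩,
  ⟨nat_lit 0, nat_lit 2, nat_lit 0x7e8000000000810, nat_lit 0, false, nat_lit 0⟩,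
  ⟨nat_lit 0, nat_lit 2, nat_lit 0x760000000000a80, nat_lit 0, false, nat_lit 0⟩,
  ⟨nat_lit 0, nat_lit 2, nat_lit 0x810000000000b20, nat_lit 0, false, nat_lit 0⟩,
  ⟨nat_lit 0, nat_lit 2, nat_lit 0x8a0000000000b30, nat_lit 0, false, nat_lit 0⟩,
  ⟨nat_lit 0, nat_lit 3, nat_lit 0x100061d0000000008a0000000000a10, nat_lit 0, false, nat_lit 0⟩,
  ⟨nat_lit 0, nat_lit 2, nat_lit 0x760000000000b50, nat_lit 0, false, nat_lit 0⟩,
  ⟨nat_lit 0, nat_lit 2, nat_lit 0x7e0000000000810, nat_lit 0, false, nat_lit 0⟩,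
  ⟨nat_lit 0, nat_lit 2, nat_lit 0x8a0000000000b20, nat_lit 0, false, nat_lit 0⟩,
  ⟨nat_lit 0, nat_lit 2, nat_lit 0x810000000000b80, nat_lit 0, false, nat_lit 0⟩,
  ⟨nat_lit 0, nat_lit 2, nat_lit 0x8a8000000000b90, nat_lit 0, false, nat_lit 0⟩,
  ⟨nat_lit 0, nat_lit 2, nat_lit 0x8100000000008c0, nat_lit 0, false, nat_lit 0⟩,
  ⟨nat_lit 0, nat_lit 2, nat_lit 0x7e0000000000bb0, nat_lit 0, false, nat_lit 0⟩,
  ⟨nat_lit 0, nat_lit 3, nat_lit 0x100061d0000000008a0000000000bc0, nat_lit 0, false, nat_lit 0⟩,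
  ⟨nat_lit 0, nat_lit 2, nat_lit 0x760000000000bd0, nat_lit 0, false, nat_lit 0⟩,
  ⟨nat_lit 0, nat_lit 2, nat_lit 0x810000000000be0, nat_lit 0, false, nat_lit 0⟩,
  ⟨nat_lit 0, nat_lit 2, nat_lit 0x7e8000000000bf0, nat_lit 0, false, nat_lit 0⟩,
  ⟨nat_lit 0, nat_lit 2, nat_lit 0x8a0000000000c00, nat_lit 0, false, nat_lit 0⟩,
  ⟨nat_lit 0, nat_lit 2, nat_lit 0x8100000000009e0, nat_lit 0, false, nat_lit 0⟩,
  ⟨nat_lit 0, nat_lit 2, nat_lit 0x7e8000000000920, nat_lit 0, false, nat_lit 0⟩,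
  ⟨nat_lit 0, nat_lit 2, nat_lit 0x8a8000000000a70, nat_lit 0, false, nat_lit 0⟩,
  ⟨nat_lit 0, nat_lit 2, nat_lit 0x810000000000bd0, nat_lit 0, false, nat_lit 0⟩,
  ⟨nat_lit 0, nat_lit 2, nat_lit 0x7e8000000000c50, nat_lit 0, false, nat_lit 0⟩,
  ⟨nat_lit 0, nat_lit 3, nat_lit 0x100061d0000000008a00000000007a0, nat_lit 0, false, nat_lit 0⟩]

theorem c0 : P.chkL D0 0 = true := by decide +kernel

def D1 : List De := [⟨nat_lit 0, nat_lit 2, nat_lit 0x7e8000000000b00, nat_lit 0, false, nat_lit 0⟩,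
  ⟨nat_lit 0, nat_lit 2, nat_lit 0x8a0000000000c80, nat_lit 0, false, nat_lit 0⟩,
  ⟨nat_lit 0, nat_lit 2, nat_lit 0x760000000000c90, nat_lit 0, false, nat_lit 0⟩,
  ⟨nat_lit 0, nat_lit 3, nat_lit 0x100061d0000000008a0000000000ca0, nat_lit 0, false, nat_lit 0⟩,
  ⟨nat_lit 0, nat_lit 2, nat_lit 0x8a8000000000bc0, nat_lit 0, false, nat_lit 0⟩,
  ⟨nat_lit 0, nat_lit 2, nat_lit 0x810000000000cc0, nat_lit 0, false, nat_lit 0⟩,
  ⟨nat_lit 0, nat_lit 2, nat_lit 0x7e80000000009c0, nat_lit 0, false, nat_lit 0⟩,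
  ⟨nat_lit 0, nat_lit 2, nat_lit 0x7e8000000000ad0, nat_lit 0, false, nat_lit 0⟩,
  ⟨nat_lit 0, nat_lit 2, nat_lit 0x7e8000000000a60, nat_lit 0, false, nat_lit 0⟩,
  ⟨nat_lit 0, nat_lit 3, nat_lit 0x100061d0000000008a0000000000d00, nat_lit 0, false, nat_lit 0⟩,
  ⟨nat_lit 0, nat_lit 2, nat_lit 0x810000000000d10, nat_lit 0, false, nat_lit 0⟩,
  ⟨nat_lit 0, nat_lit 2, nat_lit 0x7e0000000000d20, nat_lit 0, false, nat_lit 0⟩,
  ⟨nat_lit 0, nat_lit 2, nat_lit 0x8a0000000000d30, nat_lit 0, false, nat_lit 0⟩,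
  ⟨nat_lit 0, nat_lit 2, nat_lit 0x760000000000d40, nat_lit 0, false, nat_lit 0⟩,
  ⟨nat_lit 0, nat_lit 2, nat_lit 0x7e00000000008e0, nat_lit 0, false, nat_lit 0⟩,
  ⟨nat_lit 0, nat_lit 2, nat_lit 0x8100000000009f0, nat_lit 0, false, nat_lit 0⟩,
  ⟨nat_lit 0, nat_lit 2, nat_lit 0x8a0000000000d70, nat_lit 0, false, nat_lit 0⟩,
  ⟨nat_lit 0, nat_lit 3, nat_lit 0x10006150000000008a8000000000be0, nat_lit 0, false, nat_lit 0⟩,
  ⟨nat_lit 0, nat_lit 2, nat_lit 0x810000000000d90, nat_lit 0, false, nat_lit 0⟩,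
  ⟨nat_lit 0, nat_lit 2, nat_lit 0x7e8000000000bb0, nat_lit 0, false, nat_lit 0⟩,
  ⟨nat_lit 0, nat_lit 2, nat_lit 0x8a8000000000db0, nat_lit 0, false, nat_lit 0⟩,
  ⟨nat_lit 0, nat_lit 2, nat_lit 0x8a8000000000ca0, nat_lit 0, false, nat_lit 0⟩,
  ⟨nat_lit 0, nat_lit 2, nat_lit 0x810000000000ca0, nat_lit 0, false, nat_lit 0⟩,
  ⟨nat_lit 0, nat_lit 3, nat_lit 0x100061d0000000008a0000000000de0, nat_lit 0, false, nat_lit 0⟩,
  ⟨nat_lit 0, nat_lit 2, nat_lit 0x810000000000b40, nat_lit 0, false, nat_lit 0⟩,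
  ⟨nat_lit 0, nat_lit 2, nat_lit 0x8a8000000000e00, nat_lit 0, false, nat_lit 0⟩,
  ⟨nat_lit 0, nat_lit 3, nat_lit 0x100061d0000000008a0000000000db0, nat_lit 0, false, nat_lit 0⟩,
  ⟨nat_lit 0, nat_lit 2, nat_lit 0x760000000000e20, nat_lit 0, false, nat_lit 0⟩,
  ⟨nat_lit 0, nat_lit 3, nat_lit 0x10006150000000008a8000000000d60, nat_lit 0, false, nat_lit 0⟩,
  ⟨nat_lit 0, nat_lit 3, nat_lit 0x100061d0000000008a0000000000cf0, nat_lit 0, false, nat_lit 0⟩,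
  ⟨nat_lit 0, nat_lit 2, nat_lit 0x8a8000000000d00, nat_lit 0, false, nat_lit 0⟩,
  ⟨nat_lit 0, nat_lit 2, nat_lit 0x730000000000700, nat_lit 0, false, nat_lit 0⟩,
  ⟨nat_lit 0, nat_lit 2, nat_lit 0x8a0000000000c60, nat_lit 0, false, nat_lit 0⟩,
  ⟨nat_lit 0, nat_lit 2, nat_lit 0x760000000000e80, nat_lit 0, false, nat_lit 0⟩,
  ⟨nat_lit 0, nat_lit 2, nat_lit 0x8a8000000000e90, nat_lit 0, false, nat_lit 0⟩,
  ⟨nat_lit 0, nat_lit 2, nat_lit 0x810000000000e50, nat_lit 0, false, nat_lit 0⟩,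
  ⟨nat_lit 0, nat_lit 2, nat_lit 0x7e0000000000b00, nat_lit 0, false, nat_lit 0⟩,
  ⟨nat_lit 0, nat_lit 2, nat_lit 0x760000000000ab0, nat_lit 0, false, nat_lit 0⟩,
  ⟨nat_lit 0, nat_lit 2, nat_lit 0x810000000000ed0, nat_lit 0, false, nat_lit 0⟩,
  ⟨nat_lit 0, nat_lit 2, nat_lit 0x810000000000d80, nat_lit 0, false, nat_lit 0⟩,
  ⟨nat_lit 0, nat_lit 3, nat_lit 0x100061d0000000008a0000000000ef0, nat_lit 0, false, nat_lit 0⟩,
  ⟨nat_lit 0, nat_lit 2, nat_lit 0x810000000000c10, nat_lit 0, false, nat_lit 0⟩,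
  ⟨nat_lit 0, nat_lit 3, nat_lit 0x100061d0000000008a0000000000f10, nat_lit 0, false, nat_lit 0⟩,
  ⟨nat_lit 0, nat_lit 2, nat_lit 0x8a8000000000ed0, nat_lit 0, false, nat_lit 0⟩,
  ⟨nat_lit 0, nat_lit 3, nat_lit 0x100061d0000000008a0000000000ce0, nat_lit 0, false, nat_lit 0⟩,
  ⟨nat_lit 0, nat_lit 2, nat_lit 0x8a0000000000e30, nat_lit 0, false, nat_lit 0⟩,
  ⟨nat_lit 0, nat_lit 2, nat_lit 0x810000000000f50, nat_lit 0, false, nat_lit 0⟩,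
  ⟨nat_lit 0, nat_lit 2, nat_lit 0x8a8000000000f60, nat_lit 0, false, nat_lit 0⟩,
  ⟨nat_lit 0, nat_lit 2, nat_lit 0x7e8000000000ac0, nat_lit 0, false, nat_lit 0⟩,
  ⟨nat_lit 0, nat_lit 2, nat_lit 0x8a8000000000f80, nat_lit 0, false, nat_lit 0⟩,
  ⟨nat_lit 0, nat_lit 2, nat_lit 0x8a0000000000c20, nat_lit 0, false, nat_lit 0⟩,
  ⟨nat_lit 0, nat_lit 2, nat_lit 0x760000000000fa0, nat_lit 0, false, nat_lit 0⟩,
  ⟨nat_lit 0, nat_lit 3, nat_lit 0x10006150000000008a8000000000c00, nat_lit 0, false, nat_lit 0⟩,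
  ⟨nat_lit 0, nat_lit 2, nat_lit 0x8a80000000009d0, nat_lit 0, false, nat_lit 0⟩,
  ⟨nat_lit 0, nat_lit 3, nat_lit 0x10006150000000008a80000000008f0, nat_lit 0, false, nat_lit 0⟩,
  ⟨nat_lit 0, nat_lit 2, nat_lit 0x810000000000fe0, nat_lit 0, false, nat_lit 0⟩,
  ⟨nat_lit 0, nat_lit 2, nat_lit 0x7e8000000000d70, nat_lit 0, false, nat_lit 0⟩,
  ⟨nat_lit 0, nat_lit 2, nat_lit 0x810000000000f40, nat_lit 0, false, nat_lit 0⟩,
  ⟨nat_lit 0, nat_lit 2, nat_lit 0x8a0000000001010, nat_lit 0, false, nat_lit 0⟩,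
  ⟨nat_lit 0, nat_lit 2, nat_lit 0x760000000001020, nat_lit 0, false, nat_lit 0⟩,
  ⟨nat_lit 0, nat_lit 3, nat_lit 0x10006150000000008a8000000000730, nat_lit 0, false, nat_lit 0⟩,
  ⟨nat_lit 0, nat_lit 2, nat_lit 0x7e0000000000eb0, nat_lit 0, false, nat_lit 0⟩,
  ⟨nat_lit 0, nat_lit 2, nat_lit 0x760000000000f40, nat_lit 0, false, nat_lit 0⟩,
  ⟨nat_lit 0, nat_lit 2, nat_lit 0x8a0000000001060, nat_lit 0, false, nat_lit 0⟩,
  ⟨nat_lit 0, nat_lit 2, nat_lit 0x810000000001070, nat_lit 0, false, nat_lit 0⟩,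
  ⟨nat_lit 0, nat_lit 2, nat_lit 0x7e0000000001080, nat_lit 0, false, nat_lit 0⟩,
  ⟨nat_lit 0, nat_lit 3, nat_lit 0x10006150000000008a8000000000970, nat_lit 0, false, nat_lit 0⟩,
  ⟨nat_lit 0, nat_lit 3, nat_lit 0x100061d0000000008a0000000000d50, nat_lit 0, false, nat_lit 0⟩,
  ⟨nat_lit 0, nat_lit 2, nat_lit 0x8a0000000001050, nat_lit 0, false, nat_lit 0⟩,
  ⟨nat_lit 0, nat_lit 2, nat_lit 0x7600000000010c0, nat_lit 0, false, nat_lit 0⟩,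
  ⟨nat_lit 0, nat_lit 3, nat_lit 0x100061d0000000008a00000000010d0, nat_lit 0, false, nat_lit 0⟩,
  ⟨nat_lit 0, nat_lit 2, nat_lit 0x8a8000000001030, nat_lit 0, false, nat_lit 0⟩,
  ⟨nat_lit 1, nat_lit 0, nat_lit 0, nat_lit 0, false, nat_lit 0⟩,
  ⟨nat_lit 0, nat_lit 36, nat_lit 0x200061d000000000a52000000000fd10000000009310000000007e90000000007e0000000000a52000000000ea10000000008110000000007e10000000007e8000000000a5a00000000000200000000110000000000000a0000000007a10000000010e10000000009310000000007e9000000000a5a0000000007a10000000010b10000000008110000000007e0000000000a520000000007a10000000009b1000000000b710000000007e90000000008630000000007a10000000010f1000000000b710000000007e90000000007e8000000000a5c, nat_lit 0, false, nat_lit 0⟩,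
  ⟨nat_lit 0, nat_lit 9, nat_lit 0x20006150000000007680000000007380000000008a80000000008180000000008a80000000007680000000007a8000000001110, nat_lit 0, false, nat_lit 0⟩,
  ⟨nat_lit 0, nat_lit 2, nat_lit 0x8a8000000000bb0, nat_lit 0, false, nat_lit 0⟩,
  ⟨nat_lit 0, nat_lit 2, nat_lit 0x8a8000000000fb0, nat_lit 0, false, nat_lit 0⟩,
  ⟨nat_lit 0, nat_lit 2, nat_lit 0x810000000001140, nat_lit 0, false, nat_lit 0⟩,
  ⟨nat_lit 0, nat_lit 2, nat_lit 0x810000000000980, nat_lit 0, false, nat_lit 0⟩,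
  ⟨nat_lit 0, nat_lit 2, nat_lit 0x7e0000000001160, nat_lit 0, false, nat_lit 0⟩,
  ⟨nat_lit 0, nat_lit 3, nat_lit 0x10006150000000008a8000000000c20, nat_lit 0, false, nat_lit 0⟩,
  ⟨nat_lit 0, nat_lit 2, nat_lit 0x810000000001040, nat_lit 0, false, nat_lit 0⟩,
  ⟨nat_lit 0, nat_lit 2, nat_lit 0x8a0000000001000, nat_lit 0, false, nat_lit 0⟩,
  ⟨nat_lit 0, nat_lit 3, nat_lit 0x10006150000000008a8000000000c80, nat_lit 0, false, nat_lit 0⟩,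
  ⟨nat_lit 0, nat_lit 2, nat_lit 0x8100000000011b0, nat_lit 0, false, nat_lit 0⟩,
  ⟨nat_lit 0, nat_lit 3, nat_lit 0x100061d0000000008a0000000001090, nat_lit 0, false, nat_lit 0⟩,
  ⟨nat_lit 0, nat_lit 3, nat_lit 0x100061d0000000008a0000000000bb0, nat_lit 0, false, nat_lit 0⟩,
  ⟨nat_lit 0, nat_lit 2, nat_lit 0x7600000000011b0, nat_lit 0, false, nat_lit 0⟩,
  ⟨nat_lit 0, nat_lit 2, nat_lit 0x8a8000000001170, nat_lit 0, false, nat_lit 0⟩,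
  ⟨nat_lit 0, nat_lit 2, nat_lit 0x7600000000011a0, nat_lit 0, false, nat_lit 0⟩,
  ⟨nat_lit 0, nat_lit 2, nat_lit 0x760000000000fd0, nat_lit 0, false, nat_lit 0⟩,
  ⟨nat_lit 0, nat_lit 2, nat_lit 0x8a8000000000910, nat_lit 0, false, nat_lit 0⟩,
  ⟨nat_lit 0, nat_lit 2, nat_lit 0x810000000001220, nat_lit 0, false, nat_lit 0⟩,
  ⟨nat_lit 0, nat_lit 2, nat_lit 0x7e8000000001190, nat_lit 0, false, nat_lit 0⟩,
  ⟨nat_lit 0, nat_lit 2, nat_lit 0x810000000000fc0, nat_lit 0, false, nat_lit 0⟩,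
  ⟨nat_lit 0, nat_lit 2, nat_lit 0x7600000000011e0, nat_lit 0, false, nat_lit 0⟩,
  ⟨nat_lit 0, nat_lit 2, nat_lit 0x760000000000e60, nat_lit 0, false, nat_lit 0⟩,
  ⟨nat_lit 1, nat_lit 0, nat_lit 0, nat_lit 0, false, nat_lit 0⟩,
  ⟨nat_lit 0, nat_lit 33, nat_lit 0x100112d000000000a5a000000000f41000000000c310000000007e10000000007e8000000000a5a000000000cb10000000007610000000007e9000000000a5a000000000e110000000007e0000000000a5a000000000b610000000009310000000007e90000000007e8000000000a52000000000df100000000092100000000000200000000129000000000000a000000000c71000000000f31000000000b110000000007e10000000008730000000007a1000000001251000000000b71000000000a5c, nat_lit 0, false, nat_lit 0⟩,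
  ⟨nat_lit 0, nat_lit 10, nat_lit 0x20006150000000007e00000000008180000000008a80000000008180000000008a80000000007680000000008a80000000007a80000000012a0, nat_lit 0, false, nat_lit 0⟩,
  ⟨nat_lit 0, nat_lit 2, nat_lit 0x10006150000010012bd, nat_lit 0, false, nat_lit 0⟩,
  ⟨nat_lit 0, nat_lit 2, nat_lit 0x810000000001210, nat_lit 0, false, nat_lit 0⟩,
  ⟨nat_lit 0, nat_lit 3, nat_lit 0x100061d0000000008a00000000012d0, nat_lit 0, false, nat_lit 0⟩,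
  ⟨nat_lit 0, nat_lit 3, nat_lit 0x10006150000000007600000000008a8, nat_lit 0, false, nat_lit 0⟩,
  ⟨nat_lit 0, nat_lit 2, nat_lit 0x8100000000012f0, nat_lit 0, false, nat_lit 0⟩,
  ⟨nat_lit 0, nat_lit 2, nat_lit 0x8100000000010a0, nat_lit 0, false, nat_lit 0⟩,
  ⟨nat_lit 0, nat_lit 2, nat_lit 0x760000000001180, nat_lit 0, false, nat_lit 0⟩,
  ⟨nat_lit 0, nat_lit 2, nat_lit 0x7e0000000001310, nat_lit 0, false, nat_lit 0⟩,
  ⟨nat_lit 0, nat_lit 2, nat_lit 0x7e0000000001300, nat_lit 0, false, nat_lit 0⟩,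
  ⟨nat_lit 1, nat_lit 0, nat_lit 0, nat_lit 0, false, nat_lit 0⟩,
  ⟨nat_lit 0, nat_lit 30, nat_lit 0x200061d000001001125000000000a5a000000000f310000000007610000000007e9000000000a5a000000000e110000000007e0000000000a5a0000000011d1000000000b110000000007e90000000007e8000000000a52000000000df100000000092100000000000200000000135000000000000a0000000011f1000000000c310000000007e1000000000a52000000000bb10000000008530000000012d10000000007e90000000007e0000000000a54, nat_lit 0, false, nat_lit 0⟩,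
  ⟨nat_lit 0, nat_lit 14, nat_lit 0x20006150000000007e80000000007680000000008180000000007e80000000007380000000008a80000000008180000000007e80000000008a80000000008180000000007e80000000008a8000000001360, nat_lit 0, false, nat_lit 0⟩,
  ⟨nat_lit 0, nat_lit 2, nat_lit 0x200137d000001000615, nat_lit 0, false, nat_lit 0⟩,
  ⟨nat_lit 1, nat_lit 0, nat_lit 0, nat_lit 0, false, nat_lit 0⟩,
  ⟨nat_lit 0, nat_lit 29, nat_lit 0x100137500000100112d000000000a52000000000d710000000007610000000007e10000000007e8000000000a52000000000e21000000000811000000000a52000000000fd10000000009310000000007e90000000007e0000000000a52000000000ea10000000008110000000007e10000000007e8000000000a5a00000000000200000000139000000000000a000000001271000000000921000000000883000000001131000000000a54, nat_lit 0, false, nat_lit 0⟩,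
  ⟨nat_lit 0, nat_lit 17, nat_lit 0x20013850000040013750000000007e00000000007680000000008180000000007380000000008a80000000008180000000007e00000000008a80000000008180000000007e80000000008a80000000007680000000008180000000008a80000000013a0, nat_lit 0, false, nat_lit 0⟩,
  ⟨nat_lit 0, nat_lit 1, nat_lit 0x10013bd, nat_lit 0, false, nat_lit 0⟩,
  ⟨nat_lit 0, nat_lit 2, nat_lit 0x30013cd000001001385, nat_lit 0, false, nat_lit 0⟩,
  ⟨nat_lit 0, nat_lit 1, nat_lit 0x10013dd, nat_lit 0, false, nat_lit 0⟩,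
  ⟨nat_lit 1, nat_lit 0, nat_lit 0, nat_lit 0, false, nat_lit 0⟩,
  ⟨nat_lit 0, nat_lit 36, nat_lit 0xc0013ed00000400137d0000010012cd000001001125000000000a52000000000bd10000000009310000000007e90000000007e0000000000a52000000000ea10000000008110000000007e10000000007e8000000000a5a000000000e710000000000020000000013f000000000000a0000000007a10000000012e1000000000a5a0000000007a1000000000f210000000009210000000007e0000000000a520000000007a1000000000a31000000000c310000000008430000000007a1000000000bf10000000007e10000000007e8000000000a5c, nat_lit 0, false, nat_lit 0⟩,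
  ⟨nat_lit 0, nat_lit 10, nat_lit 0x40013e50000010013750000000007e00000000007680000000008a80000000008180000000007e80000000008a00000000007a8000000001400, nat_lit 0, false, nat_lit 0⟩,
  ⟨nat_lit 0, nat_lit 1, nat_lit 0x100141d, nat_lit 0, false, nat_lit 0⟩,
  ⟨nat_lit 2, nat_lit 0, nat_lit 0, nat_lit 0, false, nat_lit 0⟩,
  ⟨nat_lit 0, nat_lit 16, nat_lit 0x20001425000001001375000000001432000000001081000000000c310000000007a80000000008180000000007680000000008180000000007e80000000008a80000000008180000000008a00000000007680000000007a8000000001434, nat_lit 0, false, nat_lit 0⟩,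
  ⟨nat_lit 0, nat_lit 21, nat_lit 0xa10014250000050013750000000014320000000011510000000008110000000007a80000000008180000000007e00000000007680000000008180000000007e00000000008a80000000007680000000008a80000000008180000000008a80000000007680000000008a00000000007a80000000008a8000000001434, nat_lit 0, false, nat_lit 0⟩,
  ⟨nat_lit 0, nat_lit 20, nat_lit 0xa0001425000005001375000000001432000000000cd1000000000b710000000007a80000000007e00000000008180000000007e80000000008a80000000008180000000007e00000000008a80000000008180000000008a80000000007680000000008a00000000007a80000000008a8000000001434, nat_lit 0, false, nat_lit 0⟩,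
  ⟨nat_lit 0, nat_lit 12, nat_lit 0x1450000000001460000000001448000000001440000000001458000000001468000000001468000000001450000000001448000000001468000000001440000000001458, nat_lit 0, false, nat_lit 0⟩,
  ⟨nat_lit 0, nat_lit 21, nat_lit 0xc00014250000060013750000000014320000000013210000000009310000000007e10000000007a80000000008180000000007e00000000008a80000000008180000000007e80000000007380000000008a80000000008180000000008a80000000007680000000008a80000000007a80000000008a8000000001434, nat_lit 0, false, nat_lit 0⟩,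
  ⟨nat_lit 1, nat_lit 0, nat_lit 0, nat_lit 0, false, nat_lit 0⟩,
  ⟨nat_lit 0, nat_lit 17, nat_lit 0x1c00142d00000100137d000001000635000000001432000000000e7100000000000200000000149000000000000a000000000e41000000000773000000000c410000000008110000000007e90000000007e8000000000810000000000760000000001434, nat_lit 0, false, nat_lit 0⟩,
  ⟨nat_lit 0, nat_lit 3, nat_lit 0x14880000000014480000000014a0, nat_lit 0, false, nat_lit 0⟩,
  ⟨nat_lit 1, nat_lit 0, nat_lit 0, nat_lit 0, false, nat_lit 0⟩,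
  ⟨nat_lit 0, nat_lit 12, nat_lit 0x1d00142d00000100137d0000010006dd0000000014320000000007a10000000000020000000014c000000000000a000000000c71000000000ba10000000009210000000007b3, nat_lit 0, false, nat_lit 0⟩,
  ⟨nat_lit 4, nat_lit 0, nat_lit 0, nat_lit 333, false, nat_lit 0⟩,
  ⟨nat_lit 0, nat_lit 20, nat_lit 0x70014250000000014da000000000c71000000000da1000000000c310000000007e90000000014480000000014580000000014d2000000001231000000000b110000000007a80000000008a00000000007a800000000081800000000143a000000000c71000000000dd10000000007e10000000014e3, nat_lit 0, false, nat_lit 0⟩,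
  ⟨nat_lit 4, nat_lit 0, nat_lit 0, nat_lit 335, true, nat_lit 8⟩,
  ⟨nat_lit 0, nat_lit 14, nat_lit 0x450014250000020013750000000014fa000000000c71000000000f710000000008110000000007e10000000008a80000000007680000000007a800000000143a000000000c71000000001201000000000823, nat_lit 0, false, nat_lit 0⟩,
  ⟨nat_lit 0, nat_lit 16, nat_lit 0x2b00142500000100137500000000143a0000000012410000000007e90000000014fa000000001261000000000b110000000007e90000000008a80000000008180000000008a8000000000a52000000000c71000000001151000000001503, nat_lit 0, false, nat_lit 0⟩,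
  ⟨nat_lit 0, nat_lit 11, nat_lit 0x41001425000002001375000000001522000000000ec10000000007e90000000007e00000000008a80000000007a80000000008180000000007e000000000152c, nat_lit 0, false, nat_lit 0⟩,
  ⟨nat_lit 0, nat_lit 15, nat_lit 0x7e0014250000040013750000000007e80000000007680000000008180000000007e80000000007380000000008a80000000008180000000007e00000000008a80000000007680000000008a80000000007a8000000001530, nat_lit 0, false, nat_lit 0⟩,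
  ⟨nat_lit 0, nat_lit 47, nat_lit 0x8500142d00000400137d00000100154d00000100112d0000000015220000000007a1000000000dc10000000009210000000007e90000000008a80000000007a80000000008180000000007e00000000015220000000007a1000000000f010000000007610000000008a80000000007680000000008a80000000014f20000000007a10000000013410000000009310000000007e90000000014b80000000014fa0000000007a1000000000ee10000000007610000000007e10000000007e80000000014f20000000007a1000000000bc10000000007e9000000001512000000000c71000000000f910000000009210000000007e100000000144000000000151a0000000013310000000008110000000007e9000000000883, nat_lit 0, false, nat_lit 0⟩,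
  ⟨nat_lit 0, nat_lit 11, nat_lit 0x1d00142d00000100137d000001001545000000001432000000000c710000000011c10000000009310000000007e10000000008180000000007e000000000155c, nat_lit 0, false, nat_lit 0⟩,
  ⟨nat_lit 0, nat_lit 3, nat_lit 0x14680000000014b8000000001560, nat_lit 0, false, nat_lit 0⟩,
  ⟨nat_lit 0, nat_lit 28, nat_lit 0x500142500000100154d0000000015120000000007a1000000000ff10000000007610000000014480000000014b80000000015780000000014fa000000000a31000000000c310000000007e10000000008a80000000007680000000007a80000000008180000000007e0000000000a5a0000000008f10000000007610000000008930000000012810000000009210000000007e9000000000810000000000760000000001434, nat_lit 0, false, nat_lit 0⟩,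
  ⟨nat_lit 0, nat_lit 5, nat_lit 0x1478000000001488000000001470000000001570000000001580, nat_lit 0, false, nat_lit 0⟩,
  ⟨nat_lit 0, nat_lit 1, nat_lit 0x100159d, nat_lit 0, false, nat_lit 0⟩,
  ⟨nat_lit 0, nat_lit 1, nat_lit 0x1001425, nat_lit 0, false, nat_lit 0⟩,
  ⟨nat_lit 0, nat_lit 2, nat_lit 0x200015b5000001001375, nat_lit 0, false, nat_lit 0⟩,
  ⟨nat_lit 0, nat_lit 1, nat_lit 0x1000475, nat_lit 0, false, nat_lit 0⟩,
  ⟨nat_lit 0, nat_lit 1, nat_lit 0x1000405, nat_lit 0, false, nat_lit 0⟩,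
  ⟨nat_lit 0, nat_lit 3, nat_lit 0x20015dd0000010015ed000001000305, nat_lit 0, false, nat_lit 0⟩,
  ⟨nat_lit 0, nat_lit 1, nat_lit 0x1001545, nat_lit 0, false, nat_lit 0⟩,
  ⟨nat_lit 0, nat_lit 1, nat_lit 0x10015a5, nat_lit 0, false, nat_lit 0⟩,
  ⟨nat_lit 0, nat_lit 4, nat_lit 0x160015b50000010015cd00000100160d000001001125, nat_lit 0, false, nat_lit 0⟩,
  ⟨nat_lit 0, nat_lit 2, nat_lit 0x100160d0000010006d5, nat_lit 0, false, nat_lit 0⟩,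
  ⟨nat_lit 0, nat_lit 1, nat_lit 0x1000635, nat_lit 0, false, nat_lit 0⟩]

theorem c1 : P.chkL D1 200 = true := by decide +kernel


theorem val {H : Type} [Group H] {N : ℕ} {Γ : Type} [Group Γ] {A : RAct H N} {g : ℕ → H} {φ : H →* Γ} {z : Γ}
    {c : ℕ → Subgroup.center Γ} (h : CtxH P A g) (hG : CtxG P g φ z c) :
    ∀ x < 357, Val P g φ z c (P.F x) := by
  have h0 : ∀ x < 0, Val P g φ z c (P.F x) := forall_lt_zero'
  have h1 : ∀ x < 200, Val P g φ z c (P.F x) := chkL_spec h hG h0 c0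
  have h2 : ∀ x < 357, Val P g φ z c (P.F x) := chkL_spec h hG h1 c1
  exact h2

theorem rel {H : Type} [Group H] {N : ℕ} {Γ : Type} [Group Γ] {A : RAct H N} {g : ℕ → H} {φ : H →* Γ} {z : Γ}
    {c : ℕ → Subgroup.center Γ} (h : CtxH P A g) (hG : CtxG P g φ z c) : ∀ i < 10, c i = 1 :=
  rel_unit (val h hG) (l := [nat_lit 356, nat_lit 355, nat_lit 354, nat_lit 353, nat_lit 352, nat_lit 351, nat_lit 350, nat_lit 349, nat_lit 348, nat_lit 347]) (by decide +kernel)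

end Cfsg.Agent.L0.ThFA
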