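import Cfsg.Agent.L0.CosetChain

/-! Generated coset table certificate. -/

set_option autoImplicit false
set_option maxRecDepth 100000

namespace Cfsg.Agent.L0.ThTc2

noncomputable def t0 : BT := .leaf (nat_lit 0x274f8b2e5cb972e5d0c000000000000008b5b5d2d5ab56ad5350000000000000001a104850a142850800)

noncomputable def tree : BT := t0

noncomputable def row : ℕ → ℕ := rowOf tree (nat_lit 3) (nat_lit 7) (nat_lit 130) (nat_lit 0x3ffffffffffffffffffffffffffffffff)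

noncomputable def cols : List Col := [⟨nat_lit 11, nat_lit 1, [([nat_lit 53, nat_lit 11, nat_lit 67], nat_lit 0), ([nat_lit 67, nat_lit 11, nat_lit 53], nat_lit 0)]⟩,
  ⟨nat_lit 18, nat_lit 1, [([nat_lit 53, nat_lit 18, nat_lit 67], nat_lit 0), ([nat_lit 67, nat_lit 18, nat_lit 53], nat_lit 0)]⟩,
  ⟨nat_lit 25, nat_lit 1, [([nat_lit 53, nat_lit 25, nat_lit 67], nat_lit 0), ([nat_lit 67, nat_lit 25, nat_lit 53], nat_lit 0)]⟩,
  ⟨nat_lit 32, nat_lit 1, [([nat_lit 53, nat_lit 32, nat_lit 67], nat_lit 0), ([nat_lit 67, nat_lit 32, nat_lit 53], nat_lit 0)]⟩,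
  ⟨nat_lit 39, nat_lit 1, [([nat_lit 53, nat_lit 39, nat_lit 67], nat_lit 0), ([nat_lit 67, nat_lit 39, nat_lit 53], nat_lit 0)]⟩,
  ⟨nat_lit 46, nat_lit 1, [([nat_lit 53, nat_lit 60, nat_lit 60, nat_lit 67], nat_lit 0)]⟩,
  ⟨nat_lit 53, nat_lit 0, [([nat_lit 67], nat_lit 0), ([nat_lit 53, nat_lit 53], nat_lit 0)]⟩,
  ⟨nat_lit 60, nat_lit 1, [([nat_lit 46], nat_lit 0)]⟩,
  ⟨nat_lit 67, nat_lit 0, [([nat_lit 53], nat_lit 0)]⟩]

noncomputable def erots : List (List ℕ × ℕ) := []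

noncomputable def gens : List ℕ := [nat_lit 11, nat_lit 18, nat_lit 25, nat_lit 32, nat_lit 39, nat_lit 46, nat_lit 53, nat_lit 60, nat_lit 67]

noncomputable def chk : ℕ → Bool := chkRow0 row (nat_lit 3) (nat_lit 0x3) (nat_lit 0x1c) (nat_lit 5) (nat_lit 0x3) (nat_lit 0) (nat_lit 0x3) (nat_lit 2) (nat_lit 0xff) (nat_lit 0x400) [] cols gens

theorem b0 : allR chk 2 0 = true := by decide +kernel

noncomputable def T : CT := ⟨row, nat_lit 3, nat_lit 3, nat_lit 0x3, nat_lit 0x1c, nat_lit 5, nat_lit 0x3, nat_lit 0, nat_lit 0x3, nat_lit 2, nat_lit 0xff, nat_lit 0x400, nat_lit 130, nat_lit 130, nat_lit 0, nat_lit 5, [], cols, erots, gens⟩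

theorem all : ∀ c < 3, chk c = true := fun c hc =>
  allR_glue (d := 2) (n := 1) (forall_lt_succ' forall_lt_zero' b0) c (lt_of_lt_of_le hc (by norm_num))

/-- the relators used -/
def R : List (List ℕ) := [[nat_lit 5, nat_lit 7],
  [nat_lit 6, nat_lit 8],
  [nat_lit 6, nat_lit 6, nat_lit 6],
  [nat_lit 8, nat_lit 0, nat_lit 6, nat_lit 0],
  [nat_lit 8, nat_lit 1, nat_lit 6, nat_lit 1],
  [nat_lit 8, nat_lit 2, nat_lit 6, nat_lit 2],
  [nat_lit 8, nat_lit 3, nat_lit 6, nat_lit 3],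
  [nat_lit 8, nat_lit 4, nat_lit 6, nat_lit 4],
  [nat_lit 8, nat_lit 5, nat_lit 6, nat_lit 7, nat_lit 7]]

theorem cert : Cert T (R.map fun r => (r, 0)) ([0, 1, 2, 3, 4, 5, 7].map fun y => (y, 0)) 11 7 [0, 1, 2, 3, 4, 5, 6, 7, 8] :=
  ⟨by decide +kernel, ⟨[[(3, 1), (3, 3)], [(4, 1), (4, 3)], [(5, 1), (5, 3)], [(6, 1), (6, 3)], [(7, 1), (7, 3)], [(8, 1)], [(1, 0), (2, 0)], [(0, 1)], [(1, 1)]], [], by decide +kernel⟩, by decide +kernel, Or.inl ⟨rfl, all⟩⟩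

theorem bound {Γ : Type*} [Group Γ] {x : ℕ → Γ} (hR : ∀ r ∈ R, ev x r = 1) {n : ℕ}
    (h : CardLe x [0, 1, 2, 3, 4, 5, 7] n) : CardLe x [0, 1, 2, 3, 4, 5, 6, 7, 8] (3 * n) :=
  cert.cardLe rfl hR h

end Cfsg.Agent.L0.ThTc2
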