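import Cfsg.Agent.L0.Th.Tc3C0
import Cfsg.Agent.L0.Th.Tc3C1

/-! Generated coset table certificate. -/

set_option autoImplicit false
set_option maxRecDepth 100000

namespace Cfsg.Agent.L0.ThTc3

noncomputable def T : CT := ⟨row, nat_lit 32192, nat_lit 17472, nat_lit 0x7fff, nat_lit 0x7f8000, nat_lit 23, nat_lit 0x7f, nat_lit 0, nat_lit 0x7fff, nat_lit 15, nat_lit 0x3ff, nat_lit 0x3e000000, nat_lit 540, nat_lit 570, nat_lit 4, nat_lit 32, [], cols, erots, gens⟩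

theorem a50 : ∀ j < 50, allR chk 9 j = true := (forall_lt_succ' (forall_lt_succ' (forall_lt_succ' (forall_lt_succ' (forall_lt_succ' (forall_lt_succ' (forall_lt_succ' (forall_lt_succ' (forall_lt_succ' (forall_lt_succ' (forall_lt_succ' (forall_lt_succ' (forall_lt_succ' (forall_lt_succ' (forall_lt_succ' (forall_lt_succ' (forall_lt_succ' (forall_lt_succ' (forall_lt_succ' (forall_lt_succ' (forall_lt_succ' (forall_lt_succ' (forall_lt_succ' (forall_lt_succ' (forall_lt_succ' (forall_lt_succ' (forall_lt_succ' (forall_lt_succ' (forall_lt_succ' (forall_lt_succ' (forall_lt_succ' (forall_lt_succ' (forall_lt_succ' (forall_lt_succ' (forall_lt_succ' (forall_lt_succ' (forall_lt_succ' (forall_lt_succ' (forall_lt_succ' (forall_lt_succ' (forall_lt_succ' (forall_lt_succ' (forall_lt_succ' (forall_lt_succ' (forall_lt_succ' (forall_lt_succ' (forall_lt_succ' (forall_lt_succ' (forall_lt_succ' (forall_lt_succ' forall_lt_zero'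 b0) b1) b2) b3) b4) b5) b6) b7) b8) b9) b10) b11) b12) b13) b14) b15) b16) b17) b18) b19) b20) b21) b22) b23) b24) b25) b26) b27) b28) b29) b30) b31) b32) b33) b34) b35) b36) b37) b38) b39) b40) b41) b42) b43) b44) b45) b46) b47) b48) b49)
theorem all : ∀ c < 32192, chk c = true := fun c hc =>
  allR_glue (d := 9) (n := 63) (forall_lt_succ' (forall_lt_succ' (forall_lt_succ' (forall_lt_succ' (forall_lt_succ' (forall_lt_succ' (forall_lt_succ' (forall_lt_succ' (forall_lt_succ' (forall_lt_succ' (forall_lt_succ' (forall_lt_succ' (forall_lt_succ' a50 b50) b51) b52) b53) b54) b55) b56) b57) b58) b59) b60) b61) b62) c (lt_of_lt_of_le hc (by norm_num))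

/-- the relators used -/
def R : List (List ℕ) := [[nat_lit 0, nat_lit 0],
  [nat_lit 1, nat_lit 1],
  [nat_lit 2, nat_lit 2],
  [nat_lit 3, nat_lit 3],
  [nat_lit 4, nat_lit 4],
  [nat_lit 5, nat_lit 7],
  [nat_lit 0, nat_lit 1, nat_lit 0, nat_lit 1, nat_lit 0, nat_lit 1],
  [nat_lit 0, nat_lit 4, nat_lit 0, nat_lit 4],
  [nat_lit 1, nat_lit 2, nat_lit 1, nat_lit 2, nat_lit 1, nat_lit 2],
  [nat_lit 1, nat_lit 3, nat_lit 1, nat_lit 3],
  [nat_lit 1, nat_lit 4, nat_lit 1, nat_lit 4],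
  [nat_lit 0, nat_lit 3, nat_lit 2, nat_lit 3, nat_lit 2, nat_lit 3, nat_lit 2, nat_lit 3, nat_lit 2],
  [nat_lit 2, nat_lit 4, nat_lit 2, nat_lit 4],
  [nat_lit 3, nat_lit 4, nat_lit 3, nat_lit 4, nat_lit 3, nat_lit 4],
  [nat_lit 1, nat_lit 2, nat_lit 3, nat_lit 4, nat_lit 1, nat_lit 2, nat_lit 3, nat_lit 4, nat_lit 1, nat_lit 2, nat_lit 3, nat_lit 4, nat_lit 1, nat_lit 2, nat_lit 3, nat_lit 4, nat_lit 1, nat_lit 2, nat_lit 3, nat_lit 4, nat_lit 1, nat_lit 2, nat_lit 3, nat_lit 4, nat_lit 1, nat_lit 2, nat_lit 3, nat_lit 4, nat_lit 1, nat_lit 2, nat_lit 3, nat_lit 4],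
  [nat_lit 5, nat_lit 5, nat_lit 5, nat_lit 5, nat_lit 5, nat_lit 5, nat_lit 5],
  [nat_lit 7, nat_lit 0, nat_lit 5, nat_lit 0],
  [nat_lit 7, nat_lit 1, nat_lit 5, nat_lit 1],
  [nat_lit 7, nat_lit 2, nat_lit 5, nat_lit 2],
  [nat_lit 5, nat_lit 3, nat_lit 5, nat_lit 3],
  [nat_lit 4, nat_lit 7, nat_lit 4, nat_lit 7, nat_lit 7, nat_lit 4, nat_lit 5, nat_lit 5, nat_lit 5]]

theorem cert : Cert T (R.map fun r => (r, 0)) ([0, 1, 2, 3, 4].map fun y => (y, 0)) 30 30 [0, 1, 2, 3, 4, 5, 7] :=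
  ⟨by decide +kernel, ⟨[[(0, 0), (16, 1), (7, 0), (16, 3), (11, 0), (6, 0)], [(1, 0), (17, 1), (17, 3), (10, 0), (9, 0), (6, 1), (8, 0), (14, 0)], [(2, 0), (18, 1), (18, 3), (12, 0), (8, 1), (11, 2), (11, 4), (11, 8), (14, 1), (11, 6)], [(3, 0), (19, 1), (9, 1), (13, 0), (11, 3), (11, 1), (11, 5), (14, 2), (11, 7)], [(4, 0), (10, 1), (7, 1), (12, 1), (13, 1), (20, 2), (20, 0), (20, 5), (14, 3)], [(5, 0), (19, 0), (17, 2), (16, 2), (18, 2), (15, 0), (20, 8), (20, 7), (20, 6)], [(5, 1), (16, 0), (17, 0), (18, 0), (20, 1), (20, 4), (20, 3)]], [(5, 1), (5, 0), (4, 0), (3, 0), (2, 0), (1, 0), (0, 0), (11, 1), (11, 0), (14, 2), (14, 3), (20, 2), (13, 1), (20, 1), (14, 0), (20, 0), (20, 3), (16, 2), (11, 2), (14, 1), (11, 3), (13, 0), (6, 1), (8, 1), (11, 6), (20, 6), (16, 0), (7, 0), (11, 8), (11, 5), (19, 0), (6, 0), (8, 0), (18, 1), (7, 1), (18, 2), (20, 7), (11, 4), (20, 5), (20, 4), (16, 3), (19,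 1), (16, 1), (12, 0), (9, 1), (11, 7), (9, 0), (17, 3), (18, 3), (18, 0), (17, 1), (17, 2), (15, 0), (20, 8), (10, 0), (10, 1), (17, 0)], by decide +kernel⟩, by decide +kernel, Or.inr all⟩

theorem bound {Γ : Type*} [Group Γ] {x : ℕ → Γ} (hR : ∀ r ∈ R, ev x r = 1) {n : ℕ}
    (h : CardLe x [0, 1, 2, 3, 4] n) : CardLe x [0, 1, 2, 3, 4, 5, 7] (17472 * n) :=
  cert.cardLe rfl hR h

end Cfsg.Agent.L0.ThTc3
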