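import Cfsg.Agent.L0.CosetChain

/-! Generated coset table certificate. -/

set_option autoImplicit false
set_option maxRecDepth 100000

namespace Cfsg.Agent.L0.ThTc5

noncomputable def t0 : BT := .node (.leaf (nat_lit 0x42566846b0004ca680400000000000000000000000000000000000000bc49425000689650400000000000000000000000000000000000000a424009000665668300000000000000000000000000000000000000842300700048646820000000000000000000000000000000000006640064220004a34501000000000000000000000000000000000000643005421000684250000000000000000000000000000000000000084288200400042122000000000000000000000000000000000000002012010030000020000)) (.leaf (nat_lit 0x6afaef42e00072fe50d0000000000000000000000000000000000004d051042d000550c50c000000000000000000000000000000000000a6d42c01000052dc68b00000000000000000000000000000000000048e42b00f00070ea68a00000000000000000000000000000000000042900e64a0008aba80800000000000000000000000000000000000042700d6480004cc880600000000000000000000000000000000000042668a46c0008a8880500000000000000000000000000000000000000c4674260004a78505))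

noncomputable def tree : BT := t0

noncomputable def row : ℕ → ℕ := rowOf tree (nat_lit 3) (nat_lit 7) (nat_lit 220) (nat_lit 0xfffffffffffffffffffffffffffffffffffffffffffffffffffffff)

noncomputable def cols : List Col := [⟨nat_lit 16, nat_lit 0, [([nat_lit 16], nat_lit 0), ([nat_lit 52, nat_lit 40, nat_lit 52, nat_lit 40, nat_lit 52, nat_lit 40, nat_lit 52, nat_lit 40], nat_lit 0), ([nat_lit 64, nat_lit 16, nat_lit 64], nat_lit 0)]⟩,
  ⟨nat_lit 40, nat_lit 0, [([nat_lit 40], nat_lit 0), ([nat_lit 64, nat_lit 40, nat_lit 64], nat_lit 0)]⟩,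
  ⟨nat_lit 52, nat_lit 1, [([nat_lit 52], nat_lit 0), ([nat_lit 64, nat_lit 52, nat_lit 64, nat_lit 52, nat_lit 64], nat_lit 0), ([nat_lit 40, nat_lit 52, nat_lit 40, nat_lit 52, nat_lit 40, nat_lit 52, nat_lit 40, nat_lit 16], nat_lit 0), ([nat_lit 40, nat_lit 52, nat_lit 40, nat_lit 52, nat_lit 40, nat_lit 16, nat_lit 52, nat_lit 40], nat_lit 0), ([nat_lit 40, nat_lit 52, nat_lit 40, nat_lit 16, nat_lit 52, nat_lit 40, nat_lit 52, nat_lit 40], nat_lit 0)]⟩,
  ⟨nat_lit 64, nat_lit 1, [([nat_lit 64], nat_lit 0), ([nat_lit 40, nat_lit 64, nat_lit 40], nat_lit 0), ([nat_lit 16, nat_lit 64, nat_lit 16], nat_lit 0), ([nat_lit 52, nat_lit 64, nat_lit 52, nat_lit 64, nat_lit 52], nat_lit 0)]⟩]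

noncomputable def erots : List (List ℕ × ℕ) := []

noncomputable def gens : List ℕ := [nat_lit 16, nat_lit 40, nat_lit 52, nat_lit 64]

noncomputable def chk : ℕ → Bool := chkRow0 row (nat_lit 16) (nat_lit 0x1f) (nat_lit 0x1e0) (nat_lit 9) (nat_lit 0x7) (nat_lit 0) (nat_lit 0x1f) (nat_lit 5) (nat_lit 0xff) (nat_lit 0xe000) [] cols gens

theorem b0 : allR chk 4 0 = true := by decide +kernel

noncomputable def T : CT := ⟨row, nat_lit 16, nat_lit 16, nat_lit 0x1f, nat_lit 0x1e0, nat_lit 9, nat_lit 0x7, nat_lit 0, nat_lit 0x1f, nat_lit 5, nat_lit 0xff, nat_lit 0xe000, nat_lit 220, nat_lit 220, nat_lit 0, nat_lit 9, [], cols, erots, gens⟩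

theorem all : ∀ c < 16, chk c = true := fun c hc =>
  allR_glue (d := 4) (n := 1) (forall_lt_succ' forall_lt_zero' b0) c (lt_of_lt_of_le hc (by norm_num))

/-- the relators used -/
def R : List (List ℕ) := [[nat_lit 0, nat_lit 0],
  [nat_lit 2, nat_lit 2],
  [nat_lit 3, nat_lit 3],
  [nat_lit 4, nat_lit 4],
  [nat_lit 0, nat_lit 4, nat_lit 0, nat_lit 4],
  [nat_lit 0, nat_lit 3, nat_lit 2, nat_lit 3, nat_lit 2, nat_lit 3, nat_lit 2, nat_lit 3, nat_lit 2],
  [nat_lit 2, nat_lit 4, nat_lit 2, nat_lit 4],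
  [nat_lit 3, nat_lit 4, nat_lit 3, nat_lit 4, nat_lit 3, nat_lit 4]]

theorem cert : Cert T (R.map fun r => (r, 0)) ([3, 4].map fun y => (y, 0)) 16 12 [0, 2, 3, 4] :=
  ⟨by decide +kernel, ⟨[[(0, 0), (5, 0), (4, 0)], [(1, 0), (6, 0)], [(2, 0), (7, 0), (5, 1), (5, 3), (5, 5)], [(3, 0), (6, 1), (4, 1), (7, 1)]], [], by decide +kernel⟩, by decide +kernel, Or.inl ⟨rfl, all⟩⟩

theorem bound {Γ : Type*} [Group Γ] {x : ℕ → Γ} (hR : ∀ r ∈ R, ev x r = 1) {n : ℕ}
    (h : CardLe x [3, 4] n) : CardLe x [0, 2, 3, 4] (16 * n) :=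
  cert.cardLe rfl hR h

end Cfsg.Agent.L0.ThTc5
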