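import Cfsg.Agent.L0.Th.Tc1
import Cfsg.Agent.L0.Th.Tc2
import Cfsg.Agent.L0.Th.Tc3
import Cfsg.Agent.L0.Th.Tc4
import Cfsg.Agent.L0.Th.Tc5
import Cfsg.Agent.L0.Th.Tc6
import Cfsg.Agent.L0.Th.Tc7
import Cfsg.Agent.L0.Th.Ch
import Cfsg.Agent.L0.Th.FA
import Cfsg.Agent.L0.Th.Clo
import Cfsg.Agent.L0.Mu.ThP2
import Cfsg.Agent.L0.Mu.ThP3
import Cfsg.Agent.L0.Mu.ThP7
import Cfsg.Agent.L0.DceX
import Cfsg.Agent.L0.DceG
import Cfsg.Prelude.Def_Spor_Th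

/-! The presented group Th: finiteness and the multiplier. -/

set_option autoImplicit false
set_option maxRecDepth 100000
set_option linter.style.haveILetI false

namespace Cfsg.Agent.L0.ThG

open Cfsg.Spor Dce

/-- letter of a generator -/
def idx : Th.Gen → ℕ
  | .a => 0
  | .b => 1
  | .c => 2
  | .d => 3
  | .e => 4
  | .s => 5
  | .t => 6
  | .u => 7

/-- all generators -/
def all : List Th.Gen := [.a, .b, .c, .d, .e, .s, .t, .u]

/-- the letters -/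
def x (i : ℕ) : Th := if i < 8 then PresentedGroup.of (all.getD i .a)
  else (PresentedGroup.of (all.getD (i - 8) .a))⁻¹

theorem hall : ∀ q, q ∈ all := by intro q; cases q <;> decide

/-- the defining relators -/
def R : List (List ℕ) := [[0, 0],
    [1, 1],
    [2, 2],
    [3, 3],
    [4, 4],
    [0, 1, 0, 1, 0, 1],
    [0, 4, 0, 4],
    [1, 2, 1, 2, 1, 2],
    [1, 3, 1, 3],
    [1, 4, 1, 4],
    [0, 11, 10, 11, 10, 11, 10, 11, 10],
    [2, 4, 2, 4],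
    [3, 4, 3, 4, 3, 4],
    [1, 2, 3, 4, 1, 2, 3, 4, 1, 2, 3, 4, 1, 2, 3, 4, 1, 2, 3, 4, 1, 2, 3, 4, 1, 2, 3, 4, 1, 2, 3, 4],
    [5, 5, 5, 5, 5, 5, 5],
    [13, 8, 5, 0],
    [13, 9, 5, 1],
    [13, 10, 5, 2],
    [5, 3, 5, 3],
    [12, 13, 4, 13, 13, 12, 5, 5, 5],
    [6, 6, 6],
    [14, 8, 6, 0],
    [14, 9, 6, 1],
    [14, 10, 6, 2],
    [14, 11, 6, 3],
    [14, 12, 6, 4],
    [14, 5, 6, 13, 13],
    [7, 7, 10, 8],
    [15, 8, 7, 0],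
    [15, 10, 7, 2],
    [15, 12, 7, 4],
    [3, 4, 15, 3, 7, 3, 4, 15, 3, 7],
    [15, 9, 10, 8, 1, 7, 9, 0, 2, 1, 12],
    [11, 15, 3, 9, 10, 8, 1, 11, 7, 3, 9, 0, 2, 1, 10, 12, 11, 15, 3, 9, 10, 8, 1, 12, 15],
    [15, 6, 7, 6],
    [12, 13, 13, 15, 5, 5, 4, 13, 13, 7, 5, 5],
    [0, 2, 13, 15, 13, 15, 13, 15],
    [0, 2, 13, 15, 5, 7, 13, 15, 5, 7, 13, 15, 5, 7, 13, 15, 5, 7],
    [3, 13, 13, 7, 5, 5, 3, 13, 13, 7, 5, 5, 3, 13, 13, 7, 5, 5, 3, 13, 13, 7, 12, 11, 10, 3, 4, 5, 5, 5, 12, 11, 10, 3, 4, 13, 11, 10, 3, 10, 8],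
    [0, 8],
    [8, 0],
    [1, 9],
    [9, 1],
    [2, 10],
    [10, 2],
    [3, 11],
    [11, 3],
    [4, 12],
    [12, 4],
    [5, 13],
    [13, 5],
    [6, 14],
    [14, 6],
    [7, 15],
    [15, 7]]

theorem isPres : IsPres x 16 R :=
  isPres_cox (idx := idx) (iv := fun q => idx q + 8) hall (by intro q; cases q <;> rfl)
    (by intro q; cases q <;> rfl) (by decide +kernel) (by decide +kernel) (by decide +kernel)
    (by decide +kernel) (by decide +kernel)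

/-- inverse letters -/
def iv (i : ℕ) : ℕ := if i < 8 then i + 8 else i - 8

theorem card_N : CardLe (PG.gen 17 ThH.R) [0, 1, 2, 3, 4, 5, 7] 211341312 :=
  (ThTc3.bound (rel_sub (R := ThH.R) (fun _ => PG.rel) (by decide +kernel))
    (ThTc4.bound (rel_sub (R := ThH.R) (fun _ => PG.rel) (by decide +kernel))
    (ThTc5.bound (rel_sub (R := ThH.R) (fun _ => PG.rel) (by decide +kernel))
    (ThTc6.bound (rel_sub (R := ThH.R) (fun _ => PG.rel) (by decide +kernel))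
    (ThTc7.bound (rel_sub (R := ThH.R) (fun _ => PG.rel) (by decide +kernel))
    (cardLe_nil _))))))

theorem card_H : Finite (PG 17 ThH.R) ∧ Nat.card (PG 17 ThH.R) ≤ 634023936 := by
  have := CardLe.top (ThTc1.bound (rel_sub (R := ThH.R) (fun _ => PG.rel) (by decide +kernel))
    (ThTc2.bound (rel_sub (R := ThH.R) (fun _ => PG.rel) (by decide +kernel)) card_N))
    (PG.genL_range 17 ThH.R)
  simpa using this

instance : Finite (PG 17 ThH.R) := card_H.1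

theorem exists_act : ∃ A : RAct (PG 17 ThH.R) 819, A.Tab (PG.gen 17 ThH.R) 17 ThAct.T ∧
    A.IsBase ThCh.B ∧ Nat.card (PG 17 ThH.R) = 634023936 := by
  obtain ⟨A, hA⟩ := ThAct.ex
  exact ⟨A, hA, ThCh.ch hA card_H.2⟩

theorem ivH : ∀ q < 17, PG.gen 17 ThH.R (ThFB.P.iv q) = (PG.gen 17 ThH.R q)⁻¹ :=
  iv_of_rel (R := ThH.R) (fun _ => PG.rel) (by decide +kernel)

theorem perfect_N : commutator (subL (PG.gen 17 ThH.R) ThN.l) = ⊤ :=
  perfect_subL ivH (K := ThH.R) (fun _ => PG.rel) (R := [[0, 0],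
    [1, 1],
    [2, 2],
    [3, 3],
    [4, 4],
    [5, 6],
    [6, 5],
    [0, 1, 0, 1, 0, 1],
    [0, 4, 0, 4],
    [1, 2, 1, 2, 1, 2],
    [1, 3, 1, 3],
    [1, 4, 1, 4],
    [0, 3, 2, 3, 2, 3, 2, 3, 2],
    [2, 4, 2, 4],
    [3, 4, 3, 4, 3, 4],
    [1, 2, 3, 4, 1, 2, 3, 4, 1, 2, 3, 4, 1, 2, 3, 4, 1, 2, 3, 4, 1, 2, 3, 4, 1, 2, 3, 4, 1, 2, 3, 4],
    [5, 5, 5, 5, 5, 5, 5],
    [6, 0, 5, 0],
    [6, 1, 5, 1],
    [6, 2, 5, 2],
    [5, 3, 5, 3],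
    [4, 6, 4, 6, 6, 4, 5, 5, 5]])
    (Ls := [[(-32, 2), (52, 3), (-156, 4), (-468, 5), (-4, 7), (4, 9), (13, 12), (-52, 14), (156, 21)],
    [(-1, 1), (-24, 2), (36, 3), (-108, 4), (-324, 5), (-3, 7), (4, 9), (9, 12), (-36, 14), (108, 21)],
    [(8, 2), (-12, 3), (36, 4), (108, 5), (1, 7), (-1, 9), (-3, 12), (12, 14), (-36, 21)],
    [(-1, 3), (3, 4), (9, 5), (1, 14), (-3, 21)],
    [(-1, 4), (-3, 5), (1, 21)],
    [(3, 3), (1, 16), (-3, 20)],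
    [(-3, 3), (1, 5), (-1, 16), (3, 20)]]) (by decide +kernel)

theorem upper_N : UpperMult (subL (PG.gen 17 ThH.R) ThN.l) (Multiplicative (ZMod 1)) ∧
    Nat.card (subL (PG.gen 17 ThH.R) ThN.l) = 211341312 := by
  obtain ⟨A, hA⟩ := ThAct.ex
  have ht := hA.genLet (l := ThN.l) (by decide +kernel)
  obtain ⟨hb, hc⟩ := ThChN.ch ht (by rw [← subL, subL_eq]; exact card_N.2)
  exact ⟨upper_cyclic (k2 := 0) (k3 := 0) rfl ((ThP2.pm hb ht hc).mono (by norm_num))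
    ((ThP3.pm hb ht hc).mono (by norm_num))
    (pmult_rest hc [7] (by simpa using ThP7.pm hb ht hc) (by decide +kernel) (by decide +kernel)),
    hc⟩

/-- the generators in the letters of the enumeration -/
def s (i : ℕ) : List ℕ := List.getD [[0],
    [1],
    [2],
    [3],
    [4],
    [5],
    [6],
    [17],
    [0],
    [1],
    [2],
    [3],
    [4],
    [7],
    [8],
    [18]] i []

/-- the letters of the enumeration -/
def t (i : ℕ) : List ℕ := List.getD [[0],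
    [1],
    [2],
    [3],
    [4],
    [5],
    [6],
    [13],
    [14],
    [1, 2, 3, 4, 5],
    [13, 12, 11, 10, 9],
    [3, 5, 1, 2, 3, 4, 13, 13],
    [5, 5, 12, 11, 10, 9, 13, 11],
    [5, 4, 3, 2, 1, 0, 3, 6],
    [14, 11, 8, 9, 10, 11, 12, 13],
    [4, 3, 5, 5, 2, 1, 3, 2, 14],
    [6, 10, 11, 9, 10, 13, 13, 11, 12],
    [7],
    [15]] i []

theorem br : ∃ (φ : PG 17 ThH.R →* Th) (z : Th),
    (∀ i < 16, x i = ev (XX 17 (PG.gen 17 ThH.R) φ z) (s i)) ∧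
      ∀ r ∈ R.map fun r => r.flatMap s, ev (XX 17 (PG.gen 17 ThH.R) φ z) r = 1 :=
  bridge isPres.rel iv ThFB.P.iv s t (by decide +kernel) (by decide +kernel) (by decide +kernel)
    (by decide +kernel)

theorem finite : Finite Th := by
  obtain ⟨A, ht, hb, hc⟩ := exists_act
  obtain ⟨B, hB⟩ := ThActN.ex
  obtain ⟨φ, z, h1, h2⟩ := br
  have h : CtxH ThFB.P A (PG.gen 17 ThH.R) :=
    ctxH_of (R := ThH.R) ht hb (fun _ => PG.rel) (by decide +kernel)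
  exact (ThClo.fin h (ctxG_one h h2 (by decide +kernel)) hB hc.le (gen_of isPres.gen_top h1)).1

/-- the relators giving the labels -/
def L : List (List ℕ) := [[3, 4, 18, 3, 17, 3, 4, 18, 3, 17],
    [3, 18, 3, 1, 2, 0, 1, 3, 17, 3, 1, 0, 2, 1, 2, 4, 3, 18, 3, 1, 2, 0, 1, 4, 18],
    [0, 2, 7, 18, 5, 17, 7, 18, 5, 17, 7, 18, 5, 17, 7, 18, 5, 17],
    [3, 7, 7, 17, 5, 5, 3, 7, 7, 17, 5, 5, 3, 7, 7, 17, 5, 5, 3, 7, 7, 17, 4, 3, 2, 3, 4, 5, 5, 5, 4, 3, 2, 3, 4, 7, 3, 2, 3, 2, 0],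
    [17, 17, 2, 0],
    [18, 0, 17, 0],
    [18, 2, 17, 2],
    [18, 4, 17, 4],
    [18, 1, 2, 0, 1, 17, 1, 0, 2, 1, 4],
    [4, 7, 7, 18, 5, 5, 4, 7, 7, 17, 5, 5]]

theorem upper : UpperMult Th (Multiplicative (ZMod 1)) := upper_of_section fun Γ _ σ hs hσ => by
  obtain ⟨A, ht, hb, hc⟩ := exists_act
  obtain ⟨φ, z, h1, h2⟩ := br
  have h : CtxH ThFA.P A (PG.gen 17 ThH.R) :=
    ctxH_of (R := ThH.R) ht hb (fun _ => PG.rel) (by decide +kernel)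
  obtain ⟨η, e1, e2, e3⟩ := exists_lift_three hs hσ (t := φ (PG.gen 17 ThH.R 8)) (u := z)
    (by simpa [XX, ThFA.P, pow_three] using
      consB_spec (w := [8, 8, 8]) (h.xiv φ z) h2 (by decide +kernel))
    (by simpa [XX, ThFA.P, mul_assoc] using
      consB_spec (w := [18, 8, 17, 8]) (h.xiv φ z) h2 (by decide +kernel))
  obtain ⟨ψ, hψ, e4⟩ := exists_lift_let ivH (K := ThH.R) (fun _ => PG.rel) (PG.genL_range _ _)
    perfect_N upper_N.1 (by rw [upper_N.2, hc]; norm_num) (j := 8) Nat.prime_three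
    [[0], [1], [2], [3], [4], [5, 5], [7, 7]] [[0],
    [1],
    [2],
    [3],
    [4],
    [5],
    [6],
    [7],
    [8],
    [1, 2, 3, 4, 5],
    [7, 4, 3, 2, 1],
    [3, 5, 1, 2, 3, 4, 7, 7],
    [5, 5, 4, 3, 2, 1, 7, 3],
    [5, 4, 3, 2, 1, 0, 3, 6],
    [8, 3, 0, 1, 2, 3, 4, 7],
    [4, 3, 5, 5, 2, 1, 3, 2, 8],
    [6, 2, 3, 1, 2, 7, 7, 3, 4]] (by decide +kernel) φ hs hσ e1 e2
  obtain ⟨y, rfl, hy⟩ := exists_norm hs hσ hψ
    (consB_spec (w := [17, 5, 17, 5, 17, 5, 2, 0]) (h.xiv φ z) h2 (by decide +kernel))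
    (consB_spec (w := [0, 2, 18, 18]) (h.xiv φ z) h2 (by decide +kernel)) (by decide +kernel)
  have e5 : ∀ r ∈ [[18, 8, 17, 8]], ev (XX 17 (PG.gen 17 ThH.R) ψ y) r = 1 := by
    simpa [XX, e4, mul_assoc] using e3 y rfl
  have h3 := labels h hσ hψ (L := L) (cons_all (h.xiv φ _) h2 (by decide +kernel))
    (forall_app hy e5) (by decide +kernel) fun c hc => ThFA.rel h hc
  exact section_of h isPres hψ h1
    (forall_app (rel_XX (R := ThH.R) (by decide +kernel) (fun _ => PG.rel) ψ y) h3)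
    (by decide +kernel)

end Cfsg.Agent.L0.ThG
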