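import Cfsg.Agent.L0.Th.ActNT

/-! Generated checks. -/

set_option autoImplicit false
set_option maxRecDepth 100000

namespace Cfsg.Agent.L0.ThActN

theorem b14 : allR chk 10 14 = true := by decide +kernel
theorem b15 : allR chk 10 15 = true := by decide +kernel
theorem b16 : allR chk 10 16 = true := by decide +kernel

end Cfsg.Agent.L0.ThActN
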