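import Cfsg.Agent.L0.Th.CloT

/-! Generated: double coset enumeration. -/

set_option autoImplicit false
set_option maxRecDepth 100000

namespace Cfsg.Agent.L0.ThClo

open Dce

theorem k1_0 : allR k1 13 0 = true := by decide +kernel
theorem k1_1 : allR k1 13 1 = true := by decide +kernel
theorem k1_2 : allR k1 13 2 = true := by decide +kernel
theorem k6_0 : allR k6 13 0 = true := by decide +kernel
theorem k6_1 : allR k6 13 1 = true := by decide +kernel
theorem k6_2 : allR k6 13 2 = true := by decide +kernel
theorem k7_0 : allR k7 13 0 = true := by decide +kernel
theorem k7_1 : allR k7 13 1 = true := by decide +kernel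
theorem k7_2 : allR k7 13 2 = true := by decide +kernel
theorem k8_0 : allR k8 13 0 = true := by decide +kernel
theorem k8_1 : allR k8 13 1 = true := by decide +kernel
theorem k8_2 : allR k8 13 2 = true := by decide +kernel
theorem k9_0 : allR k9 13 0 = true := by decide +kernel
theorem k9_1 : allR k9 13 1 = true := by decide +kernel
theorem k9_2 : allR k9 13 2 = true := by decide +kernel
theorem k10_0 : allR k10 13 0 = true := by decide +kernel
theorem k10_1 : allR k10 13 1 = true := by decide +kernel
theorem k10_2 : allR k10 13 2 = true := by decide +kernel
theorem k11_0 : allR k11 13 0 = true := by decide +kernel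
theorem k11_1 : allR k11 13 1 = true := by decide +kernel
theorem k11_2 : allR k11 13 2 = true := by decide +kernel
theorem k12_0 : allR k12 13 0 = true := by decide +kernel
theorem k12_1 : allR k12 13 1 = true := by decide +kernel
theorem k12_2 : allR k12 13 2 = true := by decide +kernel
theorem k13_0 : allR k13 13 0 = true := by decide +kernel
theorem k13_1 : allR k13 13 1 = true := by decide +kernel
theorem k13_2 : allR k13 13 2 = true := by decide +kernel

end Cfsg.Agent.L0.ThClo
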