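import Cfsg.Agent.L0.Th.FBC0
import Cfsg.Agent.L0.Th.FBC1

/-! Generated: double coset enumeration. -/

set_option autoImplicit false
set_option maxRecDepth 100000

namespace Cfsg.Agent.L0.ThFB

open Dce

theorem val {H : Type} [Group H] {N : ℕ} {Γ : Type} [Group Γ] {A : RAct H N} {g : ℕ → H} {φ : H →* Γ} {z : Γ}
    {c : ℕ → Subgroup.center Γ} (h : CtxH P A g) (hG : CtxG P g φ z c) :
    ∀ x < 2902, Val P g φ z c (P.F x) := by
  have h0 : ∀ x < 0, Val P g φ z c (P.F x) := forall_lt_zero'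
  have h1 : ∀ x < 200, Val P g φ z c (P.F x) := chkL_spec h hG h0 c0
  have h2 : ∀ x < 400, Val P g φ z c (P.F x) := chkL_spec h hG h1 c1
  have h3 : ∀ x < 600, Val P g φ z c (P.F x) := chkL_spec h hG h2 c2
  have h4 : ∀ x < 800, Val P g φ z c (P.F x) := chkL_spec h hG h3 c3
  have h5 : ∀ x < 887, Val P g φ z c (P.F x) := chkL_spec h hG h4 c4
  have h6 : ∀ x < 974, Val P g φ z c (P.F x) := chkL_spec h hG h5 c5
  have h7 : ∀ x < 1060, Val P g φ z c (P.F x) := chkL_spec h hG h6 c6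
  have h8 : ∀ x < 1148, Val P g φ z c (P.F x) := chkL_spec h hG h7 c7
  have h9 : ∀ x < 1237, Val P g φ z c (P.F x) := chkL_spec h hG h8 c8
  have h10 : ∀ x < 1326, Val P g φ z c (P.F x) := chkL_spec h hG h9 c9
  have h11 : ∀ x < 1416, Val P g φ z c (P.F x) := chkL_spec h hG h10 c10
  have h12 : ∀ x < 1504, Val P g φ z c (P.F x) := chkL_spec h hG h11 c11
  have h13 : ∀ x < 1592, Val P g φ z c (P.F x) := chkL_spec h hG h12 c12
  have h14 : ∀ x < 1681, Val P g φ z c (P.F x) := chkL_spec h hG h13 c13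
  have h15 : ∀ x < 1770, Val P g φ z c (P.F x) := chkL_spec h hG h14 c14
  have h16 : ∀ x < 1855, Val P g φ z c (P.F x) := chkL_spec h hG h15 c15
  have h17 : ∀ x < 1942, Val P g φ z c (P.F x) := chkL_spec h hG h16 c16
  have h18 : ∀ x < 2028, Val P g φ z c (P.F x) := chkL_spec h hG h17 c17
  have h19 : ∀ x < 2111, Val P g φ z c (P.F x) := chkL_spec h hG h18 c18
  have h20 : ∀ x < 2194, Val P g φ z c (P.F x) := chkL_spec h hG h19 c19
  have h21 : ∀ x < 2277, Val P g φ z c (P.F x) := chkL_spec h hG h20 c20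
  have h22 : ∀ x < 2356, Val P g φ z c (P.F x) := chkL_spec h hG h21 c21
  have h23 : ∀ x < 2435, Val P g φ z c (P.F x) := chkL_spec h hG h22 c22
  have h24 : ∀ x < 2509, Val P g φ z c (P.F x) := chkL_spec h hG h23 c23
  have h25 : ∀ x < 2583, Val P g φ z c (P.F x) := chkL_spec h hG h24 c24
  have h26 : ∀ x < 2659, Val P g φ z c (P.F x) := chkL_spec h hG h25 c25
  have h27 : ∀ x < 2732, Val P g φ z c (P.F x) := chkL_spec h hG h26 c26
  have h28 : ∀ x < 2800, Val P g φ z c (P.F x) := chkL_spec h hG h27 c27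
  have h29 : ∀ x < 2866, Val P g φ z c (P.F x) := chkL_spec h hG h28 c28
  have h30 : ∀ x < 2902, Val P g φ z c (P.F x) := chkL_spec h hG h29 c29
  exact h30

end Cfsg.Agent.L0.ThFB
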