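import Cfsg.Agent.L0.Dce
import Cfsg.Agent.L0.Th.Act

/-! Generated: double coset enumeration. -/

set_option autoImplicit false
set_option maxRecDepth 100000

namespace Cfsg.Agent.L0.ThFB

open Dce

noncomputable def F0 : GT Fa := .node (.node (.node (.node (.node (.leaf ⟨nat_lit 1, nat_lit 0, nat_lit 1, nat_lit 0, nat_lit 0, nat_lit 0, [], [], []⟩) (.leaf ⟨nat_lit 1, nat_lit 10, nat_lit 9, nat_lit 0x192d34206, nat_lit 0x1114c8b9c1, nat_lit 0x134ae52223, [], [], []⟩)) (.leaf ⟨nat_lit 1, nat_lit 9, nat_lit 10, nat_lit 0x4421c66bda2, nat_lit 0x3e2e739a9, nat_lit 0x178d717b08c, [], [], []⟩)) (.node (.node (.leaf ⟨nat_lit 0, nat_lit 1, nat_lit 1, nat_lit 0, nat_lit 0xaf83c62, nat_lit 0x104d07c101, [], [], []⟩) (.leaf ⟨nat_lit 1, nat_lit 12, nat_lit 10, nat_lit 0x36054e83e22, nat_lit 0x8a02b1b5e1, nat_lit 0x25c04863963, [], [], []⟩)) (.leaf ⟨nat_lit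 1, nat_lit 10, nat_lit 9, nat_lit 0x4c5ae6c1e5, nat_lit 0x226a8914a901, nat_lit 0x730620a584, [], [], []⟩))) (.node (.node (.node (.leaf ⟨nat_lit 0, nat_lit 1, nat_lit 1, nat_lit 0, nat_lit 0x12c2b4a3, nat_lit 0x6c2912b, [], [], []⟩) (.leaf ⟨nat_lit 1, nat_lit 10, nat_lit 11, nat_lit 0x1591503c0ef, nat_lit 0x20771207, nat_lit 0x345ef23d04, [], [], []⟩)) (.leaf ⟨nat_lit 1, nat_lit 9, nat_lit 10, nat_lit 0x21e28638b1, nat_lit 0x2ccf8956b, nat_lit 0x8892d539ad, [], [], []⟩)) (.node (.node (.leaf ⟨nat_lit 2, nat_lit 0, nat_lit 0, nat_lit 0x83a0c0b627, nat_lit 0, nat_lit 0, [], [], [nat_lit 10, nat_lit 0x13ccc7acad, nat_lit 11299]⟩) (.leaf ⟨nat_lit 1, nat_lit 12, nat_lit 14, nat_lit 0x16b82e81161, nat_lit 0x828ec5c5d0, nat_lit 0x725ed4b609, [], [], []⟩)) (.leaf ⟨nat_lit 1, nat_lit 10, nat_lit 10, nat_lit 0x9ea43ca3, nat_lit 0xa5ab5a585, nat_lit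 0xa715ce6b501, [], [], []⟩)))) (.node (.node (.node (.node (.leaf ⟨nat_lit 0, nat_lit 0, nat_lit 0, nat_lit 0, nat_lit 0xb0ad1344d, nat_lit 0x60982615a1, [], [], []⟩) (.leaf ⟨nat_lit 1, nat_lit 10, nat_lit 10, nat_lit 0x45ca544b1, nat_lit 0x16be2b3b8c2, nat_lit 0x9d054541, [], [], []⟩)) (.leaf ⟨nat_lit 1, nat_lit 10, nat_lit 10, nat_lit 0x22bcd171de2, nat_lit 0x1a8e1821ae, nat_lit 0x738b02b20a, [], [], []⟩)) (.node (.node (.leaf ⟨nat_lit 2, nat_lit 0, nat_lit 0, nat_lit 0x7132da9, nat_lit 0, nat_lit 0, [], [], [nat_lit 4, nat_lit 0xacce1b9c5, nat_lit 4131]⟩) (.leaf ⟨nat_lit 1, nat_lit 14, nat_lit 10, nat_lit 0x41a924, nat_lit 0x4b5c882c62, nat_lit 0x895a55b5ab, [], [], []⟩)) (.leaf ⟨nat_lit 1, nat_lit 10, nat_lit 10, nat_lit 0xb094506bc41, nat_lit 0x3b46e4a9a2, nat_lit 0x231d6c8c441, [], [], []⟩))) (.node (.node (.node (.leaf ⟨nat_lit 0,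 nat_lit 1, nat_lit 1, nat_lit 0, nat_lit 0x2b20b840e5, nat_lit 0x1e31544ad, [], [], []⟩) (.leaf ⟨nat_lit 1, nat_lit 10, nat_lit 12, nat_lit 0x18292c61dc1, nat_lit 0x6855129041, nat_lit 0x44225396b, [], [], []⟩)) (.leaf ⟨nat_lit 1, nat_lit 9, nat_lit 10, nat_lit 0xd288b5c3, nat_lit 0x363d4e521e1, nat_lit 0x14187544ae, [], [], []⟩)) (.node (.leaf ⟨nat_lit 1, nat_lit 9, nat_lit 10, nat_lit 0x8a9428b483, nat_lit 0xc0eb730a2, nat_lit 0x9086320c, [], [], []⟩) (.leaf ⟨nat_lit 1, nat_lit 10, nat_lit 10, nat_lit 0x835a931462, nat_lit 0x1042d620c5c2, nat_lit 0x254c798f1, [], [], []⟩))))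

noncomputable def F1 : GT Fa := .node (.node (.node (.node (.node (.leaf ⟨nat_lit 2, nat_lit 0, nat_lit 0, nat_lit 1, nat_lit 0, nat_lit 0, [], [], [nat_lit 1]⟩) (.leaf ⟨nat_lit 1, nat_lit 10, nat_lit 10, nat_lit 0x82accb5ac83, nat_lit 0x236aa2a61c81, nat_lit 0x28ad658220e, [], [], []⟩)) (.leaf ⟨nat_lit 1, nat_lit 10, nat_lit 10, nat_lit 0x18a065a585, nat_lit 0x2b8ec7c0ce, nat_lit 0x128ad3c0a1, [], [], []⟩)) (.node (.node (.leaf ⟨nat_lit 0, nat_lit 1, nat_lit 1, nat_lit 0, nat_lit 0x79a068b8c1, nat_lit 0x1de36c5c7, [], [], []⟩) (.leaf ⟨nat_lit 1, nat_lit 10, nat_lit 12, nat_lit 0x53d8f7c186, nat_lit 0x3456c645a7, nat_lit 0x2715c26a16b, [], [], []⟩)) (.leaf ⟨nat_lit 1, nat_lit 7, nat_lit 10, nat_lit 0x245cd6c571, nat_lit 0xb4ae2e63182, nat_lit 0x8a16f2b5a2, [], [], []⟩))) (.node (.node (.node (.leaf ⟨nat_lit 0, nat_lit 1, nat_lit 1, nat_lit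 0, nat_lit 0x193171e2e, nat_lit 0x9e31545a5, [], [], []⟩) (.leaf ⟨nat_lit 1, nat_lit 11, nat_lit 10, nat_lit 0x22e01835c2, nat_lit 0x111c4ac78d41, nat_lit 0x1396732dc7, [], [], []⟩)) (.leaf ⟨nat_lit 1, nat_lit 10, nat_lit 10, nat_lit 0x3a0d6c12c, nat_lit 0x189f15b8a1, nat_lit 0x25396d2c0a2, [], [], []⟩)) (.node (.node (.leaf ⟨nat_lit 2, nat_lit 0, nat_lit 0, nat_lit 10337, nat_lit 0, nat_lit 0, [], [], [nat_lit 0x6154e6a1c2, nat_lit 11299, nat_lit 0x340ea8bdb0]⟩) (.leaf ⟨nat_lit 1, nat_lit 10, nat_lit 14, nat_lit 0x611e3535a2, nat_lit 0x2404c539c5, nat_lit 0x3e2b0b8a3, [], [], []⟩)) (.leaf ⟨nat_lit 1, nat_lit 9, nat_lit 10, nat_lit 0xb2ae24544c1, nat_lit 0x3c0c489562, nat_lit 0x1130622aa27, [], [], []⟩)))) (.node (.node (.node (.node (.leaf ⟨nat_lit 1, nat_lit 1, nat_lit 1, nat_lit 0x1be0f3c0c1, nat_lit 6241, nat_lit 0xb04c130ad, [], [],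 []⟩) (.leaf ⟨nat_lit 1, nat_lit 10, nat_lit 10, nat_lit 0x541cd41d67, nat_lit 0x9dcc80961, nat_lit 0xba0681150, [], [], []⟩)) (.leaf ⟨nat_lit 1, nat_lit 10, nat_lit 10, nat_lit 0x7b20f89d0e, nat_lit 0x5162d20831, nat_lit 0x71d8f89545, [], [], []⟩)) (.node (.node (.leaf ⟨nat_lit 0, nat_lit 0, nat_lit 0, nat_lit 0, nat_lit 0x20bdae6c0a1, nat_lit 0x12c58f63822, [], [], []⟩) (.leaf ⟨nat_lit 1, nat_lit 14, nat_lit 10, nat_lit 0x34ed815a4, nat_lit 0x6397172610, nat_lit 0xad0558d8a, [], [], []⟩)) (.leaf ⟨nat_lit 1, nat_lit 10, nat_lit 10, nat_lit 0x15a1b17412f, nat_lit 0x17346e62169, nat_lit 0x4a899c56b861, [], [], []⟩))) (.node (.node (.node (.leaf ⟨nat_lit 0, nat_lit 1, nat_lit 1, nat_lit 0, nat_lit 0x4c4ae3c4ce, nat_lit 0xbc705c1c5, [], [], []⟩) (.leaf ⟨nat_lit 1, nat_lit 12, nat_lit 10, nat_lit 0x12d428a1, nat_lit 0x439cc8918f, nat_lit 0x22e036316c,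 [], [], []⟩)) (.leaf ⟨nat_lit 1, nat_lit 10, nat_lit 10, nat_lit 0xf8b9aa738a1, nat_lit 0x4160671150, nat_lit 0x10daf88623, [], [], []⟩)) (.node (.leaf ⟨nat_lit 1, nat_lit 10, nat_lit 10, nat_lit 0x2b22c509a8, nat_lit 0x4ba2a70dc4, nat_lit 0x8c8c1b162, [], [], []⟩) (.leaf ⟨nat_lit 1, nat_lit 10, nat_lit 10, nat_lit 0x58116c5b462, nat_lit 0x17a9855c102, nat_lit 0x141521a4, [], [], []⟩))))

noncomputable def F2 : GT Fa := .node (.node (.node (.node (.node (.leaf ⟨nat_lit 0, nat_lit 0, nat_lit 0, nat_lit 0, nat_lit 1, nat_lit 1, [], [], []⟩) (.leaf ⟨nat_lit 1, nat_lit 10, nat_lit 10, nat_lit 0x735f13c4a6, nat_lit 0x1bd0b6a60c, nat_lit 0x8292f5c5aa, [], [], []⟩)) (.leaf ⟨nat_lit 1, nat_lit 9, nat_lit 10, nat_lit 0x434706b82e, nat_lit 0x2e016a830, nat_lit 0xd5449123e01, [], [], []⟩)) (.node (.node (.leaf ⟨nat_lit 0, nat_lit 1, nat_lit 1, nat_lit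 0, nat_lit 0x79a0f4c0a1, nat_lit 0x5e382e0e, [], [], []⟩) (.leaf ⟨nat_lit 1, nat_lit 10, nat_lit 12, nat_lit 0xad6d50d4a, nat_lit 0x53e2664622, nat_lit 0x18952e5b46e, [], [], []⟩)) (.leaf ⟨nat_lit 1, nat_lit 10, nat_lit 10, nat_lit 0x45ad32ccd, nat_lit 0x5b9af83569, nat_lit 0x399b0619c8, [], [], []⟩))) (.node (.node (.node (.leaf ⟨nat_lit 0, nat_lit 1, nat_lit 1, nat_lit 0, nat_lit 0x1f031e2e, nat_lit 0x96282ba2e, [], [], []⟩) (.leaf ⟨nat_lit 1, nat_lit 11, nat_lit 10, nat_lit 0x17148b83482, nat_lit 0x114b9ab5c062, nat_lit 0x160d8572da9, [], [], []⟩)) (.leaf ⟨nat_lit 1, nat_lit 10, nat_lit 10, nat_lit 0x445d07ac6c, nat_lit 0x269db189541, nat_lit 0x112d6d5b4c7, [], [], []⟩)) (.node (.node (.leaf ⟨nat_lit 2, nat_lit 0, nat_lit 0, nat_lit 0x153d8283902, nat_lit 0, nat_lit 0, [], [], [nat_lit 11299, nat_lit 0x340ea8bdb0, nat_lit 10]⟩) (.leaf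 ⟨nat_lit 1, nat_lit 7, nat_lit 14, nat_lit 0x17196e5a0a1, nat_lit 0x322a38551, nat_lit 0x1841ad2456c, [], [], []⟩)) (.leaf ⟨nat_lit 1, nat_lit 10, nat_lit 10, nat_lit 0x5426318bd8c, nat_lit 0x43d2d821cb, nat_lit 0x10235510b221, [], [], []⟩)))) (.node (.node (.node (.node (.leaf ⟨nat_lit 2, nat_lit 0, nat_lit 0, nat_lit 0x1f079e06, nat_lit 0, nat_lit 0, [], [], [nat_lit 0x615a2689a1, nat_lit 8]⟩) (.leaf ⟨nat_lit 1, nat_lit 10, nat_lit 10, nat_lit 0x5bd2f2c06a, nat_lit 0x5335a78ad82, nat_lit 0x3b1ed2384c, [], [], []⟩)) (.leaf ⟨nat_lit 1, nat_lit 10, nat_lit 8, nat_lit 0x48a5ab73101, nat_lit 0x21cb8b9a9, nat_lit 0x3c6583883, [], [], []⟩)) (.node (.node (.leaf ⟨nat_lit 1, nat_lit 1, nat_lit 6, nat_lit 0x5f04bd86, nat_lit 0x1a361061, nat_lit 0x41d8f5c124, [], [], []⟩) (.leaf ⟨nat_lit 1, nat_lit 14, nat_lit 10, nat_lit 0x38b9463b062, nat_lit 0xb9c45b18c,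 nat_lit 0x335705a043, [], [], []⟩)) (.leaf ⟨nat_lit 1, nat_lit 10, nat_lit 10, nat_lit 0x452269862, nat_lit 0x523835f0, nat_lit 0x256e42d0d, [], [], []⟩))) (.node (.node (.node (.leaf ⟨nat_lit 0, nat_lit 1, nat_lit 1, nat_lit 0, nat_lit 0x3cae615a7, nat_lit 0xb143a2e, [], [], []⟩) (.leaf ⟨nat_lit 1, nat_lit 12, nat_lit 10, nat_lit 0xb62720962, nat_lit 0xaa066b8ad, nat_lit 0x1515457b10e, [], [], []⟩)) (.leaf ⟨nat_lit 1, nat_lit 10, nat_lit 10, nat_lit 0x560e2b83443, nat_lit 0x8539847c542, nat_lit 0x5b9487c144, [], [], []⟩)) (.node (.leaf ⟨nat_lit 1, nat_lit 10, nat_lit 10, nat_lit 0x5ad6e21570, nat_lit 0x2c1ca430a4, nat_lit 0x12a73485, [], [], []⟩) (.leaf ⟨nat_lit 1, nat_lit 10, nat_lit 10, nat_lit 0xac2e731e9, nat_lit 0x7adeb835a4, nat_lit 0x287c10d2b4a1, [], [], []⟩))))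

noncomputable def F3 : GT Fa := .node (.node (.node (.node (.node (.leaf ⟨nat_lit 0, nat_lit 1, nat_lit 1, nat_lit 0, nat_lit 1, nat_lit 1, [], [], []⟩) (.leaf ⟨nat_lit 1, nat_lit 10, nat_lit 10, nat_lit 0x8b98e6304d, nat_lit 0x189ae73142, nat_lit 0x7c20324083, [], [], []⟩)) (.leaf ⟨nat_lit 1, nat_lit 10, nat_lit 10, nat_lit 0x26b9c5539a1, nat_lit 0x4314a4456f, nat_lit 0x5be014c168, [], [], []⟩)) (.node (.node (.leaf ⟨nat_lit 0, nat_lit 1, nat_lit 1, nat_lit 0, nat_lit 0x13d2b88561, nat_lit 0x3c904bd62, [], [], []⟩) (.leaf ⟨nat_lit 1, nat_lit 10, nat_lit 12, nat_lit 0x651a0c72561, nat_lit 0xc14e2ba10, nat_lit 0x6156569d6b, [], [], []⟩)) (.leaf ⟨nat_lit 1, nat_lit 10, nat_lit 10, nat_lit 0x118c3a22b, nat_lit 0x1a60b7c1c6, nat_lit 0x1914c12989, [], [], []⟩))) (.node (.node (.node (.leaf ⟨nat_lit 0, nat_lit 1, nat_lit 1, nat_lit 0, nat_lit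 0x8795c6, nat_lit 0x8cf815b0, [], [], []⟩) (.leaf ⟨nat_lit 1, nat_lit 10, nat_lit 11, nat_lit 0x21e0a144a4, nat_lit 0x95d18b4a1, nat_lit 0x7222c63a0c, [], [], []⟩)) (.leaf ⟨nat_lit 1, nat_lit 10, nat_lit 10, nat_lit 0x2835a84b52e, nat_lit 0x36ad6f5bde1, nat_lit 0x8c56d5c5c6, [], [], []⟩)) (.node (.node (.leaf ⟨nat_lit 2, nat_lit 0, nat_lit 0, nat_lit 11, nat_lit 0, nat_lit 0, [], [], [nat_lit 0x340ea8bdb0, nat_lit 10, nat_lit 0x6154e6a1c2]⟩) (.leaf ⟨nat_lit 1, nat_lit 14, nat_lit 7, nat_lit 0xc8ac8323d62, nat_lit 0x2541b06ae22, nat_lit 0x43d842b5ab, [], [], []⟩)) (.leaf ⟨nat_lit 1, nat_lit 10, nat_lit 10, nat_lit 0x195116b52d, nat_lit 0x48344f48a22, nat_lit 0x26adb079c8f, [], [], []⟩)))) (.node (.node (.node (.node (.leaf ⟨nat_lit 2, nat_lit 0, nat_lit 0, nat_lit 0x16315450d, nat_lit 0, nat_lit 0, [], [], [nat_lit 8, nat_lit 0x1be0f3c0c1]⟩)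 (.leaf ⟨nat_lit 1, nat_lit 10, nat_lit 10, nat_lit 0x69631718c2, nat_lit 0x299d15a5f0, nat_lit 0x1b62e219ca, [], [], []⟩)) (.leaf ⟨nat_lit 1, nat_lit 10, nat_lit 10, nat_lit 0x118b1666bca1, nat_lit 0x15b1cc78d45, nat_lit 0x1798ea6c629, [], [], []⟩)) (.node (.node (.leaf ⟨nat_lit 2, nat_lit 0, nat_lit 0, nat_lit 0xbe0979de3, nat_lit 0, nat_lit 0, [], [], [nat_lit 0x21e2a73526, nat_lit 4131, nat_lit 0x480871]⟩) (.leaf ⟨nat_lit 1, nat_lit 14, nat_lit 12, nat_lit 0xc5a17284d, nat_lit 0x69dc75290f, nat_lit 0x120ec145c3, [], [], []⟩)) (.leaf ⟨nat_lit 1, nat_lit 10, nat_lit 10, nat_lit 0x115951073461, nat_lit 0x283d4e8bca2, nat_lit 0x14c1ea2b1cc, [], [], []⟩))) (.node (.node (.node (.leaf ⟨nat_lit 0, nat_lit 1, nat_lit 1, nat_lit 0, nat_lit 0x45c98a1c5, nat_lit 0xa883745c8, [], [], []⟩) (.leaf ⟨nat_lit 1, nat_lit 10, nat_lit 12, nat_lit 0x595ec61c91,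 nat_lit 0x544ef5b482, nat_lit 0x8db01414a, [], [], []⟩)) (.leaf ⟨nat_lit 1, nat_lit 10, nat_lit 10, nat_lit 0x362d625c0e2, nat_lit 0x251df062d62, nat_lit 0x7b10a71862, [], [], []⟩)) (.node (.leaf ⟨nat_lit 1, nat_lit 10, nat_lit 10, nat_lit 0x4306c74142, nat_lit 0x4456572150, nat_lit 0x3198b7c485, [], [], []⟩) (.leaf ⟨nat_lit 1, nat_lit 10, nat_lit 10, nat_lit 0x5525cb40602, nat_lit 0x354e32a09, nat_lit 0x11306a51622, [], [], []⟩))))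

noncomputable def F4 : GT Fa := .node (.node (.node (.node (.node (.leaf ⟨nat_lit 2, nat_lit 0, nat_lit 0, nat_lit 3, nat_lit 0, nat_lit 0, [], [], [nat_lit 3]⟩) (.leaf ⟨nat_lit 1, nat_lit 10, nat_lit 10, nat_lit 0x1735c6339a2, nat_lit 0xc48f23cca, nat_lit 0x168c866c582, [], [], []⟩)) (.leaf ⟨nat_lit 1, nat_lit 10, nat_lit 10, nat_lit 0x4c5aa33d51, nat_lit 0x5344b62c62, nat_lit 0x13448b21deb, [], [], []⟩)) (.node (.node (.leaf ⟨nat_lit 0, nat_lit 1, nat_lit 1, nat_lit 0, nat_lit 0x243d0b7ac43, nat_lit 0x7adb122a23, [], [], []⟩) (.leaf ⟨nat_lit 1, nat_lit 10, nat_lit 12, nat_lit 0x1630315a5c1, nat_lit 0x53171291c3, nat_lit 0x256e71d51, [], [], []⟩)) (.leaf ⟨nat_lit 1, nat_lit 10, nat_lit 10, nat_lit 0x247960d3b101, nat_lit 0x265459152601, nat_lit 0x79a0e61cb0, [], [], []⟩))) (.node (.node (.node (.leaf ⟨nat_lit 0, nat_lit 1, nat_lit 1, nat_lit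 0, nat_lit 0xa8795c6, nat_lit 0x62361627, [], [], []⟩) (.leaf ⟨nat_lit 1, nat_lit 10, nat_lit 11, nat_lit 0xe2aa2f82081, nat_lit 0x22d0a7b462, nat_lit 0x511e57ade2, [], [], []⟩)) (.leaf ⟨nat_lit 1, nat_lit 10, nat_lit 10, nat_lit 0x35107acc4, nat_lit 0x231e95bd0c, nat_lit 0x826065c4c2, [], [], []⟩)) (.node (.node (.leaf ⟨nat_lit 2, nat_lit 0, nat_lit 0, nat_lit 0x4c1816c5f1, nat_lit 0, nat_lit 0, [], [], [nat_lit 10, nat_lit 0x6154e6a1c2, nat_lit 11299]⟩) (.leaf ⟨nat_lit 1, nat_lit 9, nat_lit 14, nat_lit 0x414e389a6, nat_lit 0x22b02d68c41, nat_lit 0x6b462828c5, [], [], []⟩)) (.leaf ⟨nat_lit 1, nat_lit 10, nat_lit 10, nat_lit 0x17bc4c33202, nat_lit 0x48b22a53ca2, nat_lit 0x2d6aa2e4b841, [], [], []⟩)))) (.node (.node (.node (.node (.leaf ⟨nat_lit 2, nat_lit 0, nat_lit 0, nat_lit 1128, nat_lit 0, nat_lit 0, [], [], [nat_lit 0x1be0f3c0c1, nat_lit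 0x615a2689a1]⟩) (.leaf ⟨nat_lit 1, nat_lit 10, nat_lit 10, nat_lit 0x23d8e8c624, nat_lit 0x14d12d66, nat_lit 0x63e2a4b507, [], [], []⟩)) (.leaf ⟨nat_lit 1, nat_lit 10, nat_lit 9, nat_lit 0x13b14f6bd26, nat_lit 0x360c4c161, nat_lit 0x6a62c5ac43, [], [], []⟩)) (.node (.node (.leaf ⟨nat_lit 2, nat_lit 0, nat_lit 0, nat_lit 0x35c6838e4, nat_lit 0, nat_lit 0, [], [], [nat_lit 4131, nat_lit 0x480871, nat_lit 0x5f04bd86]⟩) (.leaf ⟨nat_lit 1, nat_lit 10, nat_lit 14, nat_lit 0x5c1d0830c2, nat_lit 0x225ad79183, nat_lit 0x629cc515e5, [], [], []⟩)) (.leaf ⟨nat_lit 1, nat_lit 10, nat_lit 10, nat_lit 0x70ccb5c4ab, nat_lit 0x9ea8a8cb, nat_lit 0x20c50a43daa, [], [], []⟩))) (.node (.node (.node (.leaf ⟨nat_lit 0, nat_lit 1, nat_lit 1, nat_lit 0, nat_lit 0x22216be08, nat_lit 0x3442d79a03, [], [], []⟩) (.leaf ⟨nat_lit 1, nat_lit 12, nat_lit 10, nat_lit 0x142dce6a482,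 nat_lit 0x12199062222, nat_lit 0x2e0b6a982, [], [], []⟩)) (.leaf ⟨nat_lit 1, nat_lit 10, nat_lit 10, nat_lit 0x18988f8a1e2, nat_lit 0x10219b023102, nat_lit 0x19da442dc7, [], [], []⟩)) (.node (.leaf ⟨nat_lit 1, nat_lit 10, nat_lit 10, nat_lit 0x116402a53922, nat_lit 0x22de56b4e8, nat_lit 0x1394a33deb, [], [], []⟩) (.leaf ⟨nat_lit 1, nat_lit 10, nat_lit 10, nat_lit 0x394e8906f, nat_lit 0xa79e0d7c1a2, nat_lit 0xacae4c625, [], [], []⟩))))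

noncomputable def F5 : GT Fa := .node (.node (.node (.node (.node (.leaf ⟨nat_lit 0, nat_lit 0, nat_lit 0, nat_lit 0, nat_lit 3, nat_lit 3, [], [], []⟩) (.leaf ⟨nat_lit 1, nat_lit 10, nat_lit 10, nat_lit 0x88b1e96b541, nat_lit 0x895a6311c4, nat_lit 0x3a9cc4bd45, [], [], []⟩)) (.leaf ⟨nat_lit 1, nat_lit 10, nat_lit 10, nat_lit 0x55ba0c640c1, nat_lit 0x20b8c47bd70, nat_lit 0x439917462c, [], [], []⟩)) (.node (.node (.leaf ⟨nat_lit 0, nat_lit 1, nat_lit 1, nat_lit 0, nat_lit 0x5a18f50581, nat_lit 0x16123d0b, [], [], []⟩) (.leaf ⟨nat_lit 1, nat_lit 12, nat_lit 10, nat_lit 0x528aa23d62, nat_lit 0x106216d72e02, nat_lit 0x541cc7aa04, [], [], []⟩)) (.leaf ⟨nat_lit 1, nat_lit 10, nat_lit 10, nat_lit 0x11b5aa44482, nat_lit 0x6897068e0b, nat_lit 0x3a94e6b524, [], [], []⟩))) (.node (.node (.node (.leaf ⟨nat_lit 0, nat_lit 1, nat_lit 1, nat_lit 0, nat_lit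 0x61e0b81c62, nat_lit 0x1855096d, [], [], []⟩) (.leaf ⟨nat_lit 1, nat_lit 9, nat_lit 11, nat_lit 0x32e047306e, nat_lit 0xa84c7a162, nat_lit 0x8a14f6a54c, [], [], []⟩)) (.leaf ⟨nat_lit 1, nat_lit 10, nat_lit 10, nat_lit 0x2155159229, nat_lit 0x36a08e6ac61, nat_lit 0x27260d840c5, [], [], []⟩)) (.node (.node (.leaf ⟨nat_lit 1, nat_lit 9, nat_lit 9, nat_lit 0x2a0f841e1, nat_lit 0x17adb131462, nat_lit 0x5356c644ae, [], [], []⟩) (.leaf ⟨nat_lit 1, nat_lit 14, nat_lit 10, nat_lit 0x24b07c4e2, nat_lit 0x425ec7a981, nat_lit 0x125e3891eb, [], [], []⟩)) (.leaf ⟨nat_lit 1, nat_lit 10, nat_lit 10, nat_lit 0x3282e545ef, nat_lit 0x799486458b, nat_lit 0x18a1ef2bd82, [], [], []⟩)))) (.node (.node (.node (.node (.leaf ⟨nat_lit 2, nat_lit 0, nat_lit 0, nat_lit 0x30d05c205, nat_lit 0, nat_lit 0, [], [], [nat_lit 0x1e78306e, nat_lit 6]⟩) (.leaf ⟨nat_lit 1, nat_lit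 10, nat_lit 10, nat_lit 0x18b144525cd, nat_lit 0x28ad30721f0, nat_lit 0x113d9058e03, [], [], []⟩)) (.leaf ⟨nat_lit 1, nat_lit 9, nat_lit 10, nat_lit 0x2194e3b9a2, nat_lit 0x5ae2160da1, nat_lit 0x5288584205, [], [], []⟩)) (.node (.node (.leaf ⟨nat_lit 2, nat_lit 0, nat_lit 0, nat_lit 4, nat_lit 0, nat_lit 0, [], [], [nat_lit 0x480871, nat_lit 0x5f04bd86, nat_lit 0x21e2a73526]⟩) (.leaf ⟨nat_lit 1, nat_lit 14, nat_lit 12, nat_lit 0x7ac9123d48, nat_lit 0x352b58c8f, nat_lit 0x60cf11898c, [], [], []⟩)) (.leaf ⟨nat_lit 1, nat_lit 10, nat_lit 10, nat_lit 0xd4f891ce, nat_lit 0x6c12e68c85, nat_lit 0x14be095b18c, [], [], []⟩))) (.node (.node (.node (.leaf ⟨nat_lit 0, nat_lit 1, nat_lit 1, nat_lit 0, nat_lit 0x143c9024022, nat_lit 0x30aa12da3, [], [], []⟩) (.leaf ⟨nat_lit 1, nat_lit 10, nat_lit 12, nat_lit 0x18a18351181, nat_lit 0x2dab615c1, nat_lit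 0x68c467ade3, [], [], []⟩)) (.leaf ⟨nat_lit 1, nat_lit 10, nat_lit 10, nat_lit 0x3c62f5ace6, nat_lit 0x18b0ea61841, nat_lit 0x8b98b81985, [], [], []⟩)) (.node (.leaf ⟨nat_lit 1, nat_lit 10, nat_lit 10, nat_lit 0x10d8a50d8f, nat_lit 0x6ad8e13101, nat_lit 0x1420b6ba0f, [], [], []⟩) (.leaf ⟨nat_lit 1, nat_lit 10, nat_lit 9, nat_lit 0x641106a48d, nat_lit 0x173990491e7, nat_lit 0x2334f052902, [], [], []⟩))))

noncomputable def F6 : GT Fa := .node (.node (.node (.node (.node (.leaf ⟨nat_lit 0, nat_lit 1, nat_lit 1, nat_lit 0, nat_lit 3, nat_lit 3, [], [], []⟩) (.leaf ⟨nat_lit 1, nat_lit 10, nat_lit 10, nat_lit 0x445ea840ed, nat_lit 0xadc264584, nat_lit 0x24c4ef2a9c5, [], [], []⟩)) (.leaf ⟨nat_lit 1, nat_lit 10, nat_lit 10, nat_lit 0x895aa13221, nat_lit 0x442d72e2c, nat_lit 0x131cc60d4c, [], [], []⟩)) (.node (.node (.leaf ⟨nat_lit 0, nat_lit 1,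 nat_lit 1, nat_lit 0, nat_lit 0x3cc72b8c1, nat_lit 0x10a48ad0d, [], [], []⟩) (.leaf ⟨nat_lit 1, nat_lit 12, nat_lit 10, nat_lit 0x88406a0aa02, nat_lit 0xc1bd4c8b562, nat_lit 0x829ce319c5, [], [], []⟩)) (.leaf ⟨nat_lit 1, nat_lit 10, nat_lit 10, nat_lit 0x5a4ad24162, nat_lit 0x26a56363c41, nat_lit 0x23356c43d04, [], [], []⟩))) (.node (.node (.node (.leaf ⟨nat_lit 0, nat_lit 1, nat_lit 1, nat_lit 0, nat_lit 0x94e3bd6d, nat_lit 0x135312a601, [], [], []⟩) (.leaf ⟨nat_lit 1, nat_lit 11, nat_lit 9, nat_lit 0x94289627, nat_lit 0x5c08a838a8, nat_lit 0x16b95062206, [], [], []⟩)) (.leaf ⟨nat_lit 1, nat_lit 10, nat_lit 10, nat_lit 0x9ae0c50b, nat_lit 0x4b6bd6e51d41, nat_lit 0x6c1e782e04, [], [], []⟩)) (.node (.node (.leaf ⟨nat_lit 1, nat_lit 7, nat_lit 9, nat_lit 0x19837b4a1, nat_lit 0x6ae076bc82, nat_lit 0x595cb71a07, [], [], []⟩) (.leaf ⟨nat_lit 1,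 nat_lit 9, nat_lit 14, nat_lit 0x532237c5e1, nat_lit 0x136258b102, nat_lit 0x13454d51602, [], [], []⟩)) (.leaf ⟨nat_lit 1, nat_lit 10, nat_lit 10, nat_lit 0x56a9480b9a1, nat_lit 0x42d7153d08, nat_lit 0x4c5d0541e2, [], [], []⟩)))) (.node (.node (.node (.node (.leaf ⟨nat_lit 2, nat_lit 0, nat_lit 0, nat_lit 0x22297062e, nat_lit 0, nat_lit 0, [], [], [nat_lit 6, nat_lit 0xb04c130ad]⟩) (.leaf ⟨nat_lit 1, nat_lit 10, nat_lit 10, nat_lit 0x8b5d05b8cf, nat_lit 0x508d17c4ee, nat_lit 0x5456d52541, [], [], []⟩)) (.leaf ⟨nat_lit 1, nat_lit 10, nat_lit 10, nat_lit 0x582a2e12de1, nat_lit 0x728aa0c622, nat_lit 0x12db12262a, [], [], []⟩)) (.node (.node (.leaf ⟨nat_lit 2, nat_lit 0, nat_lit 0, nat_lit 0x232346c, nat_lit 0, nat_lit 0, [], [], [nat_lit 0x5f04bd86, nat_lit 0x21e2a73526, nat_lit 4131]⟩) (.leaf ⟨nat_lit 1, nat_lit 14, nat_lit 10, nat_lit 0x2631497b5c1,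 nat_lit 0x12a076ad8a, nat_lit 0x115a47920e, [], [], []⟩)) (.leaf ⟨nat_lit 1, nat_lit 10, nat_lit 10, nat_lit 0x11630aa72083, nat_lit 0x18c4ef7b443, nat_lit 0xf6ada55b8c1, [], [], []⟩))) (.node (.node (.node (.leaf ⟨nat_lit 0, nat_lit 1, nat_lit 1, nat_lit 0, nat_lit 0x158569461, nat_lit 0x11b0ad, [], [], []⟩) (.leaf ⟨nat_lit 1, nat_lit 10, nat_lit 12, nat_lit 0x653d8482a02, nat_lit 0xb1071c582, nat_lit 0xd3adef62c41, [], [], []⟩)) (.leaf ⟨nat_lit 1, nat_lit 10, nat_lit 10, nat_lit 0x244ec5314f, nat_lit 0x27421051c62, nat_lit 0x2436227c4a1, [], [], []⟩)) (.node (.leaf ⟨nat_lit 1, nat_lit 10, nat_lit 10, nat_lit 0x13d837a082, nat_lit 0x179e0d83041, nat_lit 0x1310b3ad65, [], [], []⟩) (.leaf ⟨nat_lit 1, nat_lit 10, nat_lit 10, nat_lit 0x12e2b78e26, nat_lit 0x1bd0c7a0b1, nat_lit 0x6c4228adce, [], [], []⟩))))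

noncomputable def F7 : GT Fa := .node (.node (.node (.node (.node (.leaf ⟨nat_lit 2, nat_lit 0, nat_lit 0, nat_lit 5, nat_lit 0, nat_lit 0, [], [], [nat_lit 5]⟩) (.leaf ⟨nat_lit 1, nat_lit 10, nat_lit 10, nat_lit 0x730d163d8e, nat_lit 0x5416c6320f, nat_lit 0x45ec51623, [], [], []⟩)) (.leaf ⟨nat_lit 1, nat_lit 10, nat_lit 10, nat_lit 0xa6b54a240a2, nat_lit 0x220b13e06, nat_lit 0x163d2f8ad8b, [], [], []⟩)) (.node (.node (.leaf ⟨nat_lit 0, nat_lit 1, nat_lit 1, nat_lit 0, nat_lit 0x5a58f50581, nat_lit 0x4454b526, [], [], []⟩) (.leaf ⟨nat_lit 1, nat_lit 9, nat_lit 12, nat_lit 0x58e0f8bcd0, nat_lit 0x145716adf1, nat_lit 0x891b01c062, [], [], []⟩)) (.leaf ⟨nat_lit 1, nat_lit 9, nat_lit 10, nat_lit 0x7402a629e4, nat_lit 0x741ec83622, nat_lit 0x16be2b4a062, [], [], []⟩))) (.node (.node (.node (.leaf ⟨nat_lit 0, nat_lit 1, nat_lit 1, nat_lit 0, nat_lit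 0x5615a5, nat_lit 12461, [], [], []⟩) (.leaf ⟨nat_lit 1, nat_lit 11, nat_lit 10, nat_lit 0x86302c83101, nat_lit 0x1294c491ca, nat_lit 0x5ac8a3c082, [], [], []⟩)) (.leaf ⟨nat_lit 1, nat_lit 10, nat_lit 10, nat_lit 0x834ae42d02, nat_lit 0x9699cd0c043, nat_lit 0x11ad5b607, [], [], []⟩)) (.node (.node (.leaf ⟨nat_lit 1, nat_lit 9, nat_lit 8, nat_lit 0x1e72b84b, nat_lit 0x2bda469161, nat_lit 0x21b92f330e1, [], [], []⟩) (.leaf ⟨nat_lit 1, nat_lit 10, nat_lit 14, nat_lit 0x10dc260d51, nat_lit 0x191e82c103, nat_lit 0x21f150628, [], [], []⟩)) (.leaf ⟨nat_lit 1, nat_lit 10, nat_lit 10, nat_lit 0xa2b5ed6ae02, nat_lit 0xe535cb64081, nat_lit 0x5ad65811a3, [], [], []⟩)))) (.node (.node (.node (.node (.leaf ⟨nat_lit 2, nat_lit 0, nat_lit 0, nat_lit 6241, nat_lit 0, nat_lit 0, [], [], [nat_lit 0xb04c130ad, nat_lit 0x1e78306e]⟩) (.leaf ⟨nat_lit 1, nat_lit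 10, nat_lit 10, nat_lit 0x3b94c899a2, nat_lit 0xf7c5e7545a2, nat_lit 0xad9169d42, [], [], []⟩)) (.leaf ⟨nat_lit 1, nat_lit 10, nat_lit 10, nat_lit 0x1b8ad72c41, nat_lit 0xa7996174201, nat_lit 0xae2d83105, [], [], []⟩)) (.node (.node (.leaf ⟨nat_lit 2, nat_lit 0, nat_lit 0, nat_lit 4193, nat_lit 0, nat_lit 0, [], [], [nat_lit 0x41d8f5c124, nat_lit 0x21ae3c5c3, nat_lit 0x68d84]⟩) (.leaf ⟨nat_lit 1, nat_lit 10, nat_lit 14, nat_lit 0x2a56f0b1f0, nat_lit 0x123c8d3c181, nat_lit 0x32215c565, [], [], []⟩)) (.leaf ⟨nat_lit 1, nat_lit 10, nat_lit 10, nat_lit 0x435ef50dc3, nat_lit 0x7acca8a1e2, nat_lit 0x218a0d7a983, [], [], []⟩))) (.node (.node (.node (.leaf ⟨nat_lit 0, nat_lit 1, nat_lit 1, nat_lit 0, nat_lit 0x89b12c182, nat_lit 0x1362583041, [], [], []⟩) (.leaf ⟨nat_lit 1, nat_lit 12, nat_lit 10, nat_lit 0x509a61c422, nat_lit 0xf640eb2b861, nat_lit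 0x16150e62982, [], [], []⟩)) (.leaf ⟨nat_lit 1, nat_lit 10, nat_lit 10, nat_lit 0x6310553da7, nat_lit 0x144d1630ac, nat_lit 0x18b0656b98c, [], [], []⟩)) (.node (.leaf ⟨nat_lit 1, nat_lit 10, nat_lit 10, nat_lit 0xb6c54e4aa02, nat_lit 0x6316c0aa0d, nat_lit 0x8302f61148, [], [], []⟩) (.leaf ⟨nat_lit 1, nat_lit 10, nat_lit 9, nat_lit 0x1adcb3a948, nat_lit 0x8c5477c4a2, nat_lit 0x3ded1c621, [], [], []⟩))))

noncomputable def F8 : GT Fa := .node (.node (.node (.node (.node (.leaf ⟨nat_lit 0, nat_lit 0, nat_lit 0, nat_lit 0, nat_lit 5, nat_lit 5, [], [], []⟩) (.leaf ⟨nat_lit 1, nat_lit 10, nat_lit 10, nat_lit 0x7262523161, nat_lit 0x4a0ae718d0, nat_lit 0x8313162e06, [], [], []⟩)) (.leaf ⟨nat_lit 1, nat_lit 9, nat_lit 10, nat_lit 0x3135ce34562, nat_lit 0x85a46d6c0c1, nat_lit 0x7aa0b299c5, [], [], []⟩)) (.node (.node (.leaf ⟨nat_lit 0, nat_lit 1,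 nat_lit 1, nat_lit 0, nat_lit 0x121836c5a2, nat_lit 0x3c705c1c3, [], [], []⟩) (.leaf ⟨nat_lit 1, nat_lit 12, nat_lit 12, nat_lit 0x72c6d20a2f, nat_lit 0x5c2100ad21, nat_lit 0x231cb340c2, [], [], []⟩)) (.leaf ⟨nat_lit 1, nat_lit 10, nat_lit 10, nat_lit 0x1118353e31, nat_lit 0x58ca48b54e, nat_lit 0x7a0ad71443, [], [], []⟩))) (.node (.node (.node (.leaf ⟨nat_lit 0, nat_lit 1, nat_lit 1, nat_lit 0, nat_lit 0x615a5, nat_lit 0x615a5, [], [], []⟩) (.leaf ⟨nat_lit 1, nat_lit 11, nat_lit 10, nat_lit 0x7316e8c422, nat_lit 0x953c8b8aa22, nat_lit 0x1809457a225, [], [], []⟩)) (.leaf ⟨nat_lit 1, nat_lit 9, nat_lit 10, nat_lit 0x7994c81c6f, nat_lit 0x394a6a12f, nat_lit 0x2b14e1b22a, [], [], []⟩)) (.node (.node (.leaf ⟨nat_lit 1, nat_lit 9, nat_lit 9, nat_lit 0x12a62c58562, nat_lit 0x222d6872461, nat_lit 0x4b22d31c43, [], [], []⟩) (.leaf ⟨nat_lit 1, nat_lit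 10, nat_lit 14, nat_lit 0x2418a2a1c2, nat_lit 0x17bd4a144c1, nat_lit 0xb0ec81dc7, [], [], []⟩)) (.leaf ⟨nat_lit 1, nat_lit 10, nat_lit 10, nat_lit 0x378de37a8a1, nat_lit 0x34ce6856c, nat_lit 0x1129f18ac8e, [], [], []⟩)))) (.node (.node (.node (.node (.leaf ⟨nat_lit 0, nat_lit 1, nat_lit 1, nat_lit 0, nat_lit 0x4218c41621, nat_lit 0x8835850e, [], [], []⟩) (.leaf ⟨nat_lit 1, nat_lit 10, nat_lit 10, nat_lit 0x12bcb068c81, nat_lit 0x37ad2f53043, nat_lit 0x16adc22c10b, [], [], []⟩)) (.leaf ⟨nat_lit 1, nat_lit 10, nat_lit 10, nat_lit 0x15322a628e2, nat_lit 0x6410f1bd63, nat_lit 0xe831118b481, [], [], []⟩)) (.node (.node (.leaf ⟨nat_lit 2, nat_lit 0, nat_lit 0, nat_lit 0xd5a5c25ae21, nat_lit 0, nat_lit 0, [], [], [nat_lit 0x21ae3c5c3, nat_lit 0x68d84, nat_lit 4]⟩) (.leaf ⟨nat_lit 1, nat_lit 8, nat_lit 14, nat_lit 0x729c974491, nat_lit 0x4adce3288b,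 nat_lit 0x3b5a18be0c, [], [], []⟩)) (.leaf ⟨nat_lit 1, nat_lit 10, nat_lit 10, nat_lit 0xa4312c8ada2, nat_lit 0x253a315b563, nat_lit 0x6ac9081022, [], [], []⟩))) (.node (.node (.node (.leaf ⟨nat_lit 0, nat_lit 1, nat_lit 1, nat_lit 0, nat_lit 0x21e571861, nat_lit 0xf160e10, [], [], []⟩) (.leaf ⟨nat_lit 1, nat_lit 12, nat_lit 10, nat_lit 0x3b9915c109, nat_lit 0x62d2e73908, nat_lit 0x5b1717982a, [], [], []⟩)) (.leaf ⟨nat_lit 1, nat_lit 10, nat_lit 10, nat_lit 0x2819cd3ac61, nat_lit 0x252151511c1, nat_lit 0x11bd887c623, [], [], []⟩)) (.node (.leaf ⟨nat_lit 1, nat_lit 10, nat_lit 10, nat_lit 0x7c5e56ad01, nat_lit 0x2798315b221, nat_lit 0x1356e4c14c, [], [], []⟩) (.leaf ⟨nat_lit 1, nat_lit 10, nat_lit 10, nat_lit 0x2615ca68dc2, nat_lit 0x7356d5c5d1, nat_lit 0x271971530a1, [], [], []⟩))))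

noncomputable def F9 : GT Fa := .node (.node (.node (.node (.node (.leaf ⟨nat_lit 0, nat_lit 1, nat_lit 1, nat_lit 0, nat_lit 5, nat_lit 5, [], [], []⟩) (.leaf ⟨nat_lit 1, nat_lit 10, nat_lit 10, nat_lit 0x68ced82450, nat_lit 0x215cd0b851, nat_lit 0x16ba2b8b622, [], [], []⟩)) (.leaf ⟨nat_lit 1, nat_lit 10, nat_lit 10, nat_lit 0x539315b542, nat_lit 0xd7186a7c181, nat_lit 0x8dcd129cb, [], [], []⟩)) (.node (.node (.leaf ⟨nat_lit 0, nat_lit 1, nat_lit 1, nat_lit 0, nat_lit 0x44a848862, nat_lit 0x3ded41dc5, [], [], []⟩) (.leaf ⟨nat_lit 1, nat_lit 10, nat_lit 12, nat_lit 0x35bde983082, nat_lit 0x1bded398ab, nat_lit 0x322cae71d04, [], [], []⟩)) (.leaf ⟨nat_lit 1, nat_lit 10, nat_lit 10, nat_lit 0xc5a36aced, nat_lit 0x426277c451, nat_lit 0x1d448220f, [], [], []⟩))) (.node (.node (.node (.leaf ⟨nat_lit 0, nat_lit 1, nat_lit 1, nat_lit 0, nat_lit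 0x5412b82c82, nat_lit 0x1c5082c182, [], [], []⟩) (.leaf ⟨nat_lit 1, nat_lit 11, nat_lit 10, nat_lit 0x8cad13606, nat_lit 0x3154d1c1a3, nat_lit 0xc550a09, [], [], []⟩)) (.leaf ⟨nat_lit 1, nat_lit 10, nat_lit 10, nat_lit 0x7b5c8531ce, nat_lit 0x5c110730b1, nat_lit 0x28a82863862, [], [], []⟩)) (.node (.node (.leaf ⟨nat_lit 1, nat_lit 9, nat_lit 9, nat_lit 0x1c58159565, nat_lit 0x2292a8b501, nat_lit 0x2bd64640ad, [], [], []⟩) (.leaf ⟨nat_lit 1, nat_lit 9, nat_lit 14, nat_lit 0x62dce891c1, nat_lit 0x321a2853e22, nat_lit 0x5c0ad09da6, [], [], []⟩)) (.leaf ⟨nat_lit 1, nat_lit 9, nat_lit 10, nat_lit 0x8e0e59207, nat_lit 0x223d4d30da9, nat_lit 0x2adc58b130, [], [], []⟩)))) (.node (.node (.node (.node (.leaf ⟨nat_lit 0, nat_lit 1, nat_lit 1, nat_lit 0, nat_lit 0x31dab8bd41, nat_lit 0x1353111530, [], [], []⟩) (.leaf ⟨nat_lit 1, nat_lit 10, nat_lit 10,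 nat_lit 0x99e37be22, nat_lit 0x135b079164, nat_lit 0x591812b5ed, [], [], []⟩)) (.leaf ⟨nat_lit 1, nat_lit 10, nat_lit 10, nat_lit 0x7a48c62ce2, nat_lit 0x1284b740e1, nat_lit 0x11d715bceb, [], [], []⟩)) (.node (.node (.leaf ⟨nat_lit 2, nat_lit 0, nat_lit 0, nat_lit 0x21ae3c5c1, nat_lit 0, nat_lit 0, [], [], [nat_lit 0x68d84, nat_lit 4, nat_lit 0x41d8f5c124]⟩) (.leaf ⟨nat_lit 1, nat_lit 14, nat_lit 9, nat_lit 0x5348c4a161, nat_lit 0x130ab4c167, nat_lit 0x8b9637acc2, [], [], []⟩)) (.leaf ⟨nat_lit 1, nat_lit 10, nat_lit 10, nat_lit 0xc54e50da1, nat_lit 0x8b9ca51461, nat_lit 0x2628318b102, [], [], []⟩))) (.node (.node (.node (.leaf ⟨nat_lit 0, nat_lit 1, nat_lit 1, nat_lit 0, nat_lit 0x22361627, nat_lit 0x4a8795c6, [], [], []⟩) (.leaf ⟨nat_lit 1, nat_lit 10, nat_lit 12, nat_lit 0x1346d7ad70, nat_lit 0x730ac8156e, nat_lit 0x5f069950, [], [], []⟩))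 (.leaf ⟨nat_lit 1, nat_lit 10, nat_lit 10, nat_lit 0x5c1a42b4ab, nat_lit 0x609a371a08, nat_lit 0x16b46984205, [], [], []⟩)) (.node (.leaf ⟨nat_lit 1, nat_lit 10, nat_lit 10, nat_lit 0x3b88f60981, nat_lit 0x8a0b4390e, nat_lit 0xa22f2290b, [], [], []⟩) (.leaf ⟨nat_lit 1, nat_lit 10, nat_lit 10, nat_lit 0x16ae0f63062, nat_lit 0x2839675c5e2, nat_lit 0x12cac4c5ec, [], [], []⟩))))

noncomputable def F10 : GT Fa := .node (.node (.node (.node (.node (.leaf ⟨nat_lit 2, nat_lit 0, nat_lit 0, nat_lit 4, nat_lit 0, nat_lit 0, [], [], [nat_lit 164, nat_lit 4131, nat_lit 164]⟩) (.leaf ⟨nat_lit 1, nat_lit 10, nat_lit 10, nat_lit 0x596103bd8a, nat_lit 0x54c1a9a5, nat_lit 0x2c8572d67, [], [], []⟩)) (.leaf ⟨nat_lit 1, nat_lit 10, nat_lit 9, nat_lit 0x412a43082, nat_lit 0x685aa53d07, nat_lit 0x24412f8b604, [], [], []⟩)) (.node (.node (.leaf ⟨nat_lit 0, nat_lit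 1, nat_lit 1, nat_lit 0, nat_lit 0x30ad795c5, nat_lit 0x2628745c3, [], [], []⟩) (.leaf ⟨nat_lit 1, nat_lit 10, nat_lit 12, nat_lit 0x2def3c104, nat_lit 0x1b9af83503, nat_lit 0x8adcb594c2, [], [], []⟩)) (.leaf ⟨nat_lit 1, nat_lit 10, nat_lit 10, nat_lit 0x26bdad8408a, nat_lit 0x2160a62dd0, nat_lit 0x2a2981227, [], [], []⟩))) (.node (.node (.node (.leaf ⟨nat_lit 0, nat_lit 1, nat_lit 1, nat_lit 0, nat_lit 0xf2b923, nat_lit 0x12689608, [], [], []⟩) (.leaf ⟨nat_lit 1, nat_lit 11, nat_lit 10, nat_lit 0x8e35118a, nat_lit 0xf5b5f024202, nat_lit 0xb90b7262e, [], [], []⟩)) (.leaf ⟨nat_lit 1, nat_lit 10, nat_lit 9, nat_lit 0x2b8cb1c1ce, nat_lit 0x45a8545c6, nat_lit 0x1b12c53543, [], [], []⟩)) (.node (.node (.leaf ⟨nat_lit 1, nat_lit 9, nat_lit 8, nat_lit 0x7150b2b94d, nat_lit 0xb1d04b5c5, nat_lit 0x1cd159164, [], [], []⟩) (.leaf ⟨nat_lit 1, nat_lit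 10, nat_lit 14, nat_lit 0x72ca47b22a, nat_lit 0x5bd2481982, nat_lit 0x1732287c4c4, [], [], []⟩)) (.leaf ⟨nat_lit 1, nat_lit 10, nat_lit 10, nat_lit 0x1a4cc5a1c3, nat_lit 0x99904b4f0, nat_lit 0x1223173949, [], [], []⟩)))) (.node (.node (.node (.node (.leaf ⟨nat_lit 0, nat_lit 1, nat_lit 1, nat_lit 0, nat_lit 0x34c4ae8a422, nat_lit 0x12e285a1a4, [], [], []⟩) (.leaf ⟨nat_lit 1, nat_lit 10, nat_lit 10, nat_lit 0x20bd2c5a562, nat_lit 0x4c07013d61, nat_lit 0xc0ce2350e, [], [], []⟩)) (.leaf ⟨nat_lit 1, nat_lit 8, nat_lit 10, nat_lit 0x711d0629c1, nat_lit 0x611e81b0a1, nat_lit 0x8ae2b6c1c7, [], [], []⟩)) (.node (.node (.leaf ⟨nat_lit 2, nat_lit 0, nat_lit 0, nat_lit 0x1a361061, nat_lit 0, nat_lit 0, [], [], [nat_lit 4, nat_lit 0x41d8f5c124, nat_lit 0x21ae3c5c3]⟩) (.leaf ⟨nat_lit 1, nat_lit 14, nat_lit 10, nat_lit 0xa2481602, nat_lit 0x7c1a668a2f,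 nat_lit 0xc551688cf, [], [], []⟩)) (.leaf ⟨nat_lit 1, nat_lit 9, nat_lit 10, nat_lit 0x5509b133222, nat_lit 0x3c58f7ade6, nat_lit 0x282dea81d02, [], [], []⟩))) (.node (.node (.node (.leaf ⟨nat_lit 0, nat_lit 1, nat_lit 1, nat_lit 0, nat_lit 0x1b20b1b605, nat_lit 0x3c705c1c5, [], [], []⟩) (.leaf ⟨nat_lit 1, nat_lit 10, nat_lit 12, nat_lit 0x62d9010da2, nat_lit 0x140436a5ec, nat_lit 0x16ba0862c22, [], [], []⟩)) (.leaf ⟨nat_lit 1, nat_lit 10, nat_lit 10, nat_lit 0x47c08a1a9e1, nat_lit 0x3689e77bd61, nat_lit 0x1e2c34549, [], [], []⟩)) (.node (.leaf ⟨nat_lit 1, nat_lit 10, nat_lit 10, nat_lit 0x111116a030, nat_lit 0x13c20e22dc2, nat_lit 0x1a9cd7c4e4, [], [], []⟩) (.leaf ⟨nat_lit 1, nat_lit 10, nat_lit 10, nat_lit 0x1b96b2b5c3, nat_lit 0x232b22c29961, nat_lit 0x736016c5c3, [], [], []⟩))))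

noncomputable def F11 : GT Fa := .node (.node (.node (.node (.node (.leaf ⟨nat_lit 2, nat_lit 0, nat_lit 0, nat_lit 66658, nat_lit 0, nat_lit 0, [], [], [nat_lit 0x510c22]⟩) (.leaf ⟨nat_lit 1, nat_lit 10, nat_lit 10, nat_lit 0x6c16e53ca2, nat_lit 0x31697a54a, nat_lit 0x82d6e3ae0a, [], [], []⟩)) (.leaf ⟨nat_lit 1, nat_lit 7, nat_lit 10, nat_lit 0x1315717a982, nat_lit 0x2294153c2c, nat_lit 0x31d916c5e6, [], [], []⟩)) (.node (.node (.leaf ⟨nat_lit 0, nat_lit 1, nat_lit 1, nat_lit 0, nat_lit 0x2bd8e72101, nat_lit 0x134ec290cb, [], [], []⟩) (.leaf ⟨nat_lit 1, nat_lit 10, nat_lit 12, nat_lit 0x1b18983931, nat_lit 0x19837406e, nat_lit 0x2735a2245c8, [], [], []⟩)) (.leaf ⟨nat_lit 1, nat_lit 10, nat_lit 10, nat_lit 0x6c5b079605, nat_lit 0xc14f23946, nat_lit 0x100be298b0e2, [], [], []⟩))) (.node (.node (.node (.leaf ⟨nat_lit 0, nat_lit 1, nat_lit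 1, nat_lit 0, nat_lit 0xaf2b923, nat_lit 0xa7795c7, [], [], []⟩) (.leaf ⟨nat_lit 1, nat_lit 11, nat_lit 9, nat_lit 0x2adc36bc41, nat_lit 0x1c12c7b062, nat_lit 0x356f42191, [], [], []⟩)) (.leaf ⟨nat_lit 1, nat_lit 10, nat_lit 10, nat_lit 0x3399cd7bca1, nat_lit 0x32285be01, nat_lit 0x17adcd59990, [], [], []⟩)) (.node (.node (.leaf ⟨nat_lit 1, nat_lit 8, nat_lit 7, nat_lit 0x32b98524622, nat_lit 0x741cc6318f, nat_lit 0x1828d15144c, [], [], []⟩) (.leaf ⟨nat_lit 1, nat_lit 10, nat_lit 14, nat_lit 0x15ad6e0c4ab, nat_lit 0xc52658deb, nat_lit 0x60e10685a1, [], [], []⟩)) (.leaf ⟨nat_lit 1, nat_lit 10, nat_lit 10, nat_lit 0x415a96a8a2, nat_lit 0x2b8ef60d8b, nat_lit 0x23c3009e10, [], [], []⟩)))) (.node (.node (.node (.node (.leaf ⟨nat_lit 0, nat_lit 1, nat_lit 1, nat_lit 0, nat_lit 0x1bd8e72101, nat_lit 0x10ded8346c, [], [], []⟩) (.leaf ⟨nat_lit 1,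 nat_lit 10, nat_lit 10, nat_lit 0x11b1735c4, nat_lit 0x22bc6c7086e, nat_lit 0x2f60da45c141, [], [], []⟩)) (.leaf ⟨nat_lit 1, nat_lit 10, nat_lit 10, nat_lit 0x39ad31a02, nat_lit 0x142dcc81601, nat_lit 0x16026a4ce, [], [], []⟩)) (.node (.node (.leaf ⟨nat_lit 1, nat_lit 6, nat_lit 1, nat_lit 0xd86540a1, nat_lit 0x1888b5902b, nat_lit 0x53da88c567, [], [], []⟩) (.leaf ⟨nat_lit 1, nat_lit 9, nat_lit 14, nat_lit 0x8314b5c1, nat_lit 0x8bcad68e21, nat_lit 0x4458e8b4ea, [], [], []⟩)) (.leaf ⟨nat_lit 1, nat_lit 10, nat_lit 10, nat_lit 0x21b20e59542, nat_lit 0x2154e2312c, nat_lit 0x11d4e89603, [], [], []⟩))) (.node (.node (.node (.leaf ⟨nat_lit 0, nat_lit 1, nat_lit 1, nat_lit 0, nat_lit 0x25f079a05, nat_lit 0x4b143a2e, [], [], []⟩) (.leaf ⟨nat_lit 1, nat_lit 12, nat_lit 9, nat_lit 0x43160a3b222, nat_lit 0x4c20d52142, nat_lit 0x629a753c4b, [], [], []⟩))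 (.leaf ⟨nat_lit 1, nat_lit 10, nat_lit 10, nat_lit 0x1a2d8b86c, nat_lit 0xc795915b4e2, nat_lit 0x218ad1c0cb, [], [], []⟩)) (.node (.leaf ⟨nat_lit 1, nat_lit 10, nat_lit 10, nat_lit 0x12b22c0c183, nat_lit 0x2406d241e7, nat_lit 0x4a98f8b085, [], [], []⟩) (.leaf ⟨nat_lit 1, nat_lit 10, nat_lit 10, nat_lit 0x5b1cd23222, nat_lit 0x2a1ab835cc, nat_lit 0xb08f6222e, [], [], []⟩))))

noncomputable def F12 : GT Fa := .node (.node (.node (.node (.node (.leaf ⟨nat_lit 0, nat_lit 0, nat_lit 0, nat_lit 0, nat_lit 0x208c45, nat_lit 0x510c22, [], [], []⟩) (.leaf ⟨nat_lit 1, nat_lit 10, nat_lit 10, nat_lit 0x135ea12e0c, nat_lit 0x191cd895a2, nat_lit 0x24b9ad81862, [], [], []⟩)) (.leaf ⟨nat_lit 1, nat_lit 10, nat_lit 10, nat_lit 0x38714b10c, nat_lit 0x1ae0c8a181, nat_lit 0x2728ed834c1, [], [], []⟩)) (.node (.node (.leaf ⟨nat_lit 0, nat_lit 1, nat_lit 1, nat_lit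 0, nat_lit 0x898b0618a2, nat_lit 0x115b12a208, [], [], []⟩) (.leaf ⟨nat_lit 1, nat_lit 10, nat_lit 12, nat_lit 0x11154d13d61, nat_lit 0x5c1ab5a228, nat_lit 0x81d51791e5, [], [], []⟩)) (.leaf ⟨nat_lit 1, nat_lit 10, nat_lit 10, nat_lit 0xd2414f54181, nat_lit 0x70db02ba05, nat_lit 0x15f133d51, [], [], []⟩))) (.node (.node (.node (.leaf ⟨nat_lit 0, nat_lit 1, nat_lit 1, nat_lit 0, nat_lit 0x10dab28db0, nat_lit 0x11d90640ad, [], [], []⟩) (.leaf ⟨nat_lit 1, nat_lit 10, nat_lit 11, nat_lit 0x22a9e38a985, nat_lit 0x71d8a838a1, nat_lit 0x306f6a9ab, [], [], []⟩)) (.leaf ⟨nat_lit 1, nat_lit 9, nat_lit 10, nat_lit 0x67c2077ae22, nat_lit 0x3b60723db1, nat_lit 0x430f159daf, [], [], []⟩)) (.node (.node (.leaf ⟨nat_lit 0, nat_lit 8, nat_lit 8, nat_lit 0, nat_lit 0x95513b885, nat_lit 0x7414e3c1a9, [], [], []⟩) (.leaf ⟨nat_lit 1, nat_lit 9, nat_lit 14, nat_lit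 0x36219169843, nat_lit 0x16314c7b181, nat_lit 0x18b4154c, [], [], []⟩)) (.leaf ⟨nat_lit 1, nat_lit 10, nat_lit 10, nat_lit 0x68ad8f6a8c2, nat_lit 0x7585ce6ae21, nat_lit 0x5b4a458606, [], [], []⟩)))) (.node (.node (.node (.node (.leaf ⟨nat_lit 0, nat_lit 1, nat_lit 1, nat_lit 0, nat_lit 0x1194e241c3, nat_lit 0xbcd07a603, [], [], []⟩) (.leaf ⟨nat_lit 1, nat_lit 10, nat_lit 10, nat_lit 0x95c10d8b443, nat_lit 0x9811891b221, nat_lit 0x28ad32e0c, [], [], []⟩)) (.leaf ⟨nat_lit 1, nat_lit 10, nat_lit 10, nat_lit 0x4795e389a22, nat_lit 0x105248196e, nat_lit 0x29a958566, [], [], []⟩)) (.node (.node (.leaf ⟨nat_lit 2, nat_lit 0, nat_lit 0, nat_lit 0x18c1c082, nat_lit 0, nat_lit 0, [], [], [nat_lit 4, nat_lit 0x4aa10331cb, nat_lit 0x5102a51041]⟩) (.leaf ⟨nat_lit 1, nat_lit 14, nat_lit 10, nat_lit 0x8b98a72d02, nat_lit 0x245ed705d0, nat_lit 0x55b96c0b602,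 [], [], []⟩)) (.leaf ⟨nat_lit 1, nat_lit 10, nat_lit 10, nat_lit 0x89187629a2, nat_lit 0x5b4e35218e, nat_lit 0x13b0ad73485, [], [], []⟩))) (.node (.node (.node (.leaf ⟨nat_lit 0, nat_lit 1, nat_lit 1, nat_lit 0, nat_lit 0x12b1eb79d62, nat_lit 0x49a268aa22, [], [], []⟩) (.leaf ⟨nat_lit 1, nat_lit 10, nat_lit 12, nat_lit 0x4c1e38a14a, nat_lit 0x453d645b602, nat_lit 0x1e085b8ae, [], [], []⟩)) (.leaf ⟨nat_lit 1, nat_lit 10, nat_lit 10, nat_lit 0xd12a2c89c43, nat_lit 0x124cb6a944, nat_lit 0x3162f6be21, [], [], []⟩)) (.node (.leaf ⟨nat_lit 1, nat_lit 10, nat_lit 7, nat_lit 0x191ef505c3, nat_lit 0xa9301be2e, nat_lit 0xb1c1b031061, [], [], []⟩) (.leaf ⟨nat_lit 1, nat_lit 10, nat_lit 10, nat_lit 0xb42d3420b, nat_lit 0x27bdf164622, nat_lit 0x5c0ef8c441, [], [], []⟩))))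

noncomputable def F13 : GT Fa := .node (.node (.node (.node (.node (.leaf ⟨nat_lit 0, nat_lit 1, nat_lit 1, nat_lit 0, nat_lit 68642, nat_lit 0x208c45, [], [], []⟩) (.leaf ⟨nat_lit 1, nat_lit 10, nat_lit 10, nat_lit 0x7b02a2b1e1, nat_lit 0x1ae2379e22, nat_lit 0x5b2027b231, [], [], []⟩)) (.leaf ⟨nat_lit 1, nat_lit 10, nat_lit 10, nat_lit 0xe5b1875c5c2, nat_lit 0x96b9cc1b622, nat_lit 0x6c02a834c9, [], [], []⟩)) (.node (.node (.leaf ⟨nat_lit 0, nat_lit 1, nat_lit 1, nat_lit 0, nat_lit 0x2adca79969, nat_lit 0x11d90641a1, [], [], []⟩) (.leaf ⟨nat_lit 1, nat_lit 10, nat_lit 12, nat_lit 0x33c6c1a988, nat_lit 0x429816c1c4, nat_lit 0x2a6317bd82, [], [], []⟩)) (.leaf ⟨nat_lit 1, nat_lit 10, nat_lit 9, nat_lit 0x15bcab1b06f, nat_lit 0x1161070c4f, nat_lit 0x3b98e4b9aa, [], [], []⟩))) (.node (.node (.node (.leaf ⟨nat_lit 0, nat_lit 1, nat_lit 1, nat_lit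 0, nat_lit 0x7a49024022, nat_lit 0x45832c5d0, [], [], []⟩) (.leaf ⟨nat_lit 1, nat_lit 9, nat_lit 11, nat_lit 0x7b12f6118c, nat_lit 0x22256e3adab, nat_lit 0x116c1c24c4e2, [], [], []⟩)) (.leaf ⟨nat_lit 1, nat_lit 10, nat_lit 10, nat_lit 0xc02b3ac8b, nat_lit 0x2630516b982, nat_lit 0x118f83ccd, [], [], []⟩)) (.node (.node (.leaf ⟨nat_lit 2, nat_lit 0, nat_lit 0, nat_lit 0x20861, nat_lit 0, nat_lit 0, [], [], [nat_lit 0x3b2297ae2f, nat_lit 69667, nat_lit 0x291e982ca3]⟩) (.leaf ⟨nat_lit 1, nat_lit 10, nat_lit 14, nat_lit 0x2791e76c0c2, nat_lit 0x1a9415114d, nat_lit 0xf7b1e7589a1, [], [], []⟩)) (.leaf ⟨nat_lit 1, nat_lit 10, nat_lit 10, nat_lit 0x113c6c7920a, nat_lit 0x43d6472541, nat_lit 0x38436b885, [], [], []⟩)))) (.node (.node (.node (.node (.leaf ⟨nat_lit 0, nat_lit 1, nat_lit 1, nat_lit 0, nat_lit 0x145af1b9a9, nat_lit 0x4c22da6, [], [], []⟩)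 (.leaf ⟨nat_lit 1, nat_lit 10, nat_lit 10, nat_lit 0x269d6e71a03, nat_lit 0x3626231cc, nat_lit 0x3ae2f795c3, [], [], []⟩)) (.leaf ⟨nat_lit 1, nat_lit 10, nat_lit 10, nat_lit 0x1895a76b60a, nat_lit 0xc439855b0e1, nat_lit 0x275b1ed6a8e1, [], [], []⟩)) (.node (.node (.leaf ⟨nat_lit 2, nat_lit 0, nat_lit 0, nat_lit 4193, nat_lit 0, nat_lit 0, [], [], [nat_lit 0x4aa10331cb, nat_lit 0x5102a51041, nat_lit 0xd86540a1]⟩) (.leaf ⟨nat_lit 1, nat_lit 10, nat_lit 14, nat_lit 0x23260c815ed, nat_lit 0x11219053961, nat_lit 0x2888834b5ae, [], [], []⟩)) (.leaf ⟨nat_lit 1, nat_lit 10, nat_lit 10, nat_lit 0x1110ade4, nat_lit 0x2b94453c82, nat_lit 0xd5396b6c502, [], [], []⟩))) (.node (.node (.node (.leaf ⟨nat_lit 0, nat_lit 1, nat_lit 1, nat_lit 0, nat_lit 0x1b0512a110, nat_lit 0x1158e8adc2, [], [], []⟩) (.leaf ⟨nat_lit 1, nat_lit 12, nat_lit 12, nat_lit 0x16c0b113d82,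 nat_lit 0x6c1a962c8b, nat_lit 0x6a8d122988, [], [], []⟩)) (.leaf ⟨nat_lit 1, nat_lit 10, nat_lit 10, nat_lit 0xf2c14f3b043, nat_lit 0x889f062883, nat_lit 0xb04b1c145, [], [], []⟩)) (.node (.leaf ⟨nat_lit 1, nat_lit 10, nat_lit 10, nat_lit 0xaa0382562, nat_lit 0x5218f2bc85, nat_lit 0x2b4ea645c4, [], [], []⟩) (.leaf ⟨nat_lit 1, nat_lit 10, nat_lit 10, nat_lit 0x840af69621, nat_lit 0x1a2f5306d, nat_lit 0x15450a8346f, [], [], []⟩))))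

noncomputable def F14 : GT Fa := .node (.node (.node (.node (.node (.leaf ⟨nat_lit 2, nat_lit 0, nat_lit 0, nat_lit 0x8218444, nat_lit 0, nat_lit 0, [], [], [nat_lit 4, nat_lit 0x8218445, nat_lit 0x2082310ca4]⟩) (.leaf ⟨nat_lit 1, nat_lit 10, nat_lit 10, nat_lit 0x5439c28bd22, nat_lit 0x745af30da4, nat_lit 0x1741af6c10b, [], [], []⟩)) (.leaf ⟨nat_lit 1, nat_lit 10, nat_lit 10, nat_lit 0x98ae04829c1, nat_lit 0xb4b20d6b982, nat_lit 0x27b5ae215c6, [], [], []⟩)) (.node (.node (.leaf ⟨nat_lit 0, nat_lit 1, nat_lit 1, nat_lit 0, nat_lit 0xc2b4a3, nat_lit 0x3615a5, [], [], []⟩) (.leaf ⟨nat_lit 1, nat_lit 10, nat_lit 12, nat_lit 0x111c58f22c83, nat_lit 0x239b0839d1, nat_lit 0xa56f7c4ae, [], [], []⟩)) (.leaf ⟨nat_lit 1, nat_lit 10, nat_lit 10, nat_lit 0x6ac8a691c9, nat_lit 0x116c639a3, nat_lit 0x7c56e640e5, [], [], []⟩))) (.node (.node (.node (.leaf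 ⟨nat_lit 0, nat_lit 1, nat_lit 1, nat_lit 0, nat_lit 0x23e2778a24, nat_lit 0xf18aa2d, [], [], []⟩) (.leaf ⟨nat_lit 1, nat_lit 11, nat_lit 10, nat_lit 0x3ae0874109, nat_lit 0x11a2c730d0, nat_lit 0x4f834eb5b861, [], [], []⟩)) (.leaf ⟨nat_lit 1, nat_lit 10, nat_lit 10, nat_lit 0x4a9cb2a9f1, nat_lit 0x25ba268b221, nat_lit 0x16a5ea444a2, [], [], []⟩)) (.node (.node (.leaf ⟨nat_lit 2, nat_lit 0, nat_lit 0, nat_lit 0x43a0b7c586, nat_lit 0, nat_lit 0, [], [], [nat_lit 69667, nat_lit 0x291e982ca3, nat_lit 130]⟩) (.leaf ⟨nat_lit 1, nat_lit 10, nat_lit 14, nat_lit 0x7950d731e3, nat_lit 0x1d9058962, nat_lit 0x2729cb21a02, [], [], []⟩)) (.leaf ⟨nat_lit 1, nat_lit 10, nat_lit 10, nat_lit 0x43d042c12a, nat_lit 0x90a68b0ef, nat_lit 0x21d41834e5, [], [], []⟩)))) (.node (.node (.node (.node (.leaf ⟨nat_lit 0, nat_lit 1, nat_lit 1, nat_lit 0, nat_lit 0x2d2c7a82c,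 nat_lit 0x454b526, [], [], []⟩) (.leaf ⟨nat_lit 1, nat_lit 10, nat_lit 10, nat_lit 0xde5535f0, nat_lit 0x790d0731ce, nat_lit 0x17c5ea6c121, [], [], []⟩)) (.leaf ⟨nat_lit 1, nat_lit 10, nat_lit 10, nat_lit 0x29ea8b9c9, nat_lit 0x2bdb070d83, nat_lit 0xb16d8a22a, [], [], []⟩)) (.node (.node (.leaf ⟨nat_lit 2, nat_lit 0, nat_lit 0, nat_lit 0x1356e50982, nat_lit 0, nat_lit 0, [], [], [nat_lit 0x5102a51041, nat_lit 0xd86540a1, nat_lit 4]⟩) (.leaf ⟨nat_lit 1, nat_lit 14, nat_lit 9, nat_lit 0x90180a08, nat_lit 0x13cb02b983, nat_lit 0x1515458208b, [], [], []⟩)) (.leaf ⟨nat_lit 1, nat_lit 10, nat_lit 10, nat_lit 0x44aa4344d, nat_lit 0x7bceb6ada1, nat_lit 0x3163172ce3, [], [], []⟩))) (.node (.node (.node (.leaf ⟨nat_lit 0, nat_lit 1, nat_lit 1, nat_lit 0, nat_lit 0x1320689162, nat_lit 0x4ac82e10, [], [], []⟩) (.leaf ⟨nat_lit 1, nat_lit 12, nat_lit 10,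 nat_lit 0x141d7038e01, nat_lit 0x1a1b07322f, nat_lit 0x728d168de3, [], [], []⟩)) (.leaf ⟨nat_lit 1, nat_lit 10, nat_lit 10, nat_lit 0x24c62f7ade2, nat_lit 0x1829498b061, nat_lit 0x15b1487ada7, [], [], []⟩)) (.node (.leaf ⟨nat_lit 1, nat_lit 9, nat_lit 10, nat_lit 0xf1b96d5b222, nat_lit 0x4c4ae745eb, nat_lit 0x6c54f4c564, [], [], []⟩) (.leaf ⟨nat_lit 1, nat_lit 10, nat_lit 10, nat_lit 0x16218972a21, nat_lit 0x29eb840a8, nat_lit 0x11a257c42e, [], [], []⟩))))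

noncomputable def F15 : GT Fa := .node (.node (.node (.node (.node (.leaf ⟨nat_lit 0, nat_lit 1, nat_lit 1, nat_lit 0, nat_lit 97, nat_lit 35, [], [], []⟩) (.leaf ⟨nat_lit 1, nat_lit 10, nat_lit 10, nat_lit 0x1a9cc50e0c, nat_lit 0x26691ef82043, nat_lit 0x38668a8c7, [], [], []⟩)) (.leaf ⟨nat_lit 1, nat_lit 10, nat_lit 10, nat_lit 0x3c14683a01, nat_lit 0x4355053ca1, nat_lit 0x6a60d1c485, [], [], []⟩)) (.node (.node (.leaf ⟨nat_lit 0, nat_lit 1, nat_lit 1, nat_lit 0, nat_lit 0x539228aa02, nat_lit 0x30aa12da5, [], [], []⟩) (.leaf ⟨nat_lit 1, nat_lit 12, nat_lit 10, nat_lit 0x8416b4c12e, nat_lit 0x63de82b941, nat_lit 0x5c0cb590a1, [], [], []⟩)) (.leaf ⟨nat_lit 1, nat_lit 10, nat_lit 10, nat_lit 0x1135458b221, nat_lit 0x14b46d4b542, nat_lit 0xb98a13de1, [], [], []⟩))) (.node (.node (.node (.leaf ⟨nat_lit 0, nat_lit 1, nat_lit 1, nat_lit 0, nat_lit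 0xf2b921, nat_lit 0x22361625, [], [], []⟩) (.leaf ⟨nat_lit 1, nat_lit 9, nat_lit 11, nat_lit 0x18058f445e8, nat_lit 0x20d8c62e21, nat_lit 0x222c6c5318e, [], [], []⟩)) (.leaf ⟨nat_lit 1, nat_lit 10, nat_lit 10, nat_lit 0x18a8ed78e21, nat_lit 0x1148b89dca, nat_lit 0x19e0d6a90a, [], [], []⟩)) (.node (.node (.leaf ⟨nat_lit 2, nat_lit 0, nat_lit 0, nat_lit 68, nat_lit 0, nat_lit 0, [], [], [nat_lit 0x291e982ca3, nat_lit 130, nat_lit 0x3b2297ae2f]⟩) (.leaf ⟨nat_lit 1, nat_lit 10, nat_lit 14, nat_lit 0x8b1e82a9cd, nat_lit 0x6be0c71590, nat_lit 0x27c20e6b8e2, [], [], []⟩)) (.leaf ⟨nat_lit 1, nat_lit 10, nat_lit 10, nat_lit 0x42e0a50e03, nat_lit 0x20a1847b121, nat_lit 0x4b1c36b602, [], [], []⟩)))) (.node (.node (.node (.node (.leaf ⟨nat_lit 0, nat_lit 1, nat_lit 1, nat_lit 0, nat_lit 0x9795c9, nat_lit 0x22288db0, [], [], []⟩) (.leaf ⟨nat_lit 1, nat_lit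 10, nat_lit 10, nat_lit 0x32d6b719c8, nat_lit 0x12320b13181, nat_lit 0x33e0f5414c, [], [], []⟩)) (.leaf ⟨nat_lit 1, nat_lit 10, nat_lit 10, nat_lit 0x8bc2c43dec, nat_lit 0x539ce43cb1, nat_lit 0x13c56f78605, [], [], []⟩)) (.node (.node (.leaf ⟨nat_lit 2, nat_lit 0, nat_lit 0, nat_lit 0x5048a51043, nat_lit 0, nat_lit 0, [], [], [nat_lit 0xd86540a1, nat_lit 4, nat_lit 0x4aa10331cb]⟩) (.leaf ⟨nat_lit 1, nat_lit 9, nat_lit 14, nat_lit 0x44585540e3, nat_lit 0x7639a26acc2, nat_lit 0x2889cd1b5c1, [], [], []⟩)) (.leaf ⟨nat_lit 1, nat_lit 10, nat_lit 10, nat_lit 0x20a9c48b562, nat_lit 0x989631d0, nat_lit 0x23b4902258f, [], [], []⟩))) (.node (.node (.node (.leaf ⟨nat_lit 0, nat_lit 1, nat_lit 1, nat_lit 0, nat_lit 0x14f18aa2d, nat_lit 0x145ab3a9eb, [], [], []⟩) (.leaf ⟨nat_lit 1, nat_lit 10, nat_lit 12, nat_lit 0xf5b49082182, nat_lit 0x238d1541a1, nat_lit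 0x12161058c8f, [], [], []⟩)) (.leaf ⟨nat_lit 1, nat_lit 10, nat_lit 10, nat_lit 0x35adc9829e2, nat_lit 0x5bd03630e3, nat_lit 0x6a5a66ba08, [], [], []⟩)) (.node (.leaf ⟨nat_lit 1, nat_lit 10, nat_lit 10, nat_lit 0x53d4c8a903, nat_lit 0x11446b9ca, nat_lit 0x12c8b83223, [], [], []⟩) (.leaf ⟨nat_lit 1, nat_lit 10, nat_lit 10, nat_lit 0x7a8cd585a2, nat_lit 0x1994e7360f, nat_lit 0x34478196f, [], [], []⟩))))

noncomputable def F16 : GT Fa := .node (.node (.node (.node (.node (.leaf ⟨nat_lit 1, nat_lit 1, nat_lit 2, nat_lit 4196, nat_lit 0, nat_lit 0, [], [], []⟩) (.leaf ⟨nat_lit 1, nat_lit 10, nat_lit 10, nat_lit 0x59d4e2ad63, nat_lit 0x32b14e58dc2, nat_lit 0x78d512c5ec, [], [], []⟩)) (.leaf ⟨nat_lit 1, nat_lit 10, nat_lit 9, nat_lit 0x6b9a82414a, nat_lit 0x22bdec8b1e6, nat_lit 0xb42d7360a, [], [], []⟩)) (.node (.node (.leaf ⟨nat_lit 0, nat_lit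 1, nat_lit 1, nat_lit 0, nat_lit 0x31eb79d62, nat_lit 0x121a462a06, [], [], []⟩) (.leaf ⟨nat_lit 1, nat_lit 12, nat_lit 12, nat_lit 0x72990528cb, nat_lit 0x208e23cc1, nat_lit 0x123e2d6b9cb, [], [], []⟩)) (.leaf ⟨nat_lit 1, nat_lit 10, nat_lit 10, nat_lit 0x68b5516a441, nat_lit 0x721ad41182, nat_lit 0x27a1828b064, [], [], []⟩))) (.node (.node (.node (.leaf ⟨nat_lit 0, nat_lit 1, nat_lit 1, nat_lit 0, nat_lit 0x225824a3, nat_lit 0x46c2912b, [], [], []⟩) (.leaf ⟨nat_lit 1, nat_lit 10, nat_lit 11, nat_lit 0x88a39208, nat_lit 0x7b10c8ac4f, nat_lit 0x8198f7c16e, [], [], []⟩)) (.leaf ⟨nat_lit 1, nat_lit 10, nat_lit 10, nat_lit 0x1e3144590, nat_lit 0x79dec2a090, nat_lit 0x59cd1595a2, [], [], []⟩)) (.node (.node (.leaf ⟨nat_lit 2, nat_lit 0, nat_lit 0, nat_lit 0x291e982ca1, nat_lit 0, nat_lit 0, [], [], [nat_lit 130, nat_lit 0x3b2297ae2f, nat_lit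 69667]⟩) (.leaf ⟨nat_lit 1, nat_lit 10, nat_lit 14, nat_lit 0xb2ba2d70621, nat_lit 0x3a908135a1, nat_lit 0x2c46c42a04, [], [], []⟩)) (.leaf ⟨nat_lit 1, nat_lit 10, nat_lit 10, nat_lit 0x1215123941, nat_lit 0x282da353221, nat_lit 0x5b18e63921, [], [], []⟩)))) (.node (.node (.node (.node (.leaf ⟨nat_lit 0, nat_lit 1, nat_lit 1, nat_lit 0, nat_lit 0x20ec609a2, nat_lit 0x2b0c56a0e3, [], [], []⟩) (.leaf ⟨nat_lit 1, nat_lit 10, nat_lit 10, nat_lit 0x2619cd5056e, nat_lit 0x189e0d69961, nat_lit 0x3e2571d51, [], [], []⟩)) (.leaf ⟨nat_lit 1, nat_lit 10, nat_lit 10, nat_lit 0x8b9c483207, nat_lit 0x450a241cc, nat_lit 0x791468a5a1, [], [], []⟩)) (.node (.node (.leaf ⟨nat_lit 2, nat_lit 0, nat_lit 0, nat_lit 0x191836256d, nat_lit 0, nat_lit 0, [], [], [nat_lit 4131, nat_lit 0x58ad0d, nat_lit 0x43c1c48ace2]⟩) (.leaf ⟨nat_lit 1, nat_lit 10, nat_lit 14, nat_lit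 0xbe3169c2e, nat_lit 0x6b9302c5c2, nat_lit 0x1744c5528c1, [], [], []⟩)) (.leaf ⟨nat_lit 1, nat_lit 10, nat_lit 10, nat_lit 0x1530a63ac62, nat_lit 0x115915a1ed, nat_lit 0x12bd8f429c2, [], [], []⟩))) (.node (.node (.node (.leaf ⟨nat_lit 0, nat_lit 1, nat_lit 1, nat_lit 0, nat_lit 0x344d1544e2, nat_lit 0x1284e3c48e, [], [], []⟩) (.leaf ⟨nat_lit 1, nat_lit 9, nat_lit 12, nat_lit 0xa4891a3, nat_lit 0x5056b70a28, nat_lit 0x5056c52921, [], [], []⟩)) (.leaf ⟨nat_lit 1, nat_lit 10, nat_lit 10, nat_lit 0x872d867a942, nat_lit 0x8b16e82924, nat_lit 0x20c1cd50541, [], [], []⟩)) (.node (.leaf ⟨nat_lit 1, nat_lit 10, nat_lit 9, nat_lit 0x5b2317360e, nat_lit 0x458e0e33d61, nat_lit 0x6ac658c5ad, [], [], []⟩) (.leaf ⟨nat_lit 1, nat_lit 10, nat_lit 10, nat_lit 0x4c4710aa31, nat_lit 0x6314e83d46, nat_lit 0x13caa834a2, [], [], []⟩))))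

noncomputable def F17 : GT Fa := .node (.node (.node (.node (.node (.leaf ⟨nat_lit 1, nat_lit 1, nat_lit 3, nat_lit 0x20c8219022, nat_lit 0, nat_lit 0, [], [], []⟩) (.leaf ⟨nat_lit 1, nat_lit 10, nat_lit 10, nat_lit 0x1b50d6ad65, nat_lit 0x591ae8862a, nat_lit 0x954f6398c, [], [], []⟩)) (.leaf ⟨nat_lit 1, nat_lit 7, nat_lit 10, nat_lit 0x32d6f7858a, nat_lit 0xd5a1916ba02, nat_lit 0x68dcb7452c, [], [], []⟩)) (.node (.node (.leaf ⟨nat_lit 0, nat_lit 1, nat_lit 1, nat_lit 0, nat_lit 0x221f1245c1, nat_lit 0x95905c209, [], [], []⟩) (.leaf ⟨nat_lit 1, nat_lit 12, nat_lit 10, nat_lit 0x223dec834f0, nat_lit 0x829dd17bd82, nat_lit 0x267b5c44b961, [], [], []⟩)) (.leaf ⟨nat_lit 1, nat_lit 10, nat_lit 10, nat_lit 0x542068ae28, nat_lit 0xa840c25b4c1, nat_lit 0x6c1086c1c7, [], [], []⟩))) (.node (.node (.node (.leaf ⟨nat_lit 0, nat_lit 1, nat_lit 1, nat_lit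 0, nat_lit 0x158c2c4e6, nat_lit 0x18311606, [], [], []⟩) (.leaf ⟨nat_lit 1, nat_lit 10, nat_lit 11, nat_lit 0x690d161e07, nat_lit 0x6b56170a02, nat_lit 0x4c591745c5, [], [], []⟩)) (.leaf ⟨nat_lit 1, nat_lit 10, nat_lit 10, nat_lit 0xdab80629, nat_lit 0x1c20d0c1a2, nat_lit 0x16a16783542, [], [], []⟩)) (.node (.node (.leaf ⟨nat_lit 2, nat_lit 0, nat_lit 0, nat_lit 0x20861, nat_lit 0, nat_lit 0, [], [], [nat_lit 0x7414e3c1a9, nat_lit 69667, nat_lit 0x2b5c38a570]⟩) (.leaf ⟨nat_lit 1, nat_lit 10, nat_lit 14, nat_lit 0x64204611e6, nat_lit 0x7a5eb6b822, nat_lit 0x2529c98ba0d, [], [], []⟩)) (.leaf ⟨nat_lit 1, nat_lit 9, nat_lit 10, nat_lit 0x2a16c828b0, nat_lit 0x141af2b605, nat_lit 0x17c16883964, [], [], []⟩)))) (.node (.node (.node (.node (.leaf ⟨nat_lit 0, nat_lit 1, nat_lit 1, nat_lit 0, nat_lit 0x105795c6, nat_lit 0x15862b503, [], [], []⟩) (.leaf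 ⟨nat_lit 1, nat_lit 10, nat_lit 10, nat_lit 0x28c55262e, nat_lit 0xb7354e8ba21, nat_lit 0x1322f530d0, [], [], []⟩)) (.leaf ⟨nat_lit 1, nat_lit 10, nat_lit 10, nat_lit 0x95300acac, nat_lit 0x22b5a259d81, nat_lit 0x2828af33183, [], [], []⟩)) (.node (.node (.leaf ⟨nat_lit 2, nat_lit 0, nat_lit 0, nat_lit 4, nat_lit 0, nat_lit 0, [], [], [nat_lit 0x58ad0d, nat_lit 0x43c1c48ace2, nat_lit 0x53da88c567]⟩) (.leaf ⟨nat_lit 1, nat_lit 14, nat_lit 9, nat_lit 0x303168601, nat_lit 0x5250b74105, nat_lit 0x35e45b1f0, [], [], []⟩)) (.leaf ⟨nat_lit 1, nat_lit 10, nat_lit 10, nat_lit 0x25be2471181, nat_lit 0x406a8292a, nat_lit 0x1612247aa25, [], [], []⟩))) (.node (.node (.node (.leaf ⟨nat_lit 0, nat_lit 1, nat_lit 1, nat_lit 0, nat_lit 0x20c1f0, nat_lit 0x2c051, [], [], []⟩) (.leaf ⟨nat_lit 1, nat_lit 10, nat_lit 12, nat_lit 0x4c5c471a22, nat_lit 0x161a0e5202c,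 nat_lit 0x1322e64583, [], [], []⟩)) (.leaf ⟨nat_lit 1, nat_lit 9, nat_lit 10, nat_lit 0x515ec241ab, nat_lit 0x5318c8a8c1, nat_lit 0x5198e83c22, [], [], []⟩)) (.node (.leaf ⟨nat_lit 1, nat_lit 10, nat_lit 9, nat_lit 0x1c58f3a981, nat_lit 0x15c1b05b5e2, nat_lit 0x29b069db1, [], [], []⟩) (.leaf ⟨nat_lit 1, nat_lit 10, nat_lit 10, nat_lit 0x11b50e72602, nat_lit 0x4c5f03b982, nat_lit 0x115e56aa0c, [], [], []⟩))))

noncomputable def F18 : GT Fa := .node (.node (.node (.node (.node (.leaf ⟨nat_lit 0, nat_lit 3, nat_lit 3, nat_lit 0, nat_lit 1, nat_lit 35, [], [], []⟩) (.leaf ⟨nat_lit 1, nat_lit 10, nat_lit 10, nat_lit 0x11954a31181, nat_lit 0x94ec83925, nat_lit 0x1b1716222d, [], [], []⟩)) (.leaf ⟨nat_lit 1, nat_lit 10, nat_lit 9, nat_lit 0xa94e599e7, nat_lit 0x19d827c16f, nat_lit 0x416780d10, [], [], []⟩)) (.node (.node (.leaf ⟨nat_lit 0, nat_lit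 1, nat_lit 1, nat_lit 0, nat_lit 0xaf2b921, nat_lit 0x111b0b1, [], [], []⟩) (.leaf ⟨nat_lit 1, nat_lit 12, nat_lit 12, nat_lit 0x3a9d139482, nat_lit 0x44318c13d41, nat_lit 0xb9718b4c7, [], [], []⟩)) (.leaf ⟨nat_lit 1, nat_lit 10, nat_lit 10, nat_lit 0x219506b98c, nat_lit 0xa610621e4, nat_lit 0x1b06f5be27, [], [], []⟩))) (.node (.node (.node (.leaf ⟨nat_lit 0, nat_lit 1, nat_lit 1, nat_lit 0, nat_lit 0x431282a1a1, nat_lit 0x1c5821b8a2, [], [], []⟩) (.leaf ⟨nat_lit 1, nat_lit 11, nat_lit 9, nat_lit 0x44c5ce64102, nat_lit 0x63e28415cb, nat_lit 0x7a5915a204, [], [], []⟩)) (.leaf ⟨nat_lit 1, nat_lit 10, nat_lit 10, nat_lit 0x240ee5ba25, nat_lit 0x1c48f6b5cc, nat_lit 0x70ccf614c4, [], [], []⟩)) (.node (.node (.leaf ⟨nat_lit 2, nat_lit 0, nat_lit 0, nat_lit 0x429d054147, nat_lit 0, nat_lit 0, [], [], [nat_lit 69667, nat_lit 0x2b5c38a570, nat_lit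 130]⟩) (.leaf ⟨nat_lit 1, nat_lit 12, nat_lit 14, nat_lit 0x10c4b5adea, nat_lit 0x5ae23490, nat_lit 0x129da48c5c7, [], [], []⟩)) (.leaf ⟨nat_lit 1, nat_lit 10, nat_lit 10, nat_lit 0x3835a91c422, nat_lit 0x740c18b422, nat_lit 0x10195907a1e1, [], [], []⟩)))) (.node (.node (.node (.node (.leaf ⟨nat_lit 0, nat_lit 1, nat_lit 1, nat_lit 0, nat_lit 0x5416c54501, nat_lit 0xc423639c8, [], [], []⟩) (.leaf ⟨nat_lit 1, nat_lit 10, nat_lit 10, nat_lit 0x445e37b1e9, nat_lit 0x454d71944, nat_lit 0x263c8e64581, [], [], []⟩)) (.leaf ⟨nat_lit 1, nat_lit 10, nat_lit 10, nat_lit 0x3a0f62d65, nat_lit 0x22a94e531d0, nat_lit 0x23b1857918b, [], [], []⟩)) (.node (.node (.leaf ⟨nat_lit 2, nat_lit 0, nat_lit 0, nat_lit 0x4b15a1a3, nat_lit 0, nat_lit 0, [], [], [nat_lit 0x43c1c48ace2, nat_lit 0x53da88c567, nat_lit 4131]⟩) (.leaf ⟨nat_lit 1, nat_lit 10, nat_lit 14,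 nat_lit 0x6394a71882, nat_lit 0x1245a471461, nat_lit 0x2595a370a2d, [], [], []⟩)) (.leaf ⟨nat_lit 1, nat_lit 10, nat_lit 10, nat_lit 0x6160d8288e, nat_lit 0xa79c8c3aa02, nat_lit 0x9465b9a8, [], [], []⟩))) (.node (.node (.node (.leaf ⟨nat_lit 0, nat_lit 1, nat_lit 1, nat_lit 0, nat_lit 0x608b1721f0, nat_lit 0x18b1a8ad, [], [], []⟩) (.leaf ⟨nat_lit 1, nat_lit 10, nat_lit 12, nat_lit 0x312cab2b5c1, nat_lit 0xc82e2c88a21, nat_lit 0x58daf5a5f0, [], [], []⟩)) (.leaf ⟨nat_lit 1, nat_lit 10, nat_lit 10, nat_lit 0x243961825e1, nat_lit 0xbc2a7a9c8, nat_lit 0x253e2a521e5, [], [], []⟩)) (.node (.leaf ⟨nat_lit 1, nat_lit 9, nat_lit 10, nat_lit 0x561d4f829c1, nat_lit 0x20b22c599e2, nat_lit 0x53967728ec, [], [], []⟩) (.leaf ⟨nat_lit 1, nat_lit 10, nat_lit 10, nat_lit 0x4a94e1342b, nat_lit 0x215c45b4ea, nat_lit 0x233d9073167, [], [], []⟩))))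

noncomputable def F19 : GT Fa := .node (.node (.node (.node (.node (.leaf ⟨nat_lit 1, nat_lit 1, nat_lit 4, nat_lit 0x2086408864, nat_lit 0, nat_lit 0, [], [], []⟩) (.leaf ⟨nat_lit 1, nat_lit 10, nat_lit 9, nat_lit 0xb8b62b415c2, nat_lit 0xc4ad8b10f, nat_lit 0x2821ec5ac41, [], [], []⟩)) (.leaf ⟨nat_lit 1, nat_lit 9, nat_lit 10, nat_lit 0x105468b430, nat_lit 0x541905862c, nat_lit 0x1639b171cc1, [], [], []⟩)) (.node (.node (.leaf ⟨nat_lit 0, nat_lit 1, nat_lit 1, nat_lit 0, nat_lit 0x31a2b68c81, nat_lit 0xf7b42d, [], [], []⟩) (.leaf ⟨nat_lit 1, nat_lit 12, nat_lit 10, nat_lit 0x388e835d0, nat_lit 0x6220f51142, nat_lit 0x5292f2a0e4, [], [], []⟩)) (.leaf ⟨nat_lit 1, nat_lit 10, nat_lit 10, nat_lit 0x35055c561, nat_lit 0x62e036c1c9, nat_lit 0x264148695c1, [], [], []⟩))) (.node (.node (.node (.leaf ⟨nat_lit 0, nat_lit 1, nat_lit 1, nat_lit 0,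 nat_lit 97, nat_lit 35, [], [], []⟩) (.leaf ⟨nat_lit 1, nat_lit 11, nat_lit 11, nat_lit 0x7448f89a26, nat_lit 0x6b94d89022, nat_lit 0x11ac8e5bcb1, [], [], []⟩)) (.leaf ⟨nat_lit 1, nat_lit 10, nat_lit 10, nat_lit 0x3b94f2a902, nat_lit 0x24be0a8b122, nat_lit 0x1ba2261d91, [], [], []⟩)) (.node (.node (.leaf ⟨nat_lit 2, nat_lit 0, nat_lit 0, nat_lit 68, nat_lit 0, nat_lit 0, [], [], [nat_lit 0x2b5c38a570, nat_lit 130, nat_lit 0x7414e3c1a9]⟩) (.leaf ⟨nat_lit 1, nat_lit 10, nat_lit 14, nat_lit 0x113e2a6b981, nat_lit 0x264531625d1, nat_lit 0x5260b6c20c, [], [], []⟩)) (.leaf ⟨nat_lit 1, nat_lit 10, nat_lit 10, nat_lit 0xb0b22b28a21, nat_lit 0x1291023989, nat_lit 0x21e4538c2, [], [], []⟩)))) (.node (.node (.node (.node (.leaf ⟨nat_lit 0, nat_lit 1, nat_lit 1, nat_lit 0, nat_lit 0x1f01bc62, nat_lit 0x5e66392e, [], [], []⟩) (.leaf ⟨nat_lit 1, nat_lit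 10, nat_lit 10, nat_lit 0x72d8a38862, nat_lit 0x1115ca62982, nat_lit 0x5c08c29e0a, [], [], []⟩)) (.leaf ⟨nat_lit 1, nat_lit 10, nat_lit 10, nat_lit 0x1618ad53d81, nat_lit 0x101b50b69481, nat_lit 0x2241e668621, [], [], []⟩)) (.node (.node (.leaf ⟨nat_lit 2, nat_lit 0, nat_lit 0, nat_lit 0x1888b5902b, nat_lit 0, nat_lit 0, [], [], [nat_lit 0x53da88c567, nat_lit 4131, nat_lit 0x58ad0d]⟩) (.leaf ⟨nat_lit 1, nat_lit 9, nat_lit 14, nat_lit 0x9792036c182, nat_lit 0x11b13072422, nat_lit 0x7be2f21625, [], [], []⟩)) (.leaf ⟨nat_lit 1, nat_lit 10, nat_lit 10, nat_lit 0x2621eb719c2, nat_lit 0x2ac8568e21, nat_lit 0x181dad6c1ea, [], [], []⟩))) (.node (.node (.node (.leaf ⟨nat_lit 0, nat_lit 1, nat_lit 1, nat_lit 0, nat_lit 0x28b5e373521, nat_lit 0x44c22da6, [], [], []⟩) (.leaf ⟨nat_lit 1, nat_lit 10, nat_lit 12, nat_lit 0x1110ac7a589, nat_lit 0x9538ab5b081,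 nat_lit 0x6a8466304f, [], [], []⟩)) (.leaf ⟨nat_lit 1, nat_lit 7, nat_lit 10, nat_lit 0x4183230ad, nat_lit 0x91e64bdef, nat_lit 0x5605ec14461, [], [], []⟩)) (.node (.leaf ⟨nat_lit 1, nat_lit 10, nat_lit 10, nat_lit 0x1629e55b861, nat_lit 0x5b5cc72903, nat_lit 0x5154e431e3, [], [], []⟩) (.leaf ⟨nat_lit 1, nat_lit 10, nat_lit 10, nat_lit 0x5194d7060f, nat_lit 0x7bd862bd82, nat_lit 0x6a9e542c61, [], [], []⟩))))

noncomputable def F20 : GT Fa := .node (.node (.node (.node (.node (.leaf ⟨nat_lit 0, nat_lit 4, nat_lit 4, nat_lit 0, nat_lit 97, nat_lit 1, [], [], []⟩) (.leaf ⟨nat_lit 1, nat_lit 10, nat_lit 10, nat_lit 0x88ded4a861, nat_lit 0x553d86838c2, nat_lit 0x1645c868441, [], [], []⟩)) (.leaf ⟨nat_lit 1, nat_lit 10, nat_lit 9, nat_lit 0x6c5ca69568, nat_lit 0x52942595c3, nat_lit 0x4c568734b1, [], [], []⟩)) (.node (.node (.leaf ⟨nat_lit 0, nat_lit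 1, nat_lit 1, nat_lit 0, nat_lit 0x3b1e51c5a1, nat_lit 0x1ef685a5, [], [], []⟩) (.leaf ⟨nat_lit 1, nat_lit 10, nat_lit 12, nat_lit 0xc63d628b982, nat_lit 0x1ba24719cd, nat_lit 0x1189d06962d, [], [], []⟩)) (.leaf ⟨nat_lit 1, nat_lit 10, nat_lit 10, nat_lit 0x45895be07, nat_lit 0x4c58789983, nat_lit 0x25bdf13ad63, [], [], []⟩))) (.node (.node (.node (.leaf ⟨nat_lit 0, nat_lit 1, nat_lit 1, nat_lit 0, nat_lit 0x6298658562, nat_lit 0xb04f415c5, [], [], []⟩) (.leaf ⟨nat_lit 1, nat_lit 11, nat_lit 10, nat_lit 0xc5ad714c7, nat_lit 0x4c54863991, nat_lit 0x13c18c4bca2, [], [], []⟩)) (.leaf ⟨nat_lit 1, nat_lit 8, nat_lit 10, nat_lit 0x23a1c363e01, nat_lit 0x263a0e2ba22, nat_lit 0x18a9e82b981, [], [], []⟩)) (.node (.node (.leaf ⟨nat_lit 2, nat_lit 0, nat_lit 0, nat_lit 0x95513b885, nat_lit 0, nat_lit 0, [], [], [nat_lit 130, nat_lit 0x7414e3c1a9, nat_lit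 69667]⟩) (.leaf ⟨nat_lit 1, nat_lit 10, nat_lit 14, nat_lit 0x8a18723162, nat_lit 0x2456f13e28, nat_lit 0x161148630c3, [], [], []⟩)) (.leaf ⟨nat_lit 1, nat_lit 10, nat_lit 9, nat_lit 0x1821518bcc2, nat_lit 0x2a1ef5a5a4, nat_lit 0x8b48d8b16f, [], [], []⟩)))) (.node (.node (.node (.node (.leaf ⟨nat_lit 0, nat_lit 1, nat_lit 1, nat_lit 0, nat_lit 0x2830538c2, nat_lit 0x4be04341c4, [], [], []⟩) (.leaf ⟨nat_lit 1, nat_lit 10, nat_lit 10, nat_lit 0x6c51170d42, nat_lit 0x305856e89482, nat_lit 0x8890f8118e, [], [], []⟩)) (.leaf ⟨nat_lit 1, nat_lit 10, nat_lit 10, nat_lit 0x2a8ec6056b, nat_lit 0x1354c1bdae, nat_lit 0x25bd8f7a043, [], [], []⟩)) (.node (.node (.leaf ⟨nat_lit 1, nat_lit 6, nat_lit 6, nat_lit 0x13206285c1, nat_lit 0x47b56c2ad82, nat_lit 0x26922559443, [], [], []⟩) (.leaf ⟨nat_lit 1, nat_lit 14, nat_lit 9, nat_lit 0xa84f78e10, nat_lit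 0x15f023606, nat_lit 0xbe2854502, [], [], []⟩)) (.leaf ⟨nat_lit 1, nat_lit 10, nat_lit 10, nat_lit 0x8b1e21bc22, nat_lit 0x5118182541, nat_lit 0x18a065a1ad, [], [], []⟩))) (.node (.node (.node (.leaf ⟨nat_lit 0, nat_lit 1, nat_lit 1, nat_lit 0, nat_lit 0x4c4ae8a422, nat_lit 0x105ca2a1a4, [], [], []⟩) (.leaf ⟨nat_lit 1, nat_lit 10, nat_lit 12, nat_lit 0x5b54e13551, nat_lit 0x3135af7a0a2, nat_lit 0x221d8b7bde1, [], [], []⟩)) (.leaf ⟨nat_lit 1, nat_lit 10, nat_lit 10, nat_lit 0x396e2c12b, nat_lit 0x22e03835ed, nat_lit 0x22607828a1, [], [], []⟩)) (.node (.leaf ⟨nat_lit 1, nat_lit 10, nat_lit 10, nat_lit 0x8ac8a63962, nat_lit 0x3444c83508, nat_lit 0xbccd21621, [], [], []⟩) (.leaf ⟨nat_lit 1, nat_lit 10, nat_lit 10, nat_lit 0xa9d16ada7, nat_lit 0x7ade3615ed, nat_lit 0x14260c8c48f, [], [], []⟩))))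

noncomputable def F21 : GT Fa := .node (.node (.node (.node (.node (.leaf ⟨nat_lit 0, nat_lit 4, nat_lit 4, nat_lit 0, nat_lit 0x510c22, nat_lit 3, [], [], []⟩) (.leaf ⟨nat_lit 1, nat_lit 10, nat_lit 10, nat_lit 0x3b5e289549, nat_lit 0x225cd539aa, nat_lit 0x22b1cc8916e, [], [], []⟩)) (.leaf ⟨nat_lit 1, nat_lit 10, nat_lit 7, nat_lit 0x4a82c3b201, nat_lit 0x18254d6a9c1, nat_lit 0x5c48c4bd49, [], [], []⟩)) (.node (.node (.leaf ⟨nat_lit 0, nat_lit 1, nat_lit 1, nat_lit 0, nat_lit 0x7c09071883, nat_lit 0xbe097a205, [], [], []⟩) (.leaf ⟨nat_lit 1, nat_lit 12, nat_lit 10, nat_lit 0x41e265c102, nat_lit 0x7388e81e0c, nat_lit 0x1be2e6c147, [], [], []⟩)) (.leaf ⟨nat_lit 1, nat_lit 10, nat_lit 10, nat_lit 0x1318e541c8, nat_lit 0x240ab63169, nat_lit 0x2734c7734a3, [], [], []⟩))) (.node (.node (.node (.leaf ⟨nat_lit 0, nat_lit 1, nat_lit 1, nat_lit 0,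 nat_lit 0x1b1c28adc2, nat_lit 0x5827a0ae, [], [], []⟩) (.leaf ⟨nat_lit 1, nat_lit 9, nat_lit 11, nat_lit 0xb94f6b609, nat_lit 0x11e163c2e, nat_lit 0x104b022103, [], [], []⟩)) (.leaf ⟨nat_lit 1, nat_lit 10, nat_lit 10, nat_lit 0x7b0ab5bc8f, nat_lit 0x25821b00b562, nat_lit 0x11b5cd4c4e1, [], [], []⟩)) (.node (.node (.leaf ⟨nat_lit 1, nat_lit 7, nat_lit 9, nat_lit 0x7a94f81da2, nat_lit 0x394c309e3, nat_lit 0x1314a29191, [], [], []⟩) (.leaf ⟨nat_lit 1, nat_lit 14, nat_lit 14, nat_lit 0x17b18a24110, nat_lit 0x1d6428862, nat_lit 0x16a9ea1444d, [], [], []⟩)) (.leaf ⟨nat_lit 1, nat_lit 10, nat_lit 10, nat_lit 0xc6296b949, nat_lit 0x5352a131e1, nat_lit 0x27c144841a2, [], [], []⟩)))) (.node (.node (.node (.node (.leaf ⟨nat_lit 0, nat_lit 1, nat_lit 1, nat_lit 0, nat_lit 0x132071b1d0, nat_lit 0xc4c22da6, [], [], []⟩) (.leaf ⟨nat_lit 1, nat_lit 10, nat_lit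 10, nat_lit 0x110c625518c2, nat_lit 0x8b94d68da2, nat_lit 0xb105835ca, [], [], []⟩)) (.leaf ⟨nat_lit 1, nat_lit 10, nat_lit 10, nat_lit 0x68086453e21, nat_lit 0x1c20172985, nat_lit 0x81e10529ea, [], [], []⟩)) (.node (.node (.leaf ⟨nat_lit 1, nat_lit 1, nat_lit 1, nat_lit 0x33a8301c182, nat_lit 0xc4ab28609, nat_lit 0x619875ada1, [], [], []⟩) (.leaf ⟨nat_lit 1, nat_lit 10, nat_lit 14, nat_lit 0x6bda7591a3, nat_lit 0x8098f315c1, nat_lit 0x283da78394c, [], [], []⟩)) (.leaf ⟨nat_lit 1, nat_lit 10, nat_lit 9, nat_lit 0x35204c83601, nat_lit 0x595ce5b10e, nat_lit 0x1731516148d, [], [], []⟩))) (.node (.node (.node (.leaf ⟨nat_lit 0, nat_lit 1, nat_lit 1, nat_lit 0, nat_lit 0x1ea2382d, nat_lit 0x3ded0b523, [], [], []⟩) (.leaf ⟨nat_lit 1, nat_lit 10, nat_lit 12, nat_lit 0x335226ad31, nat_lit 0x13ad6e5b601, nat_lit 0xae247c44c, [], [], []⟩)) (.leaf ⟨nat_lit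 1, nat_lit 10, nat_lit 10, nat_lit 0x432d718a882, nat_lit 0x28144c64561, nat_lit 0x5bdaa61c64, [], [], []⟩)) (.node (.leaf ⟨nat_lit 1, nat_lit 10, nat_lit 9, nat_lit 0x5c56b73624, nat_lit 0x129cd7c171, nat_lit 0x223cf113221, [], [], []⟩) (.leaf ⟨nat_lit 1, nat_lit 10, nat_lit 10, nat_lit 0x7be2d5c06f, nat_lit 0x125ea7b4e4, nat_lit 0x584af54561, [], [], []⟩))))

noncomputable def F22 : GT Fa := .node (.node (.node (.node (.node (.leaf ⟨nat_lit 1, nat_lit 1, nat_lit 5, nat_lit 4, nat_lit 0, nat_lit 0, [], [], []⟩) (.leaf ⟨nat_lit 1, nat_lit 10, nat_lit 10, nat_lit 0x541c62c1aa, nat_lit 0x33e2289141, nat_lit 0x8254e62dc5, [], [], []⟩)) (.leaf ⟨nat_lit 1, nat_lit 10, nat_lit 10, nat_lit 0xd3c62c0b141, nat_lit 0x17ade42b562, nat_lit 0xc62f1c183, [], [], []⟩)) (.node (.node (.leaf ⟨nat_lit 0, nat_lit 1, nat_lit 1, nat_lit 0, nat_lit 0xa830538c2,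 nat_lit 0x1214e884eb, [], [], []⟩) (.leaf ⟨nat_lit 1, nat_lit 12, nat_lit 10, nat_lit 0xa22b1c461, nat_lit 0x5acce5c20b, nat_lit 0x222607544a4, [], [], []⟩)) (.leaf ⟨nat_lit 1, nat_lit 10, nat_lit 10, nat_lit 0x416045282a, nat_lit 0x48c44b88de1, nat_lit 0x5a58e8aded, [], [], []⟩))) (.node (.node (.node (.leaf ⟨nat_lit 0, nat_lit 1, nat_lit 1, nat_lit 0, nat_lit 0x3cd0345c6, nat_lit 0x9de36c5c7, [], [], []⟩) (.leaf ⟨nat_lit 1, nat_lit 10, nat_lit 11, nat_lit 0x17118f1b8e2, nat_lit 0x9e0a7c141, nat_lit 0x8a56f6a90c, [], [], []⟩)) (.leaf ⟨nat_lit 1, nat_lit 10, nat_lit 10, nat_lit 0x141e2c719af, nat_lit 0x53c6163e0e, nat_lit 0x4ea135ad, [], [], []⟩)) (.node (.node (.leaf ⟨nat_lit 1, nat_lit 9, nat_lit 9, nat_lit 0xd8978dc6, nat_lit 0xc2c0b152542, nat_lit 0x11418f53549, [], [], []⟩) (.leaf ⟨nat_lit 1, nat_lit 14, nat_lit 10, nat_lit 0x38ad8871dc1,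 nat_lit 0x2b5a26a203, nat_lit 0x791516916e, [], [], []⟩)) (.leaf ⟨nat_lit 1, nat_lit 10, nat_lit 10, nat_lit 0x5b9ae6c041, nat_lit 0x993032c41, nat_lit 0x19d8c7c5a5, [], [], []⟩)))) (.node (.node (.node (.node (.leaf ⟨nat_lit 0, nat_lit 1, nat_lit 1, nat_lit 0, nat_lit 0x5bd0f53062, nat_lit 0x8a96b911, [], [], []⟩) (.leaf ⟨nat_lit 1, nat_lit 10, nat_lit 10, nat_lit 0x26bde184182, nat_lit 0x1e0c629e2, nat_lit 0x5386e4b524, [], [], []⟩)) (.leaf ⟨nat_lit 1, nat_lit 7, nat_lit 10, nat_lit 0x1539cc83622, nat_lit 0x5bd30839ad, nat_lit 0x4171504d1, [], [], []⟩)) (.node (.node (.leaf ⟨nat_lit 2, nat_lit 0, nat_lit 0, nat_lit 0x3a8300c182, nat_lit 0, nat_lit 0, [], [], [nat_lit 0xb14a4b50d, nat_lit 0x3c42551603]⟩) (.leaf ⟨nat_lit 1, nat_lit 10, nat_lit 14, nat_lit 0x4358d4c63941, nat_lit 0xc7b17122c41, nat_lit 0x30c629202, [], [], []⟩)) (.leaf ⟨nat_lit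 1, nat_lit 8, nat_lit 10, nat_lit 0x5122d83d64, nat_lit 0x283a037c4c2, nat_lit 0x7c5a15b450, [], [], []⟩))) (.node (.node (.node (.leaf ⟨nat_lit 0, nat_lit 1, nat_lit 1, nat_lit 0, nat_lit 0x45218b46e, nat_lit 0x1e218b430, [], [], []⟩) (.leaf ⟨nat_lit 1, nat_lit 10, nat_lit 12, nat_lit 0x308c7314d, nat_lit 0x18acd032d61, nat_lit 0x5b9af60d47, [], [], []⟩)) (.leaf ⟨nat_lit 1, nat_lit 10, nat_lit 10, nat_lit 0x1290e6a60e, nat_lit 0x241b113d31, nat_lit 0x4c4aa5286f, [], [], []⟩)) (.node (.leaf ⟨nat_lit 1, nat_lit 9, nat_lit 10, nat_lit 0x135255b8c1, nat_lit 0x3356678d82, nat_lit 0x4af188c6, [], [], []⟩) (.leaf ⟨nat_lit 1, nat_lit 10, nat_lit 10, nat_lit 0x24b4ee8a0a1, nat_lit 0x262c6d5b561, nat_lit 0x23b5a56ace1, [], [], []⟩))))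

noncomputable def F23 : GT Fa := .node (.node (.node (.node (.node (.leaf ⟨nat_lit 0, nat_lit 5, nat_lit 5, nat_lit 0, nat_lit 1, nat_lit 1, [], [], []⟩) (.leaf ⟨nat_lit 1, nat_lit 10, nat_lit 10, nat_lit 0x5118712db1, nat_lit 0x222d6e891e1, nat_lit 0x22ad645b223, [], [], []⟩)) (.leaf ⟨nat_lit 1, nat_lit 10, nat_lit 10, nat_lit 0xa9d1298a1, nat_lit 0x5c62e51145, nat_lit 0x63d305414a, [], [], []⟩)) (.node (.node (.leaf ⟨nat_lit 0, nat_lit 1, nat_lit 1, nat_lit 0, nat_lit 0x2c5c78b982, nat_lit 0x30ad20d24, [], [], []⟩) (.leaf ⟨nat_lit 1, nat_lit 10, nat_lit 12, nat_lit 0xb6b48e5a062, nat_lit 0x111c5671b9c2, nat_lit 0x110b96f2c561, [], [], []⟩)) (.leaf ⟨nat_lit 1, nat_lit 10, nat_lit 10, nat_lit 0x4260b735cb, nat_lit 0x386e6b962, nat_lit 0x2614ca53822, [], [], []⟩))) (.node (.node (.node (.leaf ⟨nat_lit 0, nat_lit 1, nat_lit 1, nat_lit 0, nat_lit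 0x30ca81481, nat_lit 0x24d12a206, [], [], []⟩) (.leaf ⟨nat_lit 1, nat_lit 10, nat_lit 11, nat_lit 0x6c5918a169, nat_lit 0x4a91189d42, nat_lit 0x5c1d159221, [], [], []⟩)) (.leaf ⟨nat_lit 1, nat_lit 10, nat_lit 10, nat_lit 0xa563840ab, nat_lit 0x3a94a1a84b, nat_lit 0x11ce740c7, [], [], []⟩)) (.node (.node (.leaf ⟨nat_lit 1, nat_lit 9, nat_lit 9, nat_lit 0x61d903b1e8, nat_lit 0xa13deb19221, nat_lit 0x15be09540ed, [], [], []⟩) (.leaf ⟨nat_lit 1, nat_lit 10, nat_lit 14, nat_lit 0x172c2c64481, nat_lit 0x122df128982, nat_lit 0x2ac2d12e02, [], [], []⟩)) (.leaf ⟨nat_lit 1, nat_lit 10, nat_lit 10, nat_lit 0x20b9a764562, nat_lit 0x1bd1054121, nat_lit 0x8a18583162, [], [], []⟩)))) (.node (.node (.node (.node (.leaf ⟨nat_lit 0, nat_lit 1, nat_lit 1, nat_lit 0, nat_lit 0x12f2b923, nat_lit 0x3188db0, [], [], []⟩) (.leaf ⟨nat_lit 1, nat_lit 10, nat_lit 10,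 nat_lit 0x1b1442c146, nat_lit 0x539b0734cb, nat_lit 0x69e021b151, [], [], []⟩)) (.leaf ⟨nat_lit 1, nat_lit 10, nat_lit 10, nat_lit 0x37c4cd720e1, nat_lit 0x260e316992b, nat_lit 0x12452a6bd82, [], [], []⟩)) (.node (.node (.leaf ⟨nat_lit 2, nat_lit 0, nat_lit 0, nat_lit 0x314a4b50d, nat_lit 0, nat_lit 0, [], [], [nat_lit 0x3c42551603, nat_lit 0x33a8301c182]⟩) (.leaf ⟨nat_lit 1, nat_lit 9, nat_lit 14, nat_lit 0x21907948b, nat_lit 0x25346e6ad22, nat_lit 0x1814f05bd4e, [], [], []⟩)) (.leaf ⟨nat_lit 1, nat_lit 10, nat_lit 10, nat_lit 0x1b96e72564, nat_lit 0x1160f1b62a, nat_lit 0x7222f8b122, [], [], []⟩))) (.node (.node (.node (.leaf ⟨nat_lit 0, nat_lit 1, nat_lit 1, nat_lit 0, nat_lit 0x3450e89822, nat_lit 0x322d8b4e2, [], [], []⟩) (.leaf ⟨nat_lit 1, nat_lit 10, nat_lit 12, nat_lit 0x2462258c8b, nat_lit 0x3adab43471, nat_lit 0x221d17c563, [], [],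 []⟩)) (.leaf ⟨nat_lit 1, nat_lit 9, nat_lit 10, nat_lit 0xb9618c507, nat_lit 0x94c83ccd, nat_lit 0x218982735ce, [], [], []⟩)) (.node (.leaf ⟨nat_lit 1, nat_lit 10, nat_lit 10, nat_lit 0xd705bd11, nat_lit 0xf5c1cd6a841, nat_lit 0x3256e8a921, [], [], []⟩) (.leaf ⟨nat_lit 1, nat_lit 10, nat_lit 10, nat_lit 0x88e89d47, nat_lit 0xd6c83cc5, nat_lit 0x8ec79985, [], [], []⟩))))

noncomputable def F24 : GT Fa := .node (.node (.node (.node (.node (.leaf ⟨nat_lit 0, nat_lit 0, nat_lit 0, nat_lit 0, nat_lit 35973, nat_lit 0x29061, [], [], []⟩) (.leaf ⟨nat_lit 1, nat_lit 10, nat_lit 10, nat_lit 0x107392b0ada2, nat_lit 0x59504639b0, nat_lit 0x8216b5a5ec, [], [], []⟩)) (.leaf ⟨nat_lit 1, nat_lit 10, nat_lit 10, nat_lit 0x628a66a201, nat_lit 0xb08dae6ba21, nat_lit 0x450f640ef, [], [], []⟩)) (.node (.node (.leaf ⟨nat_lit 0, nat_lit 1, nat_lit 1, nat_lit 0,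 nat_lit 0x19c313e2e, nat_lit 0xd2f83c62, [], [], []⟩) (.leaf ⟨nat_lit 1, nat_lit 12, nat_lit 12, nat_lit 0x129491416d, nat_lit 0x7914d6c626, nat_lit 0x340f063cc9, [], [], []⟩)) (.leaf ⟨nat_lit 1, nat_lit 10, nat_lit 10, nat_lit 0x48b20a7c162, nat_lit 0x12deb6b9ae, nat_lit 0x26290c2452a, [], [], []⟩))) (.node (.node (.node (.leaf ⟨nat_lit 0, nat_lit 1, nat_lit 1, nat_lit 0, nat_lit 0x10dd10b505, nat_lit 0x8ec8320d, [], [], []⟩) (.leaf ⟨nat_lit 1, nat_lit 11, nat_lit 10, nat_lit 0x3c1cb7c461, nat_lit 0x135037306c, nat_lit 0x1bc31614c6, [], [], []⟩)) (.leaf ⟨nat_lit 1, nat_lit 10, nat_lit 10, nat_lit 0xc54c3c48d, nat_lit 0x116266c081, nat_lit 0x2344312be23, [], [], []⟩)) (.node (.node (.leaf ⟨nat_lit 1, nat_lit 7, nat_lit 7, nat_lit 0x106266a56c, nat_lit 0x11e2c5c1ae, nat_lit 0x6457054201, [], [], []⟩) (.leaf ⟨nat_lit 1, nat_lit 10, nat_lit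 14, nat_lit 0x953062ceb, nat_lit 0x416284182, nat_lit 0x45904392b, [], [], []⟩)) (.leaf ⟨nat_lit 1, nat_lit 10, nat_lit 10, nat_lit 0x8aa0e3aa26, nat_lit 0x83d458122e, nat_lit 0x1b5ef5258e, [], [], []⟩)))) (.node (.node (.node (.node (.leaf ⟨nat_lit 0, nat_lit 1, nat_lit 1, nat_lit 0, nat_lit 0x312c2c4e1, nat_lit 0x15862b507, [], [], []⟩) (.leaf ⟨nat_lit 1, nat_lit 10, nat_lit 10, nat_lit 0x6960d719e1, nat_lit 0x8c62c639ad, nat_lit 0x18a11164622, [], [], []⟩)) (.leaf ⟨nat_lit 1, nat_lit 10, nat_lit 10, nat_lit 0x840aa51921, nat_lit 0xc838ae74542, nat_lit 0x5a5ce3b54a, [], [], []⟩)) (.node (.node (.leaf ⟨nat_lit 2, nat_lit 0, nat_lit 0, nat_lit 0x3c42551601, nat_lit 0, nat_lit 0, [], [], [nat_lit 0x33a8301c182, nat_lit 0xb14a4b50d]⟩) (.leaf ⟨nat_lit 1, nat_lit 9, nat_lit 14, nat_lit 0x68e0574041, nat_lit 0x350b61d85, nat_lit 0x2294f59881,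 [], [], []⟩)) (.leaf ⟨nat_lit 1, nat_lit 10, nat_lit 10, nat_lit 0x138eb5a041, nat_lit 0x621eb12e21, nat_lit 0x1c58f19e04, [], [], []⟩))) (.node (.node (.node (.leaf ⟨nat_lit 0, nat_lit 1, nat_lit 1, nat_lit 0, nat_lit 0xf83c62, nat_lit 0xbccc725c3, [], [], []⟩) (.leaf ⟨nat_lit 1, nat_lit 12, nat_lit 10, nat_lit 0x160883571, nat_lit 0x12b9d07388e, nat_lit 0x2441ca8ac70, [], [], []⟩)) (.leaf ⟨nat_lit 1, nat_lit 10, nat_lit 10, nat_lit 0x45848b42e, nat_lit 0xa33570710a2, nat_lit 0x9d0341c9, [], [], []⟩)) (.node (.leaf ⟨nat_lit 1, nat_lit 10, nat_lit 9, nat_lit 0x6160c4ada4, nat_lit 0x3b16f23103, nat_lit 0x28b4c68b481, [], [], []⟩) (.leaf ⟨nat_lit 1, nat_lit 10, nat_lit 10, nat_lit 0x3829ef23de1, nat_lit 0x1708ae62d67, nat_lit 0x8c50c130e8, [], [], []⟩))))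

noncomputable def F25 : GT Fa := .node (.node (.node (.node (.node (.leaf ⟨nat_lit 0, nat_lit 5, nat_lit 5, nat_lit 0, nat_lit 4257, nat_lit 0x119065, [], [], []⟩) (.leaf ⟨nat_lit 1, nat_lit 10, nat_lit 10, nat_lit 0x26c1c28a082, nat_lit 0x13e315c481, nat_lit 0x4362d7ad89, [], [], []⟩)) (.leaf ⟨nat_lit 1, nat_lit 10, nat_lit 10, nat_lit 0xf60c4d834c1, nat_lit 0x96254353962, nat_lit 0x130b12c08c, [], [], []⟩)) (.node (.node (.leaf ⟨nat_lit 0, nat_lit 1, nat_lit 1, nat_lit 0, nat_lit 0x1c5500ad66, nat_lit 0x44268b46e, [], [], []⟩) (.leaf ⟨nat_lit 1, nat_lit 12, nat_lit 9, nat_lit 0x18c48f60d81, nat_lit 0x69c647b0e1, nat_lit 0x82d0e8b92a, [], [], []⟩)) (.leaf ⟨nat_lit 1, nat_lit 10, nat_lit 10, nat_lit 0x59df13aa02, nat_lit 0x2320a1b22f, nat_lit 0x221447c50f, [], [], []⟩))) (.node (.node (.node (.leaf ⟨nat_lit 0, nat_lit 1, nat_lit 1, nat_lit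 0, nat_lit 0x5b94f32d21, nat_lit 0x11d90641a5, [], [], []⟩) (.leaf ⟨nat_lit 1, nat_lit 11, nat_lit 10, nat_lit 0x3d8e53e02, nat_lit 0x1a5ec62de2, nat_lit 0x454860d91, [], [], []⟩)) (.leaf ⟨nat_lit 1, nat_lit 10, nat_lit 9, nat_lit 0x9dcd59982, nat_lit 0xc3c1eb13e21, nat_lit 0x4b5e5735b1, [], [], []⟩)) (.node (.node (.leaf ⟨nat_lit 1, nat_lit 9, nat_lit 9, nat_lit 0xc41ca8, nat_lit 0x7c20760564, nat_lit 0x219586644a1, [], [], []⟩) (.leaf ⟨nat_lit 1, nat_lit 14, nat_lit 10, nat_lit 0x14ba2653c61, nat_lit 0x148e61dc2, nat_lit 0x4c2041bc41, [], [], []⟩)) (.leaf ⟨nat_lit 1, nat_lit 10, nat_lit 10, nat_lit 0x18ba0d34621, nat_lit 0x242e3164082, nat_lit 0x6848c8c5c8, [], [], []⟩)))) (.node (.node (.node (.node (.leaf ⟨nat_lit 0, nat_lit 1, nat_lit 1, nat_lit 0, nat_lit 0x12bd304bc62, nat_lit 0x129cd23541, [], [], []⟩) (.leaf ⟨nat_lit 1, nat_lit 10,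 nat_lit 10, nat_lit 0x1123a2e639a2, nat_lit 0x105346d2ae01, nat_lit 0x5357083a29, [], [], []⟩)) (.leaf ⟨nat_lit 1, nat_lit 10, nat_lit 7, nat_lit 0x22b08f61567, nat_lit 0x1122c1c5eb, nat_lit 0x8c4f79a05, [], [], []⟩)) (.node (.node (.leaf ⟨nat_lit 2, nat_lit 0, nat_lit 0, nat_lit 0x8b8d1585c1, nat_lit 0, nat_lit 0, [], [], [nat_lit 0x1362188569, nat_lit 0x44ab28609]⟩) (.leaf ⟨nat_lit 1, nat_lit 10, nat_lit 14, nat_lit 0x2b38c41, nat_lit 0x24b92b1bd64, nat_lit 0x535c483562, [], [], []⟩)) (.leaf ⟨nat_lit 1, nat_lit 10, nat_lit 10, nat_lit 0x1062a3c14e, nat_lit 0x114268968, nat_lit 0x22d6f82ce3, [], [], []⟩))) (.node (.node (.node (.leaf ⟨nat_lit 0, nat_lit 1, nat_lit 1, nat_lit 0, nat_lit 0x1bca8709a6, nat_lit 0x82cb123d47, [], [], []⟩) (.leaf ⟨nat_lit 1, nat_lit 9, nat_lit 12, nat_lit 0x89582830aa, nat_lit 0x445e38b5e6, nat_lit 0x243e2e5bca8,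 [], [], []⟩)) (.leaf ⟨nat_lit 1, nat_lit 10, nat_lit 10, nat_lit 0x36c16c4b161, nat_lit 0x10cb11c18c, nat_lit 0x614ee3a991, [], [], []⟩)) (.node (.leaf ⟨nat_lit 1, nat_lit 10, nat_lit 7, nat_lit 0x5b0c263061, nat_lit 0x7c1f13b183, nat_lit 0x21898c2b94e, [], [], []⟩) (.leaf ⟨nat_lit 1, nat_lit 10, nat_lit 10, nat_lit 0x2392e8acb0, nat_lit 0x84123140a2, nat_lit 0x1aa0e4b461, [], [], []⟩))))

noncomputable def F26 : GT Fa := .node (.node (.node (.node (.node (.leaf ⟨nat_lit 0, nat_lit 5, nat_lit 5, nat_lit 0, nat_lit 133, nat_lit 0x19065, [], [], []⟩) (.leaf ⟨nat_lit 1, nat_lit 10, nat_lit 10, nat_lit 0x3ad8c791b0, nat_lit 0x3735ed0aa21, nat_lit 0x13a8ac63da3, [], [], []⟩)) (.leaf ⟨nat_lit 1, nat_lit 10, nat_lit 10, nat_lit 0x8ec7b4c3, nat_lit 0x439cb624ae, nat_lit 0x456b43461, [], [], []⟩)) (.node (.node (.leaf ⟨nat_lit 0, nat_lit 1, nat_lit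 1, nat_lit 0, nat_lit 0x13d2b88563, nat_lit 0x23e24345c3, [], [], []⟩) (.leaf ⟨nat_lit 1, nat_lit 10, nat_lit 12, nat_lit 0x344b8ad23, nat_lit 0xa72989528c2, nat_lit 0x6ade353226, [], [], []⟩)) (.leaf ⟨nat_lit 1, nat_lit 10, nat_lit 10, nat_lit 0x2335cb0ba02, nat_lit 0x2c5ed7c1a8, nat_lit 0x27b02c4c082, [], [], []⟩))) (.node (.node (.node (.leaf ⟨nat_lit 0, nat_lit 1, nat_lit 1, nat_lit 0, nat_lit 0x2a88c2c4e1, nat_lit 0xc5821b8a2, [], [], []⟩) (.leaf ⟨nat_lit 1, nat_lit 11, nat_lit 10, nat_lit 0x312c2b542, nat_lit 0x691eb231c3, nat_lit 0x12c08e729a4, [], [], []⟩)) (.leaf ⟨nat_lit 1, nat_lit 10, nat_lit 10, nat_lit 0x8ae2b1b8af, nat_lit 0x12a58c289e1, nat_lit 0x7a1712bd22, [], [], []⟩)) (.node (.node (.leaf ⟨nat_lit 1, nat_lit 7, nat_lit 9, nat_lit 0xc6206c3c1c1, nat_lit 0xf530ae8a1e1, nat_lit 0x73570695a9, [], [], []⟩) (.leaf ⟨nat_lit 1,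 nat_lit 14, nat_lit 10, nat_lit 0x31898b48b, nat_lit 0x999133da5, nat_lit 0x2918f609f0, [], [], []⟩)) (.leaf ⟨nat_lit 1, nat_lit 10, nat_lit 10, nat_lit 0x1222d5ad8c, nat_lit 0x4d23da76b941, nat_lit 0x14b42d7b141, [], [], []⟩)))) (.node (.node (.node (.node (.leaf ⟨nat_lit 0, nat_lit 1, nat_lit 1, nat_lit 0, nat_lit 0xbd304bc62, nat_lit 0x10cee60dc7, [], [], []⟩) (.leaf ⟨nat_lit 1, nat_lit 10, nat_lit 10, nat_lit 0x153cd033041, nat_lit 0x71a0d88e02, nat_lit 0x70cf06ba23, [], [], []⟩)) (.leaf ⟨nat_lit 1, nat_lit 9, nat_lit 10, nat_lit 0xb48f7b50b, nat_lit 0x62d7061970, nat_lit 0x238af6142a, [], [], []⟩)) (.node (.node (.leaf ⟨nat_lit 2, nat_lit 0, nat_lit 0, nat_lit 0x78d4562d2d, nat_lit 0, nat_lit 0, [], [], [nat_lit 0x44ab28609, nat_lit 0x619875ada1]⟩) (.leaf ⟨nat_lit 1, nat_lit 14, nat_lit 10, nat_lit 0x1a62c231ef, nat_lit 0x41a2899ed,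 nat_lit 0x119e668606, [], [], []⟩)) (.leaf ⟨nat_lit 1, nat_lit 10, nat_lit 10, nat_lit 0x7352f29985, nat_lit 0x8bc2c63d82, nat_lit 0x2454782c8b, [], [], []⟩))) (.node (.node (.node (.leaf ⟨nat_lit 0, nat_lit 1, nat_lit 1, nat_lit 0, nat_lit 0xd3143a2e, nat_lit 0x30ad795c5, [], [], []⟩) (.leaf ⟨nat_lit 1, nat_lit 12, nat_lit 11, nat_lit 0x630c7730a2, nat_lit 0x2322d81624, nat_lit 0x322185541e2, [], [], []⟩)) (.leaf ⟨nat_lit 1, nat_lit 10, nat_lit 10, nat_lit 0x83e298b222, nat_lit 0x11122261482, nat_lit 0x96e2b4aa, [], [], []⟩)) (.node (.leaf ⟨nat_lit 1, nat_lit 10, nat_lit 10, nat_lit 0xa9af8b5e3, nat_lit 0x89116ba03, nat_lit 0x2b94753226, [], [], []⟩) (.leaf ⟨nat_lit 1, nat_lit 10, nat_lit 10, nat_lit 0x641850b083, nat_lit 0x11a98581202, nat_lit 0x4b183739c9, [], [], []⟩))))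

noncomputable def F27 : GT Fa := .node (.node (.node (.node (.node (.leaf ⟨nat_lit 2, nat_lit 0, nat_lit 0, nat_lit 4257, nat_lit 0, nat_lit 0, [], [], [nat_lit 4, nat_lit 0x119065, nat_lit 4131]⟩) (.leaf ⟨nat_lit 1, nat_lit 10, nat_lit 10, nat_lit 0x3416d1bcd1, nat_lit 0x18b9a872481, nat_lit 0x2325b16c5cb, [], [], []⟩)) (.leaf ⟨nat_lit 1, nat_lit 10, nat_lit 10, nat_lit 0x729516222a, nat_lit 0x42b48a841a1, nat_lit 0x711853bd4f, [], [], []⟩)) (.node (.node (.leaf ⟨nat_lit 0, nat_lit 1, nat_lit 1, nat_lit 0, nat_lit 0x82594c1, nat_lit 0x3ded41dc3, [], [], []⟩) (.leaf ⟨nat_lit 1, nat_lit 12, nat_lit 10, nat_lit 0x1840ad7aa0c, nat_lit 0x120d8f51a21, nat_lit 0x2739a220dc4, [], [], []⟩)) (.leaf ⟨nat_lit 1, nat_lit 10, nat_lit 10, nat_lit 0x245b16308d, nat_lit 0x3292a8b102, nat_lit 0x108198c1b8a1, [], [], []⟩))) (.node (.node (.node (.leaf ⟨nat_lit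 0, nat_lit 1, nat_lit 1, nat_lit 0, nat_lit 0x13d48831c2, nat_lit 0x1916c5a2, [], [], []⟩) (.leaf ⟨nat_lit 1, nat_lit 10, nat_lit 11, nat_lit 0x25819a21b5e1, nat_lit 0xf6a1715b862, nat_lit 0x214a891e2, [], [], []⟩)) (.leaf ⟨nat_lit 1, nat_lit 10, nat_lit 10, nat_lit 0x811914c205, nat_lit 0x66ad0d8c4c1, nat_lit 0x33cac63090, [], [], []⟩)) (.node (.node (.leaf ⟨nat_lit 1, nat_lit 9, nat_lit 9, nat_lit 0x339912a0e1, nat_lit 0x3ba2f82a03, nat_lit 0x1059053d63, [], [], []⟩) (.leaf ⟨nat_lit 1, nat_lit 10, nat_lit 14, nat_lit 0x5962289605, nat_lit 0x12e288b101, nat_lit 0x16b5e983dab, [], [], []⟩)) (.leaf ⟨nat_lit 1, nat_lit 10, nat_lit 10, nat_lit 0x481da3721e1, nat_lit 0x2c1cc819d0, nat_lit 0x591ca8ad63, [], [], []⟩)))) (.node (.node (.node (.node (.leaf ⟨nat_lit 0, nat_lit 1, nat_lit 1, nat_lit 0, nat_lit 0x3e04838c4, nat_lit 0x1e31545a5, [],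 [], []⟩) (.leaf ⟨nat_lit 1, nat_lit 10, nat_lit 10, nat_lit 0x11730a36b5c2, nat_lit 0x154d5b962, nat_lit 0x1429855c5e8, [], [], []⟩)) (.leaf ⟨nat_lit 1, nat_lit 10, nat_lit 10, nat_lit 0x218ad23e26, nat_lit 0xc5e3725c7, nat_lit 0x4410b82d61, [], [], []⟩)) (.node (.node (.leaf ⟨nat_lit 2, nat_lit 0, nat_lit 0, nat_lit 0xc4ab28609, nat_lit 0, nat_lit 0, [], [], [nat_lit 0x619875ada1, nat_lit 0x1362188569]⟩) (.leaf ⟨nat_lit 1, nat_lit 14, nat_lit 8, nat_lit 0x221ea44462, nat_lit 0x18a2a4b0e2, nat_lit 0x258f1a8d0, [], [], []⟩)) (.leaf ⟨nat_lit 1, nat_lit 10, nat_lit 10, nat_lit 0x1b52372e07, nat_lit 0x57bd0c791a2, nat_lit 0x189e88b92d, [], [], []⟩))) (.node (.node (.node (.leaf ⟨nat_lit 0, nat_lit 1, nat_lit 1, nat_lit 0, nat_lit 0x140ae640c2, nat_lit 0x25f00bc62, [], [], []⟩) (.leaf ⟨nat_lit 1, nat_lit 9, nat_lit 12, nat_lit 0x8ccb6c02d, nat_lit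 0xa7386d53961, nat_lit 0x151d9160e0d, [], [], []⟩)) (.leaf ⟨nat_lit 1, nat_lit 10, nat_lit 10, nat_lit 0x1795a40c202, nat_lit 0x345ad0a9c1, nat_lit 0x20b1e64c625, [], [], []⟩)) (.node (.leaf ⟨nat_lit 1, nat_lit 10, nat_lit 10, nat_lit 0x14d838e1, nat_lit 0x12194d4c1c1, nat_lit 0x641aa62450, [], [], []⟩) (.leaf ⟨nat_lit 1, nat_lit 10, nat_lit 10, nat_lit 0x11ea79a29, nat_lit 0x1805a1545e1, nat_lit 0x1506100c04d, [], [], []⟩))))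

noncomputable def F28 : GT Fa := .node (.node (.node (.node (.node (.leaf ⟨nat_lit 1, nat_lit 2, nat_lit 1, nat_lit 100, nat_lit 0x4190a1, nat_lit 0x19065, [], [], []⟩) (.leaf ⟨nat_lit 1, nat_lit 10, nat_lit 10, nat_lit 0x188d8f43da1, nat_lit 0x22c7013482, nat_lit 0x71d6768961, [], [], []⟩)) (.leaf ⟨nat_lit 1, nat_lit 9, nat_lit 10, nat_lit 0x3a05741e1, nat_lit 0x23d6562ce1, nat_lit 0x33cca7290f, [], [], []⟩)) (.node (.node (.leaf ⟨nat_lit 0, nat_lit 1, nat_lit 1, nat_lit 0, nat_lit 0x3cec71dc6, nat_lit 0x45082c182, [], [], []⟩) (.leaf ⟨nat_lit 1, nat_lit 10, nat_lit 12, nat_lit 0x3a98a82871, nat_lit 0x170d41838ae, nat_lit 0x2641cb71061, [], [], []⟩)) (.leaf ⟨nat_lit 1, nat_lit 10, nat_lit 10, nat_lit 0x8cb60e26, nat_lit 0x1344b3a8e1, nat_lit 0x7b22d4ba25, [], [], []⟩))) (.node (.node (.node (.leaf ⟨nat_lit 0, nat_lit 1, nat_lit 1, nat_lit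 0, nat_lit 0x318589cc1, nat_lit 0x3065818a3, [], [], []⟩) (.leaf ⟨nat_lit 1, nat_lit 9, nat_lit 11, nat_lit 0x153e088bd82, nat_lit 0xd441b048601, nat_lit 0xb8342370441, [], [], []⟩)) (.leaf ⟨nat_lit 1, nat_lit 10, nat_lit 10, nat_lit 0x125cc835cc, nat_lit 0x141ad1aa23, nat_lit 0x696245c1ed, [], [], []⟩)) (.node (.node (.leaf ⟨nat_lit 1, nat_lit 7, nat_lit 9, nat_lit 0x192a70dca, nat_lit 0x27a0a45b141, nat_lit 0x4f5b9aa54541, [], [], []⟩) (.leaf ⟨nat_lit 1, nat_lit 10, nat_lit 14, nat_lit 0x2c52c8b1c1, nat_lit 0x540d0594c2, nat_lit 0x194d8a590, [], [], []⟩)) (.leaf ⟨nat_lit 1, nat_lit 10, nat_lit 10, nat_lit 0x14ad8a62d62, nat_lit 0x228e58342e, nat_lit 0x23450f430e3, [], [], []⟩)))) (.node (.node (.node (.node (.leaf ⟨nat_lit 0, nat_lit 1, nat_lit 1, nat_lit 0, nat_lit 0x1046d78da9, nat_lit 0x3e0778cc2, [], [], []⟩) (.leaf ⟨nat_lit 1, nat_lit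 10, nat_lit 10, nat_lit 0x3435517bce2, nat_lit 0x3cb1644b0, nat_lit 0x25b1e353901, [], [], []⟩)) (.leaf ⟨nat_lit 1, nat_lit 10, nat_lit 10, nat_lit 0x34cd4a16b, nat_lit 0xac2d73922, nat_lit 0x44298b603, [], [], []⟩)) (.node (.node (.leaf ⟨nat_lit 1, nat_lit 6, nat_lit 1, nat_lit 0x894c4b5c5, nat_lit 0x310160c81, nat_lit 0x12e2b19d6b, [], [], []⟩) (.leaf ⟨nat_lit 1, nat_lit 10, nat_lit 14, nat_lit 0xae046c62e, nat_lit 0x6996e5442d, nat_lit 0x63cca435f0, [], [], []⟩)) (.leaf ⟨nat_lit 1, nat_lit 10, nat_lit 10, nat_lit 0x645ce809f0, nat_lit 0x88c5cd8c4e1, nat_lit 0x1885cc735c4, [], [], []⟩))) (.node (.node (.node (.leaf ⟨nat_lit 0, nat_lit 1, nat_lit 1, nat_lit 0, nat_lit 0x19e282ba2e, nat_lit 0x3e0a720ab, [], [], []⟩) (.leaf ⟨nat_lit 1, nat_lit 10, nat_lit 12, nat_lit 0x1c1d124205, nat_lit 0xc5b85052061, nat_lit 0x303b60d244a1, [], [], []⟩))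 (.leaf ⟨nat_lit 1, nat_lit 10, nat_lit 10, nat_lit 0x268d5078d82, nat_lit 0xc626255bde1, nat_lit 0x22bd8b6220c, [], [], []⟩)) (.node (.leaf ⟨nat_lit 1, nat_lit 9, nat_lit 10, nat_lit 0x639b080a0b, nat_lit 0x1745cb818a2, nat_lit 0xe2bd4e3b8a1, [], [], []⟩) (.leaf ⟨nat_lit 1, nat_lit 9, nat_lit 10, nat_lit 0x5e979571, nat_lit 0xb3b56e10c41, nat_lit 0x2830cc1b982, [], [], []⟩))))

noncomputable def F29 : GT Fa := .node (.node (.node (.node (.node (.leaf ⟨nat_lit 0, nat_lit 2, nat_lit 2, nat_lit 0, nat_lit 0x28c83, nat_lit 0x19065, [], [], []⟩) (.leaf ⟨nat_lit 1, nat_lit 10, nat_lit 9, nat_lit 0x325a96b569, nat_lit 0x4b92d6c46f, nat_lit 0x129e0e33a2a, [], [], []⟩)) (.leaf ⟨nat_lit 1, nat_lit 10, nat_lit 10, nat_lit 0x3c4ac715c2, nat_lit 0x4aded6896e, nat_lit 0x5392f5ae24, [], [], []⟩)) (.node (.node (.leaf ⟨nat_lit 0, nat_lit 1, nat_lit 1, nat_lit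 0, nat_lit 0x2dca79969, nat_lit 0x128b154566, [], [], []⟩) (.leaf ⟨nat_lit 1, nat_lit 11, nat_lit 12, nat_lit 0x30716a502, nat_lit 0x73156f841a2, nat_lit 0x18b08c5c148, [], [], []⟩)) (.leaf ⟨nat_lit 1, nat_lit 9, nat_lit 10, nat_lit 0x2625f0518c2, nat_lit 0x2bd0c7944f, nat_lit 0x8a20472db0, [], [], []⟩))) (.node (.node (.node (.leaf ⟨nat_lit 0, nat_lit 1, nat_lit 1, nat_lit 0, nat_lit 0x3de822d0e, nat_lit 0x129a8841c4, [], [], []⟩) (.leaf ⟨nat_lit 1, nat_lit 9, nat_lit 11, nat_lit 0x14d00adf1, nat_lit 0x125a95b54d, nat_lit 0x6320653885, [], [], []⟩)) (.leaf ⟨nat_lit 1, nat_lit 10, nat_lit 10, nat_lit 0xd534ae53041, nat_lit 0x5120e4ae05, nat_lit 0xbe0d4ba06, [], [], []⟩)) (.node (.node (.leaf ⟨nat_lit 1, nat_lit 1, nat_lit 10, nat_lit 356, nat_lit 0, nat_lit 0, [], [], []⟩) (.leaf ⟨nat_lit 1, nat_lit 9, nat_lit 14, nat_lit 0x13e0b6998b, nat_lit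 0x1b0710ac83, nat_lit 0x26b98183441, [], [], []⟩)) (.leaf ⟨nat_lit 1, nat_lit 10, nat_lit 10, nat_lit 0x538e153182, nat_lit 0x1b62b3294f, nat_lit 0x261d9151062, [], [], []⟩)))) (.node (.node (.node (.node (.leaf ⟨nat_lit 0, nat_lit 1, nat_lit 1, nat_lit 0, nat_lit 0x8aa015acc1, nat_lit 0x1218e8350a, [], [], []⟩) (.leaf ⟨nat_lit 1, nat_lit 10, nat_lit 9, nat_lit 0x4530b082c81, nat_lit 0x55098f64422, nat_lit 0x2416b2b1c3, [], [], []⟩)) (.leaf ⟨nat_lit 1, nat_lit 10, nat_lit 10, nat_lit 0x20b9c4609a2, nat_lit 0x112b48170dc2, nat_lit 0x25b5e4745c1, [], [], []⟩)) (.node (.node (.leaf ⟨nat_lit 2, nat_lit 0, nat_lit 0, nat_lit 0x94c4b5c5, nat_lit 0, nat_lit 0, [], [], [nat_lit 4, nat_lit 0x5292354142, nat_lit 0x40ab38da3]⟩) (.leaf ⟨nat_lit 1, nat_lit 14, nat_lit 10, nat_lit 0x82a07644c1, nat_lit 0xb1038c4ce, nat_lit 0x331d044205, [], [], []⟩)) (.leaf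 ⟨nat_lit 1, nat_lit 10, nat_lit 10, nat_lit 0x3b1857aa26, nat_lit 0x392a799ad, nat_lit 0x3a235298b, [], [], []⟩))) (.node (.node (.node (.leaf ⟨nat_lit 0, nat_lit 1, nat_lit 1, nat_lit 0, nat_lit 0xac2b4a3, nat_lit 0x1b0ad, [], [], []⟩) (.leaf ⟨nat_lit 1, nat_lit 10, nat_lit 12, nat_lit 0x1dc269462, nat_lit 0x8c5741d1, nat_lit 0x11b5cd7102b, [], [], []⟩)) (.leaf ⟨nat_lit 1, nat_lit 10, nat_lit 10, nat_lit 0x151d907446f, nat_lit 0x235b122d6f, nat_lit 0x805cd21503, [], [], []⟩)) (.node (.leaf ⟨nat_lit 1, nat_lit 10, nat_lit 10, nat_lit 0x37bde350962, nat_lit 0x53a03630ce, nat_lit 0x88e3ae2e, [], [], []⟩) (.leaf ⟨nat_lit 1, nat_lit 10, nat_lit 10, nat_lit 0x13ca3609b0, nat_lit 0xa2f6b56f, nat_lit 0x79d8c2be08, [], [], []⟩))))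

noncomputable def F30 : GT Fa := .node (.node (.node (.node (.node (.leaf ⟨nat_lit 2, nat_lit 0, nat_lit 0, nat_lit 0x19065, nat_lit 0, nat_lit 0, [], [], [nat_lit 4196, nat_lit 0x28c83, nat_lit 0x19064]⟩) (.leaf ⟨nat_lit 1, nat_lit 10, nat_lit 10, nat_lit 0x23b20f2a86c, nat_lit 0x510ac60d8e, nat_lit 0x3b1f021a28, [], [], []⟩)) (.leaf ⟨nat_lit 1, nat_lit 10, nat_lit 10, nat_lit 0x12b54728de2, nat_lit 0x43d4172dc4, nat_lit 0x282e2e6c108, [], [], []⟩)) (.node (.node (.leaf ⟨nat_lit 0, nat_lit 1, nat_lit 1, nat_lit 0, nat_lit 0x11a2d3b202, nat_lit 0x1448c8322d, [], [], []⟩) (.leaf ⟨nat_lit 1, nat_lit 10, nat_lit 12, nat_lit 0x23229534a2, nat_lit 0x221b0838cd, nat_lit 0x8be24639c5, [], [], []⟩)) (.leaf ⟨nat_lit 1, nat_lit 10, nat_lit 10, nat_lit 0x82e0b8a5e1, nat_lit 0xb61dcb41202, nat_lit 0x640ac519a9, [], [], []⟩))) (.node (.node (.node (.leaf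 ⟨nat_lit 0, nat_lit 1, nat_lit 1, nat_lit 0, nat_lit 0x19ec71dc5, nat_lit 0xb0457952e, [], [], []⟩) (.leaf ⟨nat_lit 1, nat_lit 11, nat_lit 10, nat_lit 0x5960972946, nat_lit 0x8530a4541a1, nat_lit 0x105848a546, [], [], []⟩)) (.leaf ⟨nat_lit 1, nat_lit 8, nat_lit 10, nat_lit 0x43ad6e8a922, nat_lit 0x41be2350d42, nat_lit 0x2214912b9a4, [], [], []⟩)) (.node (.node (.leaf ⟨nat_lit 0, nat_lit 10, nat_lit 10, nat_lit 0, nat_lit 0x2be08795c9, nat_lit 0x4412c1f0, [], [], []⟩) (.leaf ⟨nat_lit 1, nat_lit 10, nat_lit 14, nat_lit 0xc36148d, nat_lit 0x1644f05c1a1, nat_lit 0x135a1715e5, [], [], []⟩)) (.leaf ⟨nat_lit 1, nat_lit 10, nat_lit 10, nat_lit 0x16be24541c2, nat_lit 0x1b9cd8ba08, nat_lit 0x45ec8b530, [], [], []⟩)))) (.node (.node (.node (.node (.leaf ⟨nat_lit 0, nat_lit 1, nat_lit 1, nat_lit 0, nat_lit 0x1631545a1, nat_lit 0x3d6d23e06, [], [], []⟩)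 (.leaf ⟨nat_lit 1, nat_lit 10, nat_lit 10, nat_lit 0x962a0b34102, nat_lit 0x153e275b9d0, nat_lit 0x242d6b5b941, [], [], []⟩)) (.leaf ⟨nat_lit 1, nat_lit 10, nat_lit 10, nat_lit 0xb965811ad, nat_lit 0x35212f5ad81, nat_lit 0x44c1ad34422, [], [], []⟩)) (.node (.node (.leaf ⟨nat_lit 2, nat_lit 0, nat_lit 0, nat_lit 4193, nat_lit 0, nat_lit 0, [], [], [nat_lit 0x5292354142, nat_lit 0x40ab38da3, nat_lit 0x894c4b5c5]⟩) (.leaf ⟨nat_lit 1, nat_lit 14, nat_lit 10, nat_lit 0x3d8e42d67, nat_lit 0x6c62363101, nat_lit 0x26bd458a8ad, [], [], []⟩)) (.leaf ⟨nat_lit 1, nat_lit 10, nat_lit 10, nat_lit 0x1bdad144ad, nat_lit 0xd8382d7c0e1, nat_lit 0x189b008a09, [], [], []⟩))) (.node (.node (.node (.leaf ⟨nat_lit 0, nat_lit 1, nat_lit 1, nat_lit 0, nat_lit 0x44cb6a481, nat_lit 0x191194f1, [], [], []⟩) (.leaf ⟨nat_lit 1, nat_lit 10, nat_lit 12, nat_lit 0x3194a63d2b,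 nat_lit 0x318c28983, nat_lit 0xb91032d2d, [], [], []⟩)) (.leaf ⟨nat_lit 1, nat_lit 10, nat_lit 10, nat_lit 0x645917b5ca, nat_lit 0x16adc164521, nat_lit 0x169181815e2, [], [], []⟩)) (.node (.leaf ⟨nat_lit 1, nat_lit 7, nat_lit 10, nat_lit 0xa6b5cc811a1, nat_lit 0x2b18889148, nat_lit 0x1c0888b20a, [], [], []⟩) (.leaf ⟨nat_lit 1, nat_lit 10, nat_lit 10, nat_lit 0x24b99113cc2, nat_lit 0x248d8b481, nat_lit 0x7348e32e2b, [], [], []⟩))))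

noncomputable def F31 : GT Fa := .node (.node (.node (.node (.node (.leaf ⟨nat_lit 1, nat_lit 3, nat_lit 1, nat_lit 0x32144320441, nat_lit 0x2044320441, nat_lit 0x19483, [], [], []⟩) (.leaf ⟨nat_lit 1, nat_lit 10, nat_lit 10, nat_lit 0x12c19083caa, nat_lit 0x5ad8e68a09, nat_lit 0x4a94c63ca8, [], [], []⟩)) (.leaf ⟨nat_lit 1, nat_lit 10, nat_lit 10, nat_lit 0x20db08222d, nat_lit 0x741b01b1e1, nat_lit 0x4b1634b5ab, [], [], []⟩)) (.node (.node (.leaf ⟨nat_lit 0, nat_lit 1, nat_lit 1, nat_lit 0, nat_lit 0x3e0f34121, nat_lit 0x2628745c7, [], [], []⟩) (.leaf ⟨nat_lit 1, nat_lit 12, nat_lit 10, nat_lit 0xa8506c46e, nat_lit 0x6be016420c, nat_lit 0x2255852a, [], [], []⟩)) (.leaf ⟨nat_lit 1, nat_lit 10, nat_lit 10, nat_lit 0x962ced6c4c2, nat_lit 0x5b94e7288f, nat_lit 0xc14e591a3, [], [], []⟩))) (.node (.node (.node (.leaf ⟨nat_lit 0, nat_lit 1, nat_lit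 1, nat_lit 0, nat_lit 0xbe247ad02, nat_lit 0x2277450e, [], [], []⟩) (.leaf ⟨nat_lit 1, nat_lit 9, nat_lit 11, nat_lit 0x1a1ad83041, nat_lit 0x489dec54621, nat_lit 0x7ae0e4c561, [], [], []⟩)) (.leaf ⟨nat_lit 1, nat_lit 10, nat_lit 7, nat_lit 0x21483c590, nat_lit 0x24a948538a1, nat_lit 0x14c1c87b062, [], [], []⟩)) (.node (.node (.leaf ⟨nat_lit 0, nat_lit 10, nat_lit 10, nat_lit 0, nat_lit 0x15e38b4cd, nat_lit 0x3174462, [], [], []⟩) (.leaf ⟨nat_lit 1, nat_lit 14, nat_lit 10, nat_lit 0x5c48a8c462, nat_lit 0x20f15290f, nat_lit 0x7bd8f5958e, [], [], []⟩)) (.leaf ⟨nat_lit 1, nat_lit 10, nat_lit 10, nat_lit 0x1b9c481604, nat_lit 0x3a086056e, nat_lit 0x1695c7840c2, [], [], []⟩)))) (.node (.node (.node (.node (.leaf ⟨nat_lit 0, nat_lit 1, nat_lit 1, nat_lit 0, nat_lit 0x414c9, nat_lit 0x5498a8, [], [], []⟩) (.leaf ⟨nat_lit 1, nat_lit 10, nat_lit 9,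 nat_lit 0x135486ac91, nat_lit 0x95048b0e8, nat_lit 0x83d867bca8, [], [], []⟩)) (.leaf ⟨nat_lit 1, nat_lit 10, nat_lit 10, nat_lit 0x6a5706b88b, nat_lit 0xd6982d725c2, nat_lit 0x62db03182a, [], [], []⟩)) (.node (.node (.leaf ⟨nat_lit 2, nat_lit 0, nat_lit 0, nat_lit 0x4a950134c4, nat_lit 0, nat_lit 0, [], [], [nat_lit 0x40ab38da3, nat_lit 0x894c4b5c5, nat_lit 4]⟩) (.leaf ⟨nat_lit 1, nat_lit 14, nat_lit 10, nat_lit 0xb7bc3188de2, nat_lit 0x63185720e1, nat_lit 0x2f8acaf62d81, [], [], []⟩)) (.leaf ⟨nat_lit 1, nat_lit 10, nat_lit 10, nat_lit 0x83d085c0e1, nat_lit 0x2bd517c581, nat_lit 0x2302d5ae27, [], [], []⟩))) (.node (.node (.node (.leaf ⟨nat_lit 0, nat_lit 1, nat_lit 1, nat_lit 0, nat_lit 0x10d315452d, nat_lit 0x18a12cad, [], [], []⟩) (.leaf ⟨nat_lit 1, nat_lit 10, nat_lit 12, nat_lit 0x3b545841ec, nat_lit 0x2388f3b605, nat_lit 0x3d0d82c8e,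 [], [], []⟩)) (.leaf ⟨nat_lit 1, nat_lit 10, nat_lit 10, nat_lit 0x13420553162, nat_lit 0x231666284d, nat_lit 0x20c06e2318a, [], [], []⟩)) (.node (.leaf ⟨nat_lit 1, nat_lit 10, nat_lit 10, nat_lit 0x173a2c61883, nat_lit 0x8920b72922, nat_lit 0x242a058a8c1, [], [], []⟩) (.leaf ⟨nat_lit 1, nat_lit 10, nat_lit 10, nat_lit 0x9a2d3ae04, nat_lit 0x15b94152a21, nat_lit 0x27a8ed7194a, [], [], []⟩))))

noncomputable def F32 : GT Fa := .node (.node (.node (.node (.node (.leaf ⟨nat_lit 1, nat_lit 4, nat_lit 1, nat_lit 0x29064, nat_lit 0x10a218441, nat_lit 4196, [], [], []⟩) (.leaf ⟨nat_lit 1, nat_lit 10, nat_lit 10, nat_lit 0x599ce22e02, nat_lit 0x42d705ac4f, nat_lit 0x60608831e6, [], [], []⟩)) (.leaf ⟨nat_lit 1, nat_lit 10, nat_lit 10, nat_lit 0x899718a06c, nat_lit 0x3bd886160d, nat_lit 0x18c5855bda2, [], [], []⟩)) (.node (.node (.leaf ⟨nat_lit 0,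 nat_lit 1, nat_lit 1, nat_lit 0, nat_lit 0x9af2b982, nat_lit 0xa95113d0a, [], [], []⟩) (.leaf ⟨nat_lit 1, nat_lit 9, nat_lit 12, nat_lit 0x362e3bded, nat_lit 0x31ea53202, nat_lit 0x1115818adeb, [], [], []⟩)) (.leaf ⟨nat_lit 1, nat_lit 10, nat_lit 10, nat_lit 0x31e473201, nat_lit 0x291e95390b, nat_lit 0x16a5a56c1e7, [], [], []⟩))) (.node (.node (.node (.leaf ⟨nat_lit 0, nat_lit 1, nat_lit 1, nat_lit 0, nat_lit 0x2bcd0345c6, nat_lit 0x2641904a041, [], [], []⟩) (.leaf ⟨nat_lit 1, nat_lit 9, nat_lit 11, nat_lit 0x8d4d78d46, nat_lit 0x5454913183, nat_lit 0x28353072984, [], [], []⟩)) (.leaf ⟨nat_lit 1, nat_lit 10, nat_lit 10, nat_lit 0x312f22d64, nat_lit 0x25922d42d30, nat_lit 0x21c5aa8b924, [], [], []⟩)) (.node (.node (.leaf ⟨nat_lit 0, nat_lit 10, nat_lit 10, nat_lit 0, nat_lit 0x1bca483d6d, nat_lit 0x2b46c, [], [], []⟩) (.leaf ⟨nat_lit 1, nat_lit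 10, nat_lit 14, nat_lit 0x18accd73901, nat_lit 0x835ea10dec, nat_lit 0x2c6b3be0f, [], [], []⟩)) (.leaf ⟨nat_lit 1, nat_lit 10, nat_lit 10, nat_lit 0x88e2f8b167, nat_lit 0xb60f795ef, nat_lit 0x60478d86, [], [], []⟩)))) (.node (.node (.node (.node (.leaf ⟨nat_lit 0, nat_lit 1, nat_lit 1, nat_lit 0, nat_lit 0x125795c9, nat_lit 0x653bcae, [], [], []⟩) (.leaf ⟨nat_lit 1, nat_lit 10, nat_lit 10, nat_lit 0x1134ed81181, nat_lit 0x15c5819a1, nat_lit 0x625ab5a5a4, [], [], []⟩)) (.leaf ⟨nat_lit 1, nat_lit 10, nat_lit 10, nat_lit 0x111ad50def, nat_lit 0x81a1082922, nat_lit 0x7a9a983104, [], [], []⟩)) (.node (.node (.leaf ⟨nat_lit 2, nat_lit 0, nat_lit 0, nat_lit 0x483684cd, nat_lit 0, nat_lit 0, [], [], [nat_lit 0x894c4b5c5, nat_lit 4, nat_lit 0x5292354142]⟩) (.leaf ⟨nat_lit 1, nat_lit 10, nat_lit 14, nat_lit 0x16118f299e2, nat_lit 0x18c5028a191, nat_lit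 0x4462b71cce, [], [], []⟩)) (.leaf ⟨nat_lit 1, nat_lit 10, nat_lit 10, nat_lit 0x11122a13121, nat_lit 0x25af8a5cc, nat_lit 0x4b0ad74511, [], [], []⟩))) (.node (.node (.node (.leaf ⟨nat_lit 0, nat_lit 1, nat_lit 1, nat_lit 0, nat_lit 0x615b174422, nat_lit 0x3142595a5, [], [], []⟩) (.leaf ⟨nat_lit 1, nat_lit 10, nat_lit 12, nat_lit 0xe5a14d728e2, nat_lit 0x1224285d1, nat_lit 0x17b5f11a18a, [], [], []⟩)) (.leaf ⟨nat_lit 1, nat_lit 10, nat_lit 10, nat_lit 0x125eb3b188, nat_lit 0x5a20c78da5, nat_lit 0x25922f63cad, [], [], []⟩)) (.node (.leaf ⟨nat_lit 1, nat_lit 10, nat_lit 10, nat_lit 0x191e88a9a3, nat_lit 0xb8714be07, nat_lit 0xaa0a3c1ae, [], [], []⟩) (.leaf ⟨nat_lit 1, nat_lit 10, nat_lit 10, nat_lit 0x15ad0d8396c, nat_lit 0x55ac8b0c0e2, nat_lit 0x90ef1b202, [], [], []⟩))))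

noncomputable def F33 : GT Fa := .node (.node (.node (.node (.node (.leaf ⟨nat_lit 0, nat_lit 4, nat_lit 5, nat_lit 0, nat_lit 0x110c8110c85, nat_lit 4196, [], [], []⟩) (.leaf ⟨nat_lit 1, nat_lit 10, nat_lit 10, nat_lit 0x5339ab6b441, nat_lit 0xee6adcb, nat_lit 0x14bcad22cce, [], [], []⟩)) (.leaf ⟨nat_lit 1, nat_lit 10, nat_lit 10, nat_lit 0x32b9ce711a2, nat_lit 0xe8b96b7b562, nat_lit 0x13db041d62, [], [], []⟩)) (.node (.node (.leaf ⟨nat_lit 0, nat_lit 1, nat_lit 1, nat_lit 0, nat_lit 0x402b38dae, nat_lit 0x304f415c7, [], [], []⟩) (.leaf ⟨nat_lit 1, nat_lit 10, nat_lit 12, nat_lit 0x2a8c789982, nat_lit 0x2b9d059568, nat_lit 0x18b1ec2bde2, [], [], []⟩)) (.leaf ⟨nat_lit 1, nat_lit 10, nat_lit 10, nat_lit 0xb6bd7071843, nat_lit 0x240ca5058f, nat_lit 0x7c56c8b50e, [], [], []⟩))) (.node (.node (.node (.leaf ⟨nat_lit 0, nat_lit 1, nat_lit 1, nat_lit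 0, nat_lit 0x10f2b8c3, nat_lit 0x4f160e10, [], [], []⟩) (.leaf ⟨nat_lit 1, nat_lit 10, nat_lit 11, nat_lit 0x15ed5ba24, nat_lit 0xc18863043, nat_lit 0x5294e54462, [], [], []⟩)) (.leaf ⟨nat_lit 1, nat_lit 10, nat_lit 10, nat_lit 0x330ae705cb, nat_lit 0x11731e68b8a2, nat_lit 0x2544cd805c2, [], [], []⟩)) (.node (.node (.leaf ⟨nat_lit 1, nat_lit 7, nat_lit 10, nat_lit 0x452c72989, nat_lit 0x3be0c2054c, nat_lit 0x119af5b145, [], [], []⟩) (.leaf ⟨nat_lit 1, nat_lit 14, nat_lit 10, nat_lit 0x228c568e0a, nat_lit 0x399cc729d1, nat_lit 0xa6247a58f, [], [], []⟩)) (.leaf ⟨nat_lit 1, nat_lit 10, nat_lit 10, nat_lit 0x228250b0c201, nat_lit 0x2a731cb5ae22, nat_lit 0x962c0b1c5, [], [], []⟩)))) (.node (.node (.node (.node (.leaf ⟨nat_lit 0, nat_lit 1, nat_lit 1, nat_lit 0, nat_lit 0x1e6395c6, nat_lit 0x90a48ad0d, [], [], []⟩) (.leaf ⟨nat_lit 1, nat_lit 10,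 nat_lit 10, nat_lit 0x5d058dc9, nat_lit 0x18aa0e8aa21, nat_lit 0x398c29982, [], [], []⟩)) (.leaf ⟨nat_lit 1, nat_lit 10, nat_lit 9, nat_lit 0x6458e2c20d, nat_lit 0x457020625, nat_lit 0x18294269022, [], [], []⟩)) (.node (.node (.leaf ⟨nat_lit 2, nat_lit 0, nat_lit 0, nat_lit 0x25e5729a8, nat_lit 0, nat_lit 0, [], [], [nat_lit 4131, nat_lit 0x2bd876ac43, nat_lit 0x1891a8b1]⟩) (.leaf ⟨nat_lit 1, nat_lit 14, nat_lit 10, nat_lit 0x415b010607, nat_lit 0x18add0340a2, nat_lit 0x19677be0a, [], [], []⟩)) (.leaf ⟨nat_lit 1, nat_lit 10, nat_lit 10, nat_lit 0x2811ec80da1, nat_lit 0x8b0ab61e2e, nat_lit 0x11b1d16b843, [], [], []⟩))) (.node (.node (.node (.leaf ⟨nat_lit 0, nat_lit 1, nat_lit 1, nat_lit 0, nat_lit 0x1362514182, nat_lit 0x136222c182, [], [], []⟩) (.leaf ⟨nat_lit 1, nat_lit 12, nat_lit 10, nat_lit 0xdcb7a84d, nat_lit 0x32a1054491, nat_lit 0x157053171,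 [], [], []⟩)) (.leaf ⟨nat_lit 1, nat_lit 10, nat_lit 10, nat_lit 0x5b951738ca, nat_lit 0x4bd6c214c1, nat_lit 0x402f82ca1, [], [], []⟩)) (.node (.leaf ⟨nat_lit 1, nat_lit 10, nat_lit 9, nat_lit 0x63c8c3320f, nat_lit 0x1916e6ae02, nat_lit 0x708866a1cd, [], [], []⟩) (.leaf ⟨nat_lit 1, nat_lit 10, nat_lit 10, nat_lit 0x38b1cb73043, nat_lit 0x12a1063a27, nat_lit 0x84b4916be02, [], [], []⟩))))

noncomputable def F34 : GT Fa := .node (.node (.node (.node (.node (.leaf ⟨nat_lit 0, nat_lit 4, nat_lit 4, nat_lit 0, nat_lit 0x1483208642886410c85, nat_lit 0x6429064, [], [], []⟩) (.leaf ⟨nat_lit 1, nat_lit 10, nat_lit 10, nat_lit 0x541f154146, nat_lit 0x811447c4ab, nat_lit 0x27b54e4ad62, [], [], []⟩)) (.leaf ⟨nat_lit 1, nat_lit 10, nat_lit 10, nat_lit 0x125a38102b, nat_lit 0x1384d23a2b, nat_lit 0x2b9ab6bdad, [], [], []⟩)) (.node (.node (.leaf ⟨nat_lit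 0, nat_lit 1, nat_lit 1, nat_lit 0, nat_lit 0x444ae8a5c5, nat_lit 0xbc705c1c9, [], [], []⟩) (.leaf ⟨nat_lit 1, nat_lit 12, nat_lit 9, nat_lit 0x112026c0a2, nat_lit 0x38199163881, nat_lit 0x61d857b122, [], [], []⟩)) (.leaf ⟨nat_lit 1, nat_lit 10, nat_lit 10, nat_lit 0x52a0a4b0eb, nat_lit 0x1b971618ee, nat_lit 0xb16d68451, [], [], []⟩))) (.node (.node (.node (.leaf ⟨nat_lit 0, nat_lit 1, nat_lit 1, nat_lit 0, nat_lit 0x446c2c4e1, nat_lit 0xa8795c6, [], [], []⟩) (.leaf ⟨nat_lit 1, nat_lit 10, nat_lit 11, nat_lit 0x31122689e22, nat_lit 0x291ed6b9a3, nat_lit 0x82c7169891, [], [], []⟩)) (.leaf ⟨nat_lit 1, nat_lit 10, nat_lit 10, nat_lit 0x96a1b05b182, nat_lit 0x5291163131, nat_lit 0x38906306e, [], [], []⟩)) (.node (.node (.leaf ⟨nat_lit 1, nat_lit 7, nat_lit 10, nat_lit 0x44ae8b22a, nat_lit 0x4545b162da1, nat_lit 0x3997013521, [], [], []⟩) (.leaf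 ⟨nat_lit 1, nat_lit 14, nat_lit 14, nat_lit 0x991685c3, nat_lit 0x11c20b5b546, nat_lit 0x22d11230a1, [], [], []⟩)) (.leaf ⟨nat_lit 1, nat_lit 9, nat_lit 10, nat_lit 0x12ccc529c2, nat_lit 0xd72c8573461, nat_lit 0x64044329cb, [], [], []⟩)))) (.node (.node (.node (.node (.leaf ⟨nat_lit 0, nat_lit 1, nat_lit 1, nat_lit 0, nat_lit 0x3cca411ce, nat_lit 0xc42c80609, [], [], []⟩) (.leaf ⟨nat_lit 1, nat_lit 9, nat_lit 10, nat_lit 0xb2356f4c621, nat_lit 0x7c4ad8096e, nat_lit 0x6be2751981, [], [], []⟩)) (.leaf ⟨nat_lit 1, nat_lit 10, nat_lit 8, nat_lit 0x121ab5b041, nat_lit 0x784cc73225, nat_lit 0x8cc510af, [], [], []⟩)) (.node (.node (.leaf ⟨nat_lit 2, nat_lit 0, nat_lit 0, nat_lit 4, nat_lit 0, nat_lit 0, [], [], [nat_lit 0x2bd876ac43, nat_lit 0x1891a8b1, nat_lit 0x12e2b19d6b]⟩) (.leaf ⟨nat_lit 1, nat_lit 10, nat_lit 14, nat_lit 0x29cc56ae0e, nat_lit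 0x27a17038982, nat_lit 0x4aa2e6c585, [], [], []⟩)) (.leaf ⟨nat_lit 1, nat_lit 10, nat_lit 10, nat_lit 0x731c85bde1, nat_lit 0x14584640ad, nat_lit 0x55218364581, [], [], []⟩))) (.node (.node (.node (.leaf ⟨nat_lit 0, nat_lit 1, nat_lit 1, nat_lit 0, nat_lit 0x1bce583c6d, nat_lit 0x798b07a603, [], [], []⟩) (.leaf ⟨nat_lit 1, nat_lit 10, nat_lit 12, nat_lit 0x61d0c6310c, nat_lit 0x11a4af5c201, nat_lit 0x4459129943, [], [], []⟩)) (.leaf ⟨nat_lit 1, nat_lit 10, nat_lit 10, nat_lit 0x235cd5be08, nat_lit 0xb9ab41608, nat_lit 0x44984085, [], [], []⟩)) (.node (.leaf ⟨nat_lit 1, nat_lit 10, nat_lit 10, nat_lit 0x5106d23ca1, nat_lit 0xdcd58627, nat_lit 0x4b1e172c81, [], [], []⟩) (.leaf ⟨nat_lit 1, nat_lit 10, nat_lit 10, nat_lit 0x8721ab5ad81, nat_lit 0x3511497b121, nat_lit 0x132066b951, [], [], []⟩))))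

noncomputable def F35 : GT Fa := .node (.node (.node (.node (.node (.leaf ⟨nat_lit 0, nat_lit 4, nat_lit 4, nat_lit 0, nat_lit 163, nat_lit 0x2520c85, [], [], []⟩) (.leaf ⟨nat_lit 1, nat_lit 10, nat_lit 9, nat_lit 0x4163811e2, nat_lit 0x11889f16a622, nat_lit 0x13b0ea78dc3, [], [], []⟩)) (.leaf ⟨nat_lit 1, nat_lit 10, nat_lit 10, nat_lit 0x41a6641c5, nat_lit 0xd090507a942, nat_lit 0x27388c83de6, [], [], []⟩)) (.node (.node (.leaf ⟨nat_lit 0, nat_lit 1, nat_lit 1, nat_lit 0, nat_lit 0x4183e03, nat_lit 0x32c051, [], [], []⟩) (.leaf ⟨nat_lit 1, nat_lit 12, nat_lit 12, nat_lit 0x11b56b1b862, nat_lit 0x1641a170541, nat_lit 0x585ce1b4c4, [], [], []⟩)) (.leaf ⟨nat_lit 1, nat_lit 10, nat_lit 10, nat_lit 0x916c79991, nat_lit 0x240913aa2c, nat_lit 0x41ef2accf, [], [], []⟩))) (.node (.node (.node (.leaf ⟨nat_lit 0, nat_lit 1, nat_lit 1, nat_lit 0, nat_lit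 0x3d485b84d, nat_lit 0x10c477306e, [], [], []⟩) (.leaf ⟨nat_lit 1, nat_lit 10, nat_lit 11, nat_lit 0x71dc28ad62, nat_lit 0x57392d14142, nat_lit 0x232d7152582, [], [], []⟩)) (.leaf ⟨nat_lit 1, nat_lit 10, nat_lit 10, nat_lit 0x5b8d064545, nat_lit 0x1241ec34502, nat_lit 0x11daf8a9ed, [], [], []⟩)) (.node (.node (.leaf ⟨nat_lit 1, nat_lit 6, nat_lit 10, nat_lit 0x42c302b94e, nat_lit 0x122c58e24, nat_lit 0x92e8096b, [], [], []⟩) (.leaf ⟨nat_lit 1, nat_lit 9, nat_lit 14, nat_lit 0x106a94c0a881, nat_lit 0x15212f841c6, nat_lit 0x42dab1a54a, [], [], []⟩)) (.leaf ⟨nat_lit 1, nat_lit 10, nat_lit 10, nat_lit 0x6b98e8ba10, nat_lit 0x2158c8b182, nat_lit 0x62daa53d46, [], [], []⟩)))) (.node (.node (.node (.node (.leaf ⟨nat_lit 0, nat_lit 1, nat_lit 1, nat_lit 0, nat_lit 0x3d2f6b905, nat_lit 0x2bcac0b5c7, [], [], []⟩) (.leaf ⟨nat_lit 1, nat_lit 10, nat_lit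 10, nat_lit 0x282ce88a942, nat_lit 0x22c0ed6be01, nat_lit 0x1331cd695d1, [], [], []⟩)) (.leaf ⟨nat_lit 1, nat_lit 10, nat_lit 10, nat_lit 0x3b1851a881, nat_lit 0x1420174482, nat_lit 0x138af58581, [], [], []⟩)) (.node (.node (.leaf ⟨nat_lit 2, nat_lit 0, nat_lit 0, nat_lit 0x2bd876ac41, nat_lit 0, nat_lit 0, [], [], [nat_lit 0x1891a8b1, nat_lit 0x12e2b19d6b, nat_lit 4131]⟩) (.leaf ⟨nat_lit 1, nat_lit 14, nat_lit 9, nat_lit 0xb16f41545, nat_lit 0x1131ef528e2, nat_lit 0x7360314548, [], [], []⟩)) (.leaf ⟨nat_lit 1, nat_lit 10, nat_lit 10, nat_lit 0x3c0c48b470, nat_lit 0x14bd1083422, nat_lit 0xacaa84190, [], [], []⟩))) (.node (.node (.node (.leaf ⟨nat_lit 0, nat_lit 1, nat_lit 1, nat_lit 0, nat_lit 0x7c0b12b8a1, nat_lit 0x8a22a8a08b, [], [], []⟩) (.leaf ⟨nat_lit 1, nat_lit 12, nat_lit 10, nat_lit 0x8d4452543, nat_lit 0x2625ed81502, nat_lit 0x6b5cc79206,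 [], [], []⟩)) (.leaf ⟨nat_lit 1, nat_lit 10, nat_lit 10, nat_lit 0xa16f7a631, nat_lit 0x761e2c42862, nat_lit 0x7414e50565, [], [], []⟩)) (.node (.leaf ⟨nat_lit 1, nat_lit 9, nat_lit 10, nat_lit 0x8d4564101, nat_lit 0x2a9a552901, nat_lit 0x245c684124, [], [], []⟩) (.leaf ⟨nat_lit 1, nat_lit 10, nat_lit 10, nat_lit 0x3641ed3ac61, nat_lit 0x6862d4adc7, nat_lit 0x313a268b4cd, [], [], []⟩))))

noncomputable def F36 : GT Fa := .node (.node (.node (.node (.node (.leaf ⟨nat_lit 0, nat_lit 4, nat_lit 4, nat_lit 0, nat_lit 0x410c8110c8520c8219022, nat_lit 4196, [], [], []⟩) (.leaf ⟨nat_lit 1, nat_lit 9, nat_lit 10, nat_lit 0x288c4cc62a01, nat_lit 0xa499ea640c2, nat_lit 0xc8118322ca1, [], [], []⟩)) (.leaf ⟨nat_lit 1, nat_lit 10, nat_lit 10, nat_lit 0x23d0d2ba0f, nat_lit 0xade40a9eb, nat_lit 0x27314772c83, [], [], []⟩)) (.node (.node (.leaf ⟨nat_lit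 0, nat_lit 1, nat_lit 1, nat_lit 0, nat_lit 0x11990445ad, nat_lit 0x8a8421a3, [], [], []⟩) (.leaf ⟨nat_lit 1, nat_lit 12, nat_lit 10, nat_lit 0x7a590641a9, nat_lit 0x1bd4d7308a, nat_lit 0x9961729a8, [], [], []⟩)) (.leaf ⟨nat_lit 1, nat_lit 10, nat_lit 10, nat_lit 0x15318be0a, nat_lit 0x6987163942, nat_lit 0xf51def64142, [], [], []⟩))) (.node (.node (.node (.leaf ⟨nat_lit 0, nat_lit 1, nat_lit 1, nat_lit 0, nat_lit 0x15f01bc62, nat_lit 0x1070741c4, [], [], []⟩) (.leaf ⟨nat_lit 1, nat_lit 11, nat_lit 10, nat_lit 0x6288b8bdb0, nat_lit 0x12c58872e22, nat_lit 0x839ce1a8cd, [], [], []⟩)) (.leaf ⟨nat_lit 1, nat_lit 9, nat_lit 10, nat_lit 0x3de5728e2, nat_lit 0x16c1e37ae22, nat_lit 0x16316f7ad22, [], [], []⟩)) (.node (.node (.leaf ⟨nat_lit 1, nat_lit 10, nat_lit 7, nat_lit 0xa07245a6, nat_lit 0xa20b61e31, nat_lit 0x922d8ace5, [], [], []⟩) (.leaf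 ⟨nat_lit 1, nat_lit 14, nat_lit 7, nat_lit 0x2a990489a7, nat_lit 0xc0b13b941, nat_lit 0x125482a22b, [], [], []⟩)) (.leaf ⟨nat_lit 1, nat_lit 10, nat_lit 10, nat_lit 0x6c1ca81d48, nat_lit 0x5106a625e5, nat_lit 0x4ba228a482, [], [], []⟩)))) (.node (.node (.node (.node (.leaf ⟨nat_lit 0, nat_lit 1, nat_lit 1, nat_lit 0, nat_lit 0x23e277c481, nat_lit 0x5f04bd10, [], [], []⟩) (.leaf ⟨nat_lit 1, nat_lit 10, nat_lit 10, nat_lit 0x6306a89941, nat_lit 0x262c8c28e21, nat_lit 0x2222b8b102, [], [], []⟩)) (.leaf ⟨nat_lit 1, nat_lit 10, nat_lit 9, nat_lit 0x444714be0d, nat_lit 0x22441646b961, nat_lit 0x7be0b19841, [], [], []⟩)) (.node (.node (.leaf ⟨nat_lit 2, nat_lit 0, nat_lit 0, nat_lit 0x310160c81, nat_lit 0, nat_lit 0, [], [], [nat_lit 0x12e2b19d6b, nat_lit 4131, nat_lit 0x2bd876ac43]⟩) (.leaf ⟨nat_lit 1, nat_lit 14, nat_lit 10, nat_lit 0x1310b8c5f1,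 nat_lit 0x4996b4b430, nat_lit 0x8398b83508, [], [], []⟩)) (.leaf ⟨nat_lit 1, nat_lit 10, nat_lit 10, nat_lit 0x2218f8adc7, nat_lit 0x10da97c624, nat_lit 0xb20f8b507, [], [], []⟩))) (.node (.node (.node (.leaf ⟨nat_lit 0, nat_lit 1, nat_lit 1, nat_lit 0, nat_lit 0x7c20e81062, nat_lit 0x1416c51224, [], [], []⟩) (.leaf ⟨nat_lit 1, nat_lit 7, nat_lit 12, nat_lit 0x2b88e338c2, nat_lit 0x7a4ac81581, nat_lit 0x272dc371563, [], [], []⟩)) (.leaf ⟨nat_lit 1, nat_lit 10, nat_lit 7, nat_lit 0x15ad6378d45, nat_lit 0x24362e82de2, nat_lit 0x5cb0c206, [], [], []⟩)) (.node (.leaf ⟨nat_lit 1, nat_lit 10, nat_lit 9, nat_lit 0xc0c4ed69142, nat_lit 0x66442c7c141, nat_lit 0x12b4cb1c628, [], [], []⟩) (.leaf ⟨nat_lit 1, nat_lit 10, nat_lit 10, nat_lit 0x30335b048c83, nat_lit 0x8acc4744a2, nat_lit 0x88837220e, [], [], []⟩))))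

noncomputable def F37 : GT Fa := .node (.node (.node (.node (.node (.leaf ⟨nat_lit 0, nat_lit 1, nat_lit 1, nat_lit 0, nat_lit 0xc8219022190a320c8219022, nat_lit 0x6520c85, [], [], []⟩) (.leaf ⟨nat_lit 1, nat_lit 10, nat_lit 10, nat_lit 0x33ae2b819a1, nat_lit 0x80a0e8a0a2, nat_lit 0x1b9d0539b1, [], [], []⟩)) (.leaf ⟨nat_lit 1, nat_lit 10, nat_lit 9, nat_lit 0x4c4a86a98e, nat_lit 0xc5b60362162, nat_lit 0x89a2d53e0f, [], [], []⟩)) (.node (.node (.leaf ⟨nat_lit 0, nat_lit 1, nat_lit 1, nat_lit 0, nat_lit 0x1d8828982, nat_lit 0x13471194c2, [], [], []⟩) (.leaf ⟨nat_lit 1, nat_lit 10, nat_lit 12, nat_lit 0x48b8ea7be21, nat_lit 0x1260589181, nat_lit 0x13b22c34161, [], [], []⟩)) (.leaf ⟨nat_lit 1, nat_lit 10, nat_lit 10, nat_lit 0x3402b2b5c4, nat_lit 0x25405083602, nat_lit 0x168e266ae0d, [], [], []⟩))) (.node (.node (.node (.leaf ⟨nat_lit 0, nat_lit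 1, nat_lit 1, nat_lit 0, nat_lit 0x796058b8a1, nat_lit 0x5222d5bd88, [], [], []⟩) (.leaf ⟨nat_lit 1, nat_lit 10, nat_lit 11, nat_lit 0x16c1ca69da1, nat_lit 0xa19051c31, nat_lit 0x2a224b186, [], [], []⟩)) (.leaf ⟨nat_lit 1, nat_lit 10, nat_lit 10, nat_lit 0x1c9810ad, nat_lit 0x1c549689a7, nat_lit 0x4e6443153841, [], [], []⟩)) (.node (.node (.leaf ⟨nat_lit 1, nat_lit 7, nat_lit 10, nat_lit 0xe1ad304be22, nat_lit 0x13d848260b, nat_lit 0x28112e5a5cb, [], [], []⟩) (.leaf ⟨nat_lit 1, nat_lit 14, nat_lit 10, nat_lit 0x52b89dce, nat_lit 0x416416f79841, nat_lit 0x505aa82ca2, [], [], []⟩)) (.leaf ⟨nat_lit 1, nat_lit 10, nat_lit 10, nat_lit 0x105e37ac2d, nat_lit 0xc19621735c2, nat_lit 0x3130c58354d, [], [], []⟩)))) (.node (.node (.node (.node (.leaf ⟨nat_lit 0, nat_lit 1, nat_lit 1, nat_lit 0, nat_lit 0x1be0f34121, nat_lit 0x4c50e8b8e3, [], [], []⟩)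 (.leaf ⟨nat_lit 1, nat_lit 10, nat_lit 10, nat_lit 0xb0c5e78c5a1, nat_lit 0x31420c8a5c1, nat_lit 0x27b5a65adc9, [], [], []⟩)) (.leaf ⟨nat_lit 1, nat_lit 10, nat_lit 10, nat_lit 0x247394e82222, nat_lit 0x57b11114441, nat_lit 0x26bcef7b5e2, [], [], []⟩)) (.node (.node (.leaf ⟨nat_lit 0, nat_lit 6, nat_lit 6, nat_lit 0, nat_lit 0x26251418b, nat_lit 0x1196c298cb, [], [], []⟩) (.leaf ⟨nat_lit 1, nat_lit 8, nat_lit 14, nat_lit 0x43d4161e08, nat_lit 0x456613c62, nat_lit 0x8a94150e, [], [], []⟩)) (.leaf ⟨nat_lit 1, nat_lit 9, nat_lit 10, nat_lit 0x3da88c568, nat_lit 0x621516318b, nat_lit 0x2c52d735a8, [], [], []⟩))) (.node (.node (.node (.leaf ⟨nat_lit 0, nat_lit 1, nat_lit 1, nat_lit 0, nat_lit 0x2be05895c1, nat_lit 0x335ca640cb, [], [], []⟩) (.leaf ⟨nat_lit 1, nat_lit 10, nat_lit 12, nat_lit 0x35a518441, nat_lit 0xc4442c62221, nat_lit 0x8118c14543,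 [], [], []⟩)) (.leaf ⟨nat_lit 1, nat_lit 10, nat_lit 10, nat_lit 0x2322769562, nat_lit 0x2ad8b1b962, nat_lit 0x1d511bdea, [], [], []⟩)) (.node (.leaf ⟨nat_lit 1, nat_lit 10, nat_lit 10, nat_lit 0x629c65a02c, nat_lit 0x3b98e23c31, nat_lit 0x10b080441, [], [], []⟩) (.leaf ⟨nat_lit 1, nat_lit 10, nat_lit 10, nat_lit 0x38515a46a, nat_lit 0x319eb7b48f, nat_lit 0x2c655c5cd, [], [], []⟩))))

noncomputable def F38 : GT Fa := .node (.node (.node (.node (.node (.leaf ⟨nat_lit 2, nat_lit 0, nat_lit 0, nat_lit 1, nat_lit 0, nat_lit 0, [], [], [nat_lit 1]⟩) (.leaf ⟨nat_lit 1, nat_lit 10, nat_lit 10, nat_lit 0xc62c9063882, nat_lit 0x1298f3b18b, nat_lit 0x27a16983526, [], [], []⟩)) (.leaf ⟨nat_lit 1, nat_lit 10, nat_lit 9, nat_lit 0x35454c34122, nat_lit 0x4515e57b142, nat_lit 0x8a18e33505, [], [], []⟩)) (.node (.node (.leaf ⟨nat_lit 0, nat_lit 1, nat_lit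 1, nat_lit 0, nat_lit 0x2bd304bc62, nat_lit 0x94e691aa, [], [], []⟩) (.leaf ⟨nat_lit 1, nat_lit 12, nat_lit 11, nat_lit 0x253e2162202, nat_lit 0x13a2d5210d, nat_lit 0x6ac237ae2f, [], [], []⟩)) (.leaf ⟨nat_lit 1, nat_lit 10, nat_lit 10, nat_lit 0x4b88e72d0d, nat_lit 0x171e2c130a8, nat_lit 0x6888f510a1, [], [], []⟩))) (.node (.node (.node (.leaf ⟨nat_lit 0, nat_lit 1, nat_lit 1, nat_lit 0, nat_lit 0xbcf11b422, nat_lit 0xde8639c5, [], [], []⟩) (.leaf ⟨nat_lit 1, nat_lit 11, nat_lit 10, nat_lit 0x5b1d053206, nat_lit 0x241a18298b, nat_lit 0x88b4716bca1, [], [], []⟩)) (.leaf ⟨nat_lit 1, nat_lit 10, nat_lit 10, nat_lit 0x45246c5ec, nat_lit 0x95c5ad54582, nat_lit 0x26ad3053e2d, [], [], []⟩)) (.node (.node (.leaf ⟨nat_lit 1, nat_lit 9, nat_lit 10, nat_lit 0x541c484062, nat_lit 0x20bd6d89202, nat_lit 0xbcea69e21, [], [], []⟩) (.leaf ⟨nat_lit 1, nat_lit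 14, nat_lit 9, nat_lit 0x4a17069201, nat_lit 0x1196d4c0ab, nat_lit 0x534ed72d86, [], [], []⟩)) (.leaf ⟨nat_lit 1, nat_lit 10, nat_lit 10, nat_lit 0x119c418b161, nat_lit 0x143a3114591, nat_lit 0x16b4b083da9, [], [], []⟩)))) (.node (.node (.node (.node (.leaf ⟨nat_lit 0, nat_lit 1, nat_lit 1, nat_lit 0, nat_lit 0x5b9440a901, nat_lit 0x15f079a09, [], [], []⟩) (.leaf ⟨nat_lit 1, nat_lit 10, nat_lit 10, nat_lit 0xa32dcb38961, nat_lit 0x4e483523, nat_lit 0x27bc6f799b1, [], [], []⟩)) (.leaf ⟨nat_lit 1, nat_lit 10, nat_lit 10, nat_lit 0xb831467a982, nat_lit 0x4b1ef4b1ea, nat_lit 0x22b4ce5a1f0, [], [], []⟩)) (.node (.node (.leaf ⟨nat_lit 0, nat_lit 6, nat_lit 6, nat_lit 0, nat_lit 0x11112d66, nat_lit 0xa6a82e, [], [], []⟩) (.leaf ⟨nat_lit 1, nat_lit 10, nat_lit 14, nat_lit 0x442e6aa0e, nat_lit 0x106aa0a2bda2, nat_lit 0x41a16bc2c, [], [], []⟩)) (.leaf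 ⟨nat_lit 1, nat_lit 10, nat_lit 10, nat_lit 0x1b4e21b18e, nat_lit 0x298d0745e1, nat_lit 0x89a933e0b, [], [], []⟩))) (.node (.node (.node (.leaf ⟨nat_lit 0, nat_lit 1, nat_lit 1, nat_lit 0, nat_lit 0x2505507bce1, nat_lit 0x1ef684ad, [], [], []⟩) (.leaf ⟨nat_lit 1, nat_lit 12, nat_lit 10, nat_lit 0x27a9ce4b4c2, nat_lit 0x8d4a315a1, nat_lit 0x79206685a6, [], [], []⟩)) (.leaf ⟨nat_lit 1, nat_lit 10, nat_lit 10, nat_lit 0x139cb83947, nat_lit 0x3615ad33161, nat_lit 0x15adb06a08b, [], [], []⟩)) (.node (.leaf ⟨nat_lit 1, nat_lit 9, nat_lit 10, nat_lit 0x753da769461, nat_lit 0x2c4713b431, nat_lit 0x1a5eb0b542, [], [], []⟩) (.leaf ⟨nat_lit 1, nat_lit 10, nat_lit 10, nat_lit 0xadb149185, nat_lit 0x4be0981a05, nat_lit 0x8861013968, [], [], []⟩))))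

noncomputable def F39 : GT Fa := .node (.node (.node (.node (.node (.leaf ⟨nat_lit 0, nat_lit 0, nat_lit 0, nat_lit 0, nat_lit 1, nat_lit 1, [], [], []⟩) (.leaf ⟨nat_lit 1, nat_lit 10, nat_lit 10, nat_lit 0x1431cd81022, nat_lit 0x33344b63de2, nat_lit 0x8b49121a0e, [], [], []⟩)) (.leaf ⟨nat_lit 1, nat_lit 10, nat_lit 10, nat_lit 0x744b17a9ef, nat_lit 0x223e10718ab, nat_lit 0x89a2463964, [], [], []⟩)) (.node (.node (.leaf ⟨nat_lit 0, nat_lit 1, nat_lit 1, nat_lit 0, nat_lit 0x1214e538a2, nat_lit 0x1bc904bd62, [], [], []⟩) (.leaf ⟨nat_lit 1, nat_lit 12, nat_lit 12, nat_lit 0x3be086b9c5, nat_lit 0x6396269481, nat_lit 0x4302a62a06, [], [], []⟩)) (.leaf ⟨nat_lit 1, nat_lit 10, nat_lit 10, nat_lit 0x2b98c590af, nat_lit 0x47c46c82483, nat_lit 0x268dd01a9e1, [], [], []⟩))) (.node (.node (.node (.leaf ⟨nat_lit 0, nat_lit 1, nat_lit 1, nat_lit 0, nat_lit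 0x130d064102, nat_lit 0x95e783c6d, [], [], []⟩) (.leaf ⟨nat_lit 1, nat_lit 11, nat_lit 8, nat_lit 0xa350541, nat_lit 0xb9901c1e4, nat_lit 0x329af7a167, [], [], []⟩)) (.leaf ⟨nat_lit 1, nat_lit 10, nat_lit 10, nat_lit 0x3451794c4, nat_lit 0x715e67ad6d, nat_lit 0x841c462481, [], [], []⟩)) (.node (.node (.leaf ⟨nat_lit 1, nat_lit 7, nat_lit 10, nat_lit 0x1a94d89881, nat_lit 0x8aa53830, nat_lit 0x1352c8b5a7, [], [], []⟩) (.leaf ⟨nat_lit 1, nat_lit 10, nat_lit 14, nat_lit 0x8629c2695a2, nat_lit 0xa90f1bc8d, nat_lit 0x32298783988, [], [], []⟩)) (.leaf ⟨nat_lit 1, nat_lit 10, nat_lit 10, nat_lit 0x1445af7c1e2, nat_lit 0x45c62d31c82, nat_lit 0x168e068b627, [], [], []⟩)))) (.node (.node (.node (.node (.leaf ⟨nat_lit 0, nat_lit 1, nat_lit 1, nat_lit 0, nat_lit 0xbd426bd62, nat_lit 0x53bcae, [], [], []⟩) (.leaf ⟨nat_lit 1, nat_lit 10, nat_lit 10, nat_lit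 0x2cac545a4, nat_lit 0x26956b8a1a1, nat_lit 0x6906d33523, [], [], []⟩)) (.leaf ⟨nat_lit 1, nat_lit 9, nat_lit 10, nat_lit 0xd6668604, nat_lit 0xe43ccd6b921, nat_lit 0x1a8af3c584, [], [], []⟩)) (.node (.node (.leaf ⟨nat_lit 2, nat_lit 0, nat_lit 0, nat_lit 4193, nat_lit 0, nat_lit 0, [], [], [nat_lit 0x521056a902, nat_lit 4131, nat_lit 0x14d89607]⟩) (.leaf ⟨nat_lit 1, nat_lit 14, nat_lit 10, nat_lit 0xd51191329c1, nat_lit 0x15911b949, nat_lit 0x220c834a6, [], [], []⟩)) (.leaf ⟨nat_lit 1, nat_lit 10, nat_lit 10, nat_lit 0x1ade18b5a6, nat_lit 0x12a2951990, nat_lit 0x1260f5b110, [], [], []⟩))) (.node (.node (.node (.leaf ⟨nat_lit 0, nat_lit 1, nat_lit 1, nat_lit 0, nat_lit 0x4bd304bc62, nat_lit 0x10cee60dc1, [], [], []⟩) (.leaf ⟨nat_lit 1, nat_lit 10, nat_lit 12, nat_lit 0x6417023231, nat_lit 0x36c0c15b8a2, nat_lit 0x4388b74164, [], [], []⟩))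 (.leaf ⟨nat_lit 1, nat_lit 10, nat_lit 10, nat_lit 0x2c18a88d8a, nat_lit 0xa5e633e21, nat_lit 0x6ba0e119e3, [], [], []⟩)) (.node (.leaf ⟨nat_lit 1, nat_lit 10, nat_lit 10, nat_lit 0xc8f51991, nat_lit 0x828aa529c1, nat_lit 0x4a8b1713b882, [], [], []⟩) (.leaf ⟨nat_lit 1, nat_lit 10, nat_lit 9, nat_lit 0x49a0e1314c, nat_lit 0x22c1ad13c22, nat_lit 0x414e59942, [], [], []⟩))))

noncomputable def F40 : GT Fa := .node (.node (.node (.node (.node (.leaf ⟨nat_lit 0, nat_lit 1, nat_lit 1, nat_lit 0, nat_lit 1, nat_lit 1, [], [], []⟩) (.leaf ⟨nat_lit 1, nat_lit 10, nat_lit 10, nat_lit 0x7641e98a982, nat_lit 0xb2088bdf0, nat_lit 0x25ad7064507, [], [], []⟩)) (.leaf ⟨nat_lit 1, nat_lit 10, nat_lit 10, nat_lit 0xa1518b8b0, nat_lit 0x7adb1411d0, nat_lit 0xa60f1accb, [], [], []⟩)) (.node (.node (.leaf ⟨nat_lit 0, nat_lit 1, nat_lit 1, nat_lit 0, nat_lit 0x15e572461,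 nat_lit 0x711b0b1, [], [], []⟩) (.leaf ⟨nat_lit 1, nat_lit 12, nat_lit 10, nat_lit 0x28114e8c622, nat_lit 0x3bd446288c, nat_lit 0x3410b82a0c, [], [], []⟩)) (.leaf ⟨nat_lit 1, nat_lit 10, nat_lit 10, nat_lit 0x178d8c5a451, nat_lit 0x6bd44730a1, nat_lit 0x4ae021b48b, [], [], []⟩))) (.node (.node (.node (.leaf ⟨nat_lit 0, nat_lit 1, nat_lit 1, nat_lit 0, nat_lit 0xa588130e2, nat_lit 0x18533505, [], [], []⟩) (.leaf ⟨nat_lit 1, nat_lit 11, nat_lit 10, nat_lit 0x689f06bd6c, nat_lit 0x15cc32950, nat_lit 0x7bcac81a2a, [], [], []⟩)) (.leaf ⟨nat_lit 1, nat_lit 10, nat_lit 10, nat_lit 0x1c5ce0b94d, nat_lit 0x142a21645c2, nat_lit 0x38b11b1c6, [], [], []⟩)) (.node (.node (.leaf ⟨nat_lit 1, nat_lit 10, nat_lit 10, nat_lit 0x8a38a4c4, nat_lit 0xa0c20b68dc1, nat_lit 0x31896b62e, [], [], []⟩) (.leaf ⟨nat_lit 1, nat_lit 14, nat_lit 10, nat_lit 0x35415b565,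 nat_lit 0xc5a97454c, nat_lit 0x7a1ec61943, [], [], []⟩)) (.leaf ⟨nat_lit 1, nat_lit 10, nat_lit 10, nat_lit 0x421ef429c1, nat_lit 0x2454a88a31, nat_lit 0x8b14873526, [], [], []⟩)))) (.node (.node (.node (.node (.leaf ⟨nat_lit 0, nat_lit 1, nat_lit 1, nat_lit 0, nat_lit 0xde6395c6, nat_lit 0xc46c121a2, [], [], []⟩) (.leaf ⟨nat_lit 1, nat_lit 10, nat_lit 10, nat_lit 0xb3adea81841, nat_lit 0x5398454541, nat_lit 0x23951331e5, [], [], []⟩)) (.leaf ⟨nat_lit 1, nat_lit 10, nat_lit 10, nat_lit 0xc441e8791a1, nat_lit 0x6a14f51cc1, nat_lit 0xa60b4c4e1, [], [], []⟩)) (.node (.node (.leaf ⟨nat_lit 2, nat_lit 0, nat_lit 0, nat_lit 0x5c5e913221, nat_lit 0, nat_lit 0, [], [], [nat_lit 4131, nat_lit 0x14d89607, nat_lit 4]⟩) (.leaf ⟨nat_lit 1, nat_lit 14, nat_lit 10, nat_lit 0x1291895c422, nat_lit 0x1135ea421a2, nat_lit 0xbc71299e5, [], [], []⟩)) (.leaf ⟨nat_lit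 1, nat_lit 10, nat_lit 10, nat_lit 0x85862863da1, nat_lit 0xc121cc89581, nat_lit 0x1141418c50e, [], [], []⟩))) (.node (.node (.node (.leaf ⟨nat_lit 0, nat_lit 1, nat_lit 1, nat_lit 0, nat_lit 0x4452e89422, nat_lit 0x1ef694ce, [], [], []⟩) (.leaf ⟨nat_lit 1, nat_lit 12, nat_lit 12, nat_lit 0x53e0d30dc3, nat_lit 0xe83d81528a2, nat_lit 0x15bd4a531c5, [], [], []⟩)) (.leaf ⟨nat_lit 1, nat_lit 10, nat_lit 10, nat_lit 0x425af5362c, nat_lit 0x13e2d4bc2a, nat_lit 0x734ea7bd8a, [], [], []⟩)) (.node (.leaf ⟨nat_lit 1, nat_lit 10, nat_lit 10, nat_lit 0x3357070a02, nat_lit 0x1a1ea7c48d, nat_lit 0x7acad2b14e, [], [], []⟩) (.leaf ⟨nat_lit 1, nat_lit 10, nat_lit 10, nat_lit 0x18919024101, nat_lit 0xb04c58a2d, nat_lit 0x2bd6e8a5a3, [], [], []⟩))))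

noncomputable def F41 : GT Fa := .node (.node (.node (.node (.node (.leaf ⟨nat_lit 2, nat_lit 0, nat_lit 0, nat_lit 3, nat_lit 0, nat_lit 0, [], [], [nat_lit 3]⟩) (.leaf ⟨nat_lit 1, nat_lit 10, nat_lit 10, nat_lit 0xb0b98b5c101, nat_lit 0x3416e72cad, nat_lit 0x26c11061ded, [], [], []⟩)) (.leaf ⟨nat_lit 1, nat_lit 10, nat_lit 10, nat_lit 0x27ad872b822, nat_lit 0x107b0ce5bd62, nat_lit 0x26b9a771c22, [], [], []⟩)) (.node (.node (.leaf ⟨nat_lit 0, nat_lit 1, nat_lit 1, nat_lit 0, nat_lit 0xdec73908, nat_lit 0x105c2689a3, [], [], []⟩) (.leaf ⟨nat_lit 1, nat_lit 10, nat_lit 12, nat_lit 0x7414d5b8b0, nat_lit 0x13e2572621, nat_lit 0x28258a535ef, [], [], []⟩)) (.leaf ⟨nat_lit 1, nat_lit 10, nat_lit 10, nat_lit 0x35b1f06c482, nat_lit 0x245e86b9cc, nat_lit 0x12c16c8b144, [], [], []⟩))) (.node (.node (.node (.leaf ⟨nat_lit 0, nat_lit 1, nat_lit 1, nat_lit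 0, nat_lit 0x11158e8adc2, nat_lit 0x609e82b8a3, [], [], []⟩) (.leaf ⟨nat_lit 1, nat_lit 11, nat_lit 10, nat_lit 0xb44f7c4af, nat_lit 0x7b22f3a9e1, nat_lit 0x4bda34306a, [], [], []⟩)) (.leaf ⟨nat_lit 1, nat_lit 10, nat_lit 10, nat_lit 0x3da180601, nat_lit 0x529f164030, nat_lit 0x7a166545e5, [], [], []⟩)) (.node (.node (.leaf ⟨nat_lit 1, nat_lit 7, nat_lit 10, nat_lit 0x29af3142d, nat_lit 0x288970721c1, nat_lit 0x8adad4c0c6, [], [], []⟩) (.leaf ⟨nat_lit 1, nat_lit 7, nat_lit 14, nat_lit 0x12bdec540a1, nat_lit 0x14c62c41e0e, nat_lit 0x1145eb79ca3, [], [], []⟩)) (.leaf ⟨nat_lit 1, nat_lit 10, nat_lit 10, nat_lit 0x26306f1a841, nat_lit 0x11b48a231e2, nat_lit 0x86e608c5, [], [], []⟩)))) (.node (.node (.node (.node (.leaf ⟨nat_lit 0, nat_lit 1, nat_lit 1, nat_lit 0, nat_lit 0x1bc6c81c30, nat_lit 0x7a20a20c22, [], [], []⟩) (.leaf ⟨nat_lit 1, nat_lit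 10, nat_lit 10, nat_lit 0x44c67a861, nat_lit 0x24ad8e43e22, nat_lit 0x5335c5718a2, [], [], []⟩)) (.leaf ⟨nat_lit 1, nat_lit 10, nat_lit 10, nat_lit 0xd6b895d0, nat_lit 0x41608795d0, nat_lit 0x27356f545e1, [], [], []⟩)) (.node (.node (.leaf ⟨nat_lit 2, nat_lit 0, nat_lit 0, nat_lit 4, nat_lit 0, nat_lit 0, [], [], [nat_lit 0x14d89607, nat_lit 4, nat_lit 0x521056a902]⟩) (.leaf ⟨nat_lit 1, nat_lit 10, nat_lit 14, nat_lit 0x8a22d58a0a, nat_lit 0x120d4a79d62, nat_lit 0x45ea230e8, [], [], []⟩)) (.leaf ⟨nat_lit 1, nat_lit 10, nat_lit 10, nat_lit 0x53a2182082, nat_lit 0xf19190735c2, nat_lit 0x2609ed59da2, [], [], []⟩))) (.node (.node (.node (.leaf ⟨nat_lit 0, nat_lit 1, nat_lit 1, nat_lit 0, nat_lit 0x18828982, nat_lit 0x9a3114cd, [], [], []⟩) (.leaf ⟨nat_lit 1, nat_lit 10, nat_lit 12, nat_lit 0x23408b8c5a2, nat_lit 0x41b1848b461, nat_lit 0x922b88d6d,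 [], [], []⟩)) (.leaf ⟨nat_lit 1, nat_lit 10, nat_lit 10, nat_lit 0x170dab1c1a2, nat_lit 0x1b92b63d63, nat_lit 0x8be2d890a2, [], [], []⟩)) (.node (.leaf ⟨nat_lit 1, nat_lit 10, nat_lit 9, nat_lit 0x8711ef2bd62, nat_lit 0x15b1878ad10, nat_lit 0x81db053921, [], [], []⟩) (.leaf ⟨nat_lit 1, nat_lit 10, nat_lit 10, nat_lit 0x341ad2ade2, nat_lit 0x39ce2a902, nat_lit 0x3a84a8a1f1, [], [], []⟩))))

noncomputable def F42 : GT Fa := .node (.node (.node (.node (.node (.leaf ⟨nat_lit 0, nat_lit 0, nat_lit 0, nat_lit 0, nat_lit 3, nat_lit 3, [], [], []⟩) (.leaf ⟨nat_lit 1, nat_lit 10, nat_lit 10, nat_lit 0xd892265b942, nat_lit 0x5731026c102, nat_lit 0x263a235290e, [], [], []⟩)) (.leaf ⟨nat_lit 1, nat_lit 10, nat_lit 10, nat_lit 0x33d10835b0, nat_lit 0x13d0564583, nat_lit 0x446f63caa, [], [], []⟩)) (.node (.node (.leaf ⟨nat_lit 0, nat_lit 1, nat_lit 1,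 nat_lit 0, nat_lit 0x1993171e2e, nat_lit 0x3e097a205, [], [], []⟩) (.leaf ⟨nat_lit 1, nat_lit 12, nat_lit 7, nat_lit 0x871def34201, nat_lit 0x110b2288b9c2, nat_lit 0x125ad699c5, [], [], []⟩)) (.leaf ⟨nat_lit 1, nat_lit 10, nat_lit 9, nat_lit 0x5bc6e73549, nat_lit 0x15903904f, nat_lit 0x2241501a9c2, [], [], []⟩))) (.node (.node (.node (.leaf ⟨nat_lit 0, nat_lit 1, nat_lit 1, nat_lit 0, nat_lit 0x11a2e8388e, nat_lit 0x53d6d5c4c6, [], [], []⟩) (.leaf ⟨nat_lit 1, nat_lit 10, nat_lit 11, nat_lit 0xf6c1a84be01, nat_lit 0x5c505691f0, nat_lit 0x69069615cc, [], [], []⟩)) (.leaf ⟨nat_lit 1, nat_lit 9, nat_lit 10, nat_lit 0x1644b133962, nat_lit 0x14d12b5ab, nat_lit 0x15050c8994c, [], [], []⟩)) (.node (.node (.leaf ⟨nat_lit 1, nat_lit 10, nat_lit 9, nat_lit 0x291d0829ea, nat_lit 0x5ba225c1c6, nat_lit 0x3ba2a31dcd, [], [], []⟩) (.leaf ⟨nat_lit 1, nat_lit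 14, nat_lit 10, nat_lit 0x1b56b3a081, nat_lit 0x62d0ba04, nat_lit 0x35a88918e, [], [], []⟩)) (.leaf ⟨nat_lit 1, nat_lit 10, nat_lit 10, nat_lit 0x1532225c202, nat_lit 0x116c5ce5ba01, nat_lit 0x288d6b4ed, [], [], []⟩)))) (.node (.node (.node (.node (.leaf ⟨nat_lit 0, nat_lit 1, nat_lit 1, nat_lit 0, nat_lit 0x447168a2e, nat_lit 0x2329ca73521, [], [], []⟩) (.leaf ⟨nat_lit 1, nat_lit 10, nat_lit 10, nat_lit 0x88d50628c2, nat_lit 0x4154e3b94f, nat_lit 0x5b62129183, [], [], []⟩)) (.leaf ⟨nat_lit 1, nat_lit 10, nat_lit 10, nat_lit 0xad0a1458e, nat_lit 0x5c0d0699b1, nat_lit 0x841657c523, [], [], []⟩)) (.node (.node (.leaf ⟨nat_lit 2, nat_lit 0, nat_lit 0, nat_lit 0x29b111607, nat_lit 0, nat_lit 0, [], [], [nat_lit 4, nat_lit 0x521056a902, nat_lit 4131]⟩) (.leaf ⟨nat_lit 1, nat_lit 10, nat_lit 14, nat_lit 0x22dcb1b881, nat_lit 0x2a9468a08c, nat_lit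 0x8b8cd8bd83, [], [], []⟩)) (.leaf ⟨nat_lit 1, nat_lit 10, nat_lit 10, nat_lit 0x135ca52185, nat_lit 0x10dec1c1ab, nat_lit 0x4462562988, [], [], []⟩))) (.node (.node (.node (.leaf ⟨nat_lit 0, nat_lit 1, nat_lit 1, nat_lit 0, nat_lit 0x3cc150c82, nat_lit 0xc0a66b4c6, [], [], []⟩) (.leaf ⟨nat_lit 1, nat_lit 12, nat_lit 10, nat_lit 0x2239b00c041, nat_lit 0xb6ba2572de1, nat_lit 0x1585d12c483, [], [], []⟩)) (.leaf ⟨nat_lit 1, nat_lit 9, nat_lit 10, nat_lit 0xf1bdae1c142, nat_lit 0x4ad910b48f, nat_lit 0xc06f83a31, [], [], []⟩)) (.node (.leaf ⟨nat_lit 1, nat_lit 10, nat_lit 9, nat_lit 0x27a2278b0e1, nat_lit 0xa2b14633542, nat_lit 0xa188741a6, [], [], []⟩) (.leaf ⟨nat_lit 1, nat_lit 10, nat_lit 10, nat_lit 0x8b62813051, nat_lit 0x740cc809e2, nat_lit 0xb48e81571, [], [], []⟩))))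

noncomputable def F43 : GT Fa := .node (.node (.node (.node (.node (.leaf ⟨nat_lit 0, nat_lit 1, nat_lit 1, nat_lit 0, nat_lit 3, nat_lit 3, [], [], []⟩) (.leaf ⟨nat_lit 1, nat_lit 10, nat_lit 10, nat_lit 0x691898b031, nat_lit 0xe5ad3154522, nat_lit 0x8194c7a0b0, [], [], []⟩)) (.leaf ⟨nat_lit 1, nat_lit 10, nat_lit 7, nat_lit 0x245497452f, nat_lit 0x43d8f6bc2b, nat_lit 0x18a591431c2, [], [], []⟩)) (.node (.node (.leaf ⟨nat_lit 0, nat_lit 1, nat_lit 1, nat_lit 0, nat_lit 0x433e287c481, nat_lit 0xbe05895c5, [], [], []⟩) (.leaf ⟨nat_lit 1, nat_lit 9, nat_lit 12, nat_lit 0x728cf81061, nat_lit 0x3721b081d01, nat_lit 0x4ad5acea, [], [], []⟩)) (.leaf ⟨nat_lit 1, nat_lit 10, nat_lit 10, nat_lit 0x71a0e6ad82, nat_lit 0x135ed7c0ac, nat_lit 0x5158e2d2b041, [], [], []⟩))) (.node (.node (.node (.leaf ⟨nat_lit 0, nat_lit 1, nat_lit 1, nat_lit 0, nat_lit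 0x3e05895c5, nat_lit 0x219f143e24, [], [], []⟩) (.leaf ⟨nat_lit 1, nat_lit 11, nat_lit 10, nat_lit 0xa0c4b961, nat_lit 0x883db171482, nat_lit 0x145882b8cb, [], [], []⟩)) (.leaf ⟨nat_lit 1, nat_lit 10, nat_lit 10, nat_lit 0xa81d4c8b5e2, nat_lit 0x7b1113a862, nat_lit 0x312b7a18b, [], [], []⟩)) (.node (.node (.leaf ⟨nat_lit 1, nat_lit 9, nat_lit 10, nat_lit 0x181dcb5a602, nat_lit 0x872dca80d82, nat_lit 0x4b48d88621, [], [], []⟩) (.leaf ⟨nat_lit 1, nat_lit 12, nat_lit 14, nat_lit 0x121d1685c8, nat_lit 0x198b6bd51, nat_lit 0x15ae0d4b4ab, [], [], []⟩)) (.leaf ⟨nat_lit 1, nat_lit 10, nat_lit 10, nat_lit 0xf8ad6d5b542, nat_lit 0x16122b6a9e1, nat_lit 0x452a835e1, [], [], []⟩)))) (.node (.node (.node (.node (.leaf ⟨nat_lit 0, nat_lit 1, nat_lit 1, nat_lit 0, nat_lit 0x8920624206, nat_lit 0x9e31544ad, [], [], []⟩) (.leaf ⟨nat_lit 1, nat_lit 10, nat_lit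 10, nat_lit 0xd3456e70541, nat_lit 0xd13bd6e, nat_lit 0x318e5b103, [], [], []⟩)) (.leaf ⟨nat_lit 1, nat_lit 10, nat_lit 10, nat_lit 0xd8216e14462, nat_lit 0x34ba0c5b941, nat_lit 0xf88d4f82e21, [], [], []⟩)) (.node (.node (.leaf ⟨nat_lit 2, nat_lit 0, nat_lit 0, nat_lit 4193, nat_lit 0, nat_lit 0, [], [], [nat_lit 0x1196c298cb, nat_lit 4131, nat_lit 0x8a9a90c0a1]⟩) (.leaf ⟨nat_lit 1, nat_lit 14, nat_lit 10, nat_lit 0x115d130de1, nat_lit 0x5834cc73521, nat_lit 0x1439635b201, [], [], []⟩)) (.leaf ⟨nat_lit 1, nat_lit 10, nat_lit 10, nat_lit 0x6c11069dc7, nat_lit 0x8a0ae53942, nat_lit 0x35c35c525, [], [], []⟩))) (.node (.node (.node (.leaf ⟨nat_lit 0, nat_lit 1, nat_lit 1, nat_lit 0, nat_lit 0xc4ae8a422, nat_lit 0x10e0660982, [], [], []⟩) (.leaf ⟨nat_lit 1, nat_lit 10, nat_lit 12, nat_lit 0x531e768a07, nat_lit 0x33e24595c4, nat_lit 0x1511915a091,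 [], [], []⟩)) (.leaf ⟨nat_lit 1, nat_lit 10, nat_lit 10, nat_lit 0x34b98e528c2, nat_lit 0x6420e2144b, nat_lit 0x8b9865c627, [], [], []⟩)) (.node (.leaf ⟨nat_lit 1, nat_lit 10, nat_lit 10, nat_lit 0x199e65056f, nat_lit 0x77416f51d01, nat_lit 0x242d8f42d01, [], [], []⟩) (.leaf ⟨nat_lit 1, nat_lit 10, nat_lit 10, nat_lit 0x245f159965, nat_lit 0x2a5ad43168, nat_lit 0x173130831e1, [], [], []⟩))))

noncomputable def F44 : GT Fa := .node (.node (.node (.node (.node (.leaf ⟨nat_lit 2, nat_lit 0, nat_lit 0, nat_lit 5, nat_lit 0, nat_lit 0, [], [], [nat_lit 5]⟩) (.leaf ⟨nat_lit 1, nat_lit 10, nat_lit 10, nat_lit 0xc5f00b204, nat_lit 0x188cd6bc2e, nat_lit 0x8320f5b145, [], [], []⟩)) (.leaf ⟨nat_lit 1, nat_lit 10, nat_lit 10, nat_lit 0x1344710b0ec, nat_lit 0x690b164565, nat_lit 0x76a98c78e02, [], [], []⟩)) (.node (.node (.leaf ⟨nat_lit 0, nat_lit 1,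 nat_lit 1, nat_lit 0, nat_lit 0x1c1648314e, nat_lit 0x3129ca338c2, [], [], []⟩) (.leaf ⟨nat_lit 1, nat_lit 12, nat_lit 12, nat_lit 0x260d83891a1, nat_lit 0x2a88c5b5aa, nat_lit 0x27a1ab83d43, [], [], []⟩)) (.leaf ⟨nat_lit 1, nat_lit 10, nat_lit 10, nat_lit 0x107395062922, nat_lit 0x611f15b924, nat_lit 0x335056c586, [], [], []⟩))) (.node (.node (.node (.leaf ⟨nat_lit 0, nat_lit 1, nat_lit 1, nat_lit 0, nat_lit 0xe2542462, nat_lit 0xbded41dc5, [], [], []⟩) (.leaf ⟨nat_lit 1, nat_lit 10, nat_lit 11, nat_lit 0x1a1846b491, nat_lit 0x3895ae8a582, nat_lit 0x685a679141, [], [], []⟩)) (.leaf ⟨nat_lit 1, nat_lit 10, nat_lit 10, nat_lit 0x6c5836b550, nat_lit 0x130af1a9e9, nat_lit 0x83dad0b8e1, [], [], []⟩)) (.node (.node (.leaf ⟨nat_lit 1, nat_lit 7, nat_lit 10, nat_lit 0x589239a2, nat_lit 0x235d15b050, nat_lit 0x13d704ac2d, [], [], []⟩) (.leaf ⟨nat_lit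 1, nat_lit 14, nat_lit 6, nat_lit 0x5154a14122, nat_lit 0x595ca73504, nat_lit 0x1f123886, [], [], []⟩)) (.leaf ⟨nat_lit 1, nat_lit 10, nat_lit 10, nat_lit 0xc445e651202, nat_lit 0x22b0a164565, nat_lit 0x22a82c0a941, [], [], []⟩)))) (.node (.node (.node (.node (.leaf ⟨nat_lit 0, nat_lit 1, nat_lit 1, nat_lit 0, nat_lit 0x62a0e5, nat_lit 0x3a0a6, [], [], []⟩) (.leaf ⟨nat_lit 1, nat_lit 10, nat_lit 10, nat_lit 0x529a533228, nat_lit 0x70dc96b422, nat_lit 0x32298b68543, [], [], []⟩)) (.leaf ⟨nat_lit 1, nat_lit 10, nat_lit 10, nat_lit 0x38b96e3b5e2, nat_lit 0x4b16980450, nat_lit 0x154a699a4, [], [], []⟩)) (.node (.node (.leaf ⟨nat_lit 2, nat_lit 0, nat_lit 0, nat_lit 0x120eb62a08, nat_lit 0, nat_lit 0, [], [], [nat_lit 4131, nat_lit 0x8a9a90c0a1, nat_lit 4]⟩) (.leaf ⟨nat_lit 1, nat_lit 14, nat_lit 9, nat_lit 0x31d1291a2, nat_lit 0x25b5e88b621,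 nat_lit 0x2add1135c9, [], [], []⟩)) (.leaf ⟨nat_lit 1, nat_lit 10, nat_lit 10, nat_lit 0x1a1ab3b86c, nat_lit 0x18054961d82, nat_lit 0x1840a75bd42, [], [], []⟩))) (.node (.node (.node (.leaf ⟨nat_lit 0, nat_lit 1, nat_lit 1, nat_lit 0, nat_lit 0x1b1eb79d62, nat_lit 0xa1ec738e6, [], [], []⟩) (.leaf ⟨nat_lit 1, nat_lit 11, nat_lit 12, nat_lit 0x234a9ef13ce2, nat_lit 0xc831f064461, nat_lit 0x2e1022184, [], [], []⟩)) (.leaf ⟨nat_lit 1, nat_lit 10, nat_lit 10, nat_lit 0x2ae256b4a3, nat_lit 0x3bde62a98e, nat_lit 0x41cd8154c, [], [], []⟩)) (.node (.leaf ⟨nat_lit 1, nat_lit 10, nat_lit 9, nat_lit 0xb44d59ccd, nat_lit 0x2c42c23a0f, nat_lit 0x4bd858ad23, [], [], []⟩) (.leaf ⟨nat_lit 1, nat_lit 10, nat_lit 10, nat_lit 0x4b49132982, nat_lit 0x1c1865b8ef, nat_lit 0x731e37a9f0, [], [], []⟩))))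

noncomputable def F45 : GT Fa := .node (.node (.node (.node (.node (.leaf ⟨nat_lit 0, nat_lit 0, nat_lit 0, nat_lit 0, nat_lit 5, nat_lit 5, [], [], []⟩) (.leaf ⟨nat_lit 1, nat_lit 10, nat_lit 10, nat_lit 0x7739ad1c1e2, nat_lit 0x2b12a231f1, nat_lit 0x30a87314d, [], [], []⟩)) (.leaf ⟨nat_lit 1, nat_lit 10, nat_lit 10, nat_lit 0x22be0f8ad02, nat_lit 0x64c5ad695a2, nat_lit 0x63031229a2, [], [], []⟩)) (.node (.node (.leaf ⟨nat_lit 0, nat_lit 1, nat_lit 1, nat_lit 0, nat_lit 0x1be247ad02, nat_lit 0xc4ee8a1c3, [], [], []⟩) (.leaf ⟨nat_lit 1, nat_lit 10, nat_lit 12, nat_lit 0x73456e5c062, nat_lit 0x442c1bdec, nat_lit 0x1b50b1b565, [], [], []⟩)) (.leaf ⟨nat_lit 1, nat_lit 7, nat_lit 10, nat_lit 0x539ad53d02, nat_lit 0x264b1907a182, nat_lit 0x5c4ca8a9e8, [], [], []⟩))) (.node (.node (.node (.leaf ⟨nat_lit 0, nat_lit 1, nat_lit 1, nat_lit 0, nat_lit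 0x8b931438a1, nat_lit 0x2883745c8, [], [], []⟩) (.leaf ⟨nat_lit 1, nat_lit 11, nat_lit 10, nat_lit 0x62c1468be01, nat_lit 0x5d17bcc5, nat_lit 0xaa05744e1, [], [], []⟩)) (.leaf ⟨nat_lit 1, nat_lit 10, nat_lit 10, nat_lit 0x37254d5c561, nat_lit 0x72de48958c, nat_lit 0x5b94a2b548, [], [], []⟩)) (.node (.node (.leaf ⟨nat_lit 1, nat_lit 10, nat_lit 10, nat_lit 0x5e488dca, nat_lit 0x85519a4, nat_lit 0x335ea70988, [], [], []⟩) (.leaf ⟨nat_lit 1, nat_lit 10, nat_lit 14, nat_lit 0x1b86413deb, nat_lit 0x1b0ca0b563, nat_lit 0x688d877b201, [], [], []⟩)) (.leaf ⟨nat_lit 1, nat_lit 10, nat_lit 10, nat_lit 0x2b62b33862, nat_lit 0x3314a3a82a, nat_lit 0x88dcb4b229, [], [], []⟩)))) (.node (.node (.node (.node (.leaf ⟨nat_lit 0, nat_lit 1, nat_lit 1, nat_lit 0, nat_lit 0x1330cc83202, nat_lit 0x1e2581064, [], [], []⟩) (.leaf ⟨nat_lit 1, nat_lit 9, nat_lit 10,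 nat_lit 0x209209840c1, nat_lit 0x9d16bc90, nat_lit 0x1591448c5a8, [], [], []⟩)) (.leaf ⟨nat_lit 1, nat_lit 10, nat_lit 10, nat_lit 0xb9712b4cd, nat_lit 0xb8af89031, nat_lit 0x150551630ec, [], [], []⟩)) (.node (.node (.leaf ⟨nat_lit 2, nat_lit 0, nat_lit 0, nat_lit 4, nat_lit 0, nat_lit 0, [], [], [nat_lit 0x8a9a90c0a1, nat_lit 4, nat_lit 0x1196c298cb]⟩) (.leaf ⟨nat_lit 1, nat_lit 14, nat_lit 10, nat_lit 0x32042b4eb, nat_lit 0x6c58b6294f, nat_lit 0x891615b14d, [], [], []⟩)) (.leaf ⟨nat_lit 1, nat_lit 10, nat_lit 10, nat_lit 0x972c4f3c5a1, nat_lit 0x538838c4c1, nat_lit 0x15ac6b5c54f, [], [], []⟩))) (.node (.node (.node (.leaf ⟨nat_lit 0, nat_lit 1, nat_lit 1, nat_lit 0, nat_lit 0x162c1aa2d, nat_lit 0x9df060dc9, [], [], []⟩) (.leaf ⟨nat_lit 1, nat_lit 10, nat_lit 12, nat_lit 0x7854f83970, nat_lit 0x69d5030a2d, nat_lit 0x35cb825c1, [], [], []⟩))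 (.leaf ⟨nat_lit 1, nat_lit 10, nat_lit 10, nat_lit 0x3390b645a2, nat_lit 0x454d528a8, nat_lit 0x25118e63170, [], [], []⟩)) (.node (.leaf ⟨nat_lit 1, nat_lit 10, nat_lit 10, nat_lit 0x1360a13221, nat_lit 0xc33df1235c2, nat_lit 0x5194c64481, [], [], []⟩) (.leaf ⟨nat_lit 1, nat_lit 10, nat_lit 10, nat_lit 0xb9ce0b8c2, nat_lit 0x5ae2a2a9c3, nat_lit 0x33d4e509e8, [], [], []⟩))))

noncomputable def F46 : GT Fa := .node (.node (.node (.node (.node (.leaf ⟨nat_lit 0, nat_lit 1, nat_lit 1, nat_lit 0, nat_lit 5, nat_lit 5, [], [], []⟩) (.leaf ⟨nat_lit 1, nat_lit 10, nat_lit 10, nat_lit 0x2cab82ce1, nat_lit 0xc2be2c81922, nat_lit 0x23b4d0639a2, [], [], []⟩)) (.leaf ⟨nat_lit 1, nat_lit 10, nat_lit 10, nat_lit 0x18a9861aa0e, nat_lit 0x858dce718a2, nat_lit 0x1e1063d09, [], [], []⟩)) (.node (.node (.leaf ⟨nat_lit 0, nat_lit 1, nat_lit 1, nat_lit 0, nat_lit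 0x2b1eb79d62, nat_lit 0x10dc5798b0, [], [], []⟩) (.leaf ⟨nat_lit 1, nat_lit 12, nat_lit 12, nat_lit 0x26219073602, nat_lit 0x5242c644c2, nat_lit 0x14be1053631, [], [], []⟩)) (.leaf ⟨nat_lit 1, nat_lit 10, nat_lit 10, nat_lit 0x11a256b8e3, nat_lit 0x4429c6839a2, nat_lit 0x2b1cb58dc5, [], [], []⟩))) (.node (.node (.node (.leaf ⟨nat_lit 0, nat_lit 1, nat_lit 1, nat_lit 0, nat_lit 0x630ae80561, nat_lit 0x3e2a8b62e, [], [], []⟩) (.leaf ⟨nat_lit 1, nat_lit 11, nat_lit 10, nat_lit 0x2c0ed1bc4c, nat_lit 0x6a9d1894c7, nat_lit 0x4c7910563101, [], [], []⟩)) (.leaf ⟨nat_lit 1, nat_lit 10, nat_lit 10, nat_lit 0x221ae0e741c1, nat_lit 0x11c36c101, nat_lit 0x4adb16c0a3, [], [], []⟩)) (.node (.node (.leaf ⟨nat_lit 1, nat_lit 7, nat_lit 10, nat_lit 0x129c670a08, nat_lit 0x7a8ee6c581, nat_lit 0x695302a, [], [], []⟩) (.leaf ⟨nat_lit 1, nat_lit 9, nat_lit 14,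 nat_lit 0x15af7b52f, nat_lit 0x16318b4adc1, nat_lit 0x519518a167, [], [], []⟩)) (.leaf ⟨nat_lit 1, nat_lit 10, nat_lit 10, nat_lit 0x2bc8c4aa0a, nat_lit 0xb0ae30967, nat_lit 0x8daf520ee, [], [], []⟩)))) (.node (.node (.node (.node (.leaf ⟨nat_lit 0, nat_lit 1, nat_lit 1, nat_lit 0, nat_lit 0x1106d83d45, nat_lit 0xb0ad118ed, [], [], []⟩) (.leaf ⟨nat_lit 1, nat_lit 10, nat_lit 10, nat_lit 0xa209685cd, nat_lit 0x2369568745a2, nat_lit 0x41c882ccd, [], [], []⟩)) (.leaf ⟨nat_lit 1, nat_lit 10, nat_lit 10, nat_lit 0x1522312c18b, nat_lit 0x1511cc4bc70, nat_lit 0x24c48a13185, [], [], []⟩)) (.node (.node (.leaf ⟨nat_lit 2, nat_lit 0, nat_lit 0, nat_lit 0x26251418b, nat_lit 0, nat_lit 0, [], [], [nat_lit 4, nat_lit 0x1196c298cb, nat_lit 4131]⟩) (.leaf ⟨nat_lit 1, nat_lit 14, nat_lit 9, nat_lit 0x460e317b141, nat_lit 0x404c5b22b, nat_lit 0x70c8c3c4e3,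 [], [], []⟩)) (.leaf ⟨nat_lit 1, nat_lit 10, nat_lit 10, nat_lit 0x84208609f0, nat_lit 0xa8bc8b8c561, nat_lit 0x3d09631c7, [], [], []⟩))) (.node (.node (.node (.leaf ⟨nat_lit 0, nat_lit 1, nat_lit 1, nat_lit 0, nat_lit 0x11db12c182, nat_lit 0x13625830e2, [], [], []⟩) (.leaf ⟨nat_lit 1, nat_lit 10, nat_lit 12, nat_lit 0x7bd8a1bcc2, nat_lit 0x2735478c502, nat_lit 0x4b9d0609e6, [], [], []⟩)) (.leaf ⟨nat_lit 1, nat_lit 10, nat_lit 7, nat_lit 0x920e4c1e2, nat_lit 0x66420562e01, nat_lit 0x18260d82d83, [], [], []⟩)) (.node (.leaf ⟨nat_lit 1, nat_lit 10, nat_lit 8, nat_lit 0x56b8c48ba22, nat_lit 0x11d11b988, nat_lit 0x13458c0a8c1, [], [], []⟩) (.leaf ⟨nat_lit 1, nat_lit 10, nat_lit 10, nat_lit 0x17323152182, nat_lit 0x87392d71621, nat_lit 0x89687418f, [], [], []⟩))))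

noncomputable def F47 : GT Fa := .node (.node (.node (.node (.node (.leaf ⟨nat_lit 2, nat_lit 0, nat_lit 0, nat_lit 4, nat_lit 0, nat_lit 0, [], [], [nat_lit 164, nat_lit 4131, nat_lit 164]⟩) (.leaf ⟨nat_lit 1, nat_lit 10, nat_lit 10, nat_lit 0x53c1af7c4a2, nat_lit 0x1450c8284c, nat_lit 0x685a65c14a, [], [], []⟩)) (.leaf ⟨nat_lit 1, nat_lit 10, nat_lit 10, nat_lit 0x7c50d5c441, nat_lit 0x8193153188, nat_lit 0x699f1731c4, [], [], []⟩)) (.node (.node (.leaf ⟨nat_lit 0, nat_lit 1, nat_lit 1, nat_lit 0, nat_lit 0x13d4683822, nat_lit 0x5916c5a2, [], [], []⟩) (.leaf ⟨nat_lit 1, nat_lit 12, nat_lit 10, nat_lit 0x263d828320a, nat_lit 0x7c4a673563, nat_lit 0x718ab7adc6, [], [], []⟩)) (.leaf ⟨nat_lit 1, nat_lit 10, nat_lit 10, nat_lit 0x1439cd73441, nat_lit 0x5b947135b1, nat_lit 0x7a9c68c582, [], [], []⟩))) (.node (.node (.node (.leaf ⟨nat_lit 0,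 nat_lit 1, nat_lit 1, nat_lit 0, nat_lit 0x125615a5, nat_lit 0x615a9, [], [], []⟩) (.leaf ⟨nat_lit 1, nat_lit 11, nat_lit 10, nat_lit 0x253221835a2, nat_lit 0x2731ec531e1, nat_lit 0x26086e83d05, [], [], []⟩)) (.leaf ⟨nat_lit 1, nat_lit 10, nat_lit 9, nat_lit 0x631895b92f, nat_lit 0x58f1a8e6, nat_lit 0x430f163ce4, [], [], []⟩)) (.node (.node (.leaf ⟨nat_lit 1, nat_lit 10, nat_lit 10, nat_lit 0x120a618e5, nat_lit 0x18a65ba2e, nat_lit 0x462a3198e, [], [], []⟩) (.leaf ⟨nat_lit 1, nat_lit 10, nat_lit 14, nat_lit 0x106100aca1, nat_lit 0xf8ac4f3b202, nat_lit 0x1b98e59e0f, [], [], []⟩)) (.leaf ⟨nat_lit 1, nat_lit 10, nat_lit 10, nat_lit 0x97bd856be22, nat_lit 0x106c04c429e1, nat_lit 0xd3462d4a1c1, [], [], []⟩)))) (.node (.node (.node (.node (.leaf ⟨nat_lit 0, nat_lit 1, nat_lit 1, nat_lit 0, nat_lit 0x37c1e534121, nat_lit 0x13d65895c4, [], [], []⟩)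 (.leaf ⟨nat_lit 1, nat_lit 10, nat_lit 10, nat_lit 0x7320453881, nat_lit 0x2ca3615c5, nat_lit 0x119b15a202, [], [], []⟩)) (.leaf ⟨nat_lit 1, nat_lit 10, nat_lit 10, nat_lit 0x11154d33602, nat_lit 0x738ce544e2, nat_lit 0x53d30239a3, [], [], []⟩)) (.node (.node (.leaf ⟨nat_lit 1, nat_lit 1, nat_lit 7, nat_lit 12, nat_lit 0, nat_lit 0, [], [], []⟩) (.leaf ⟨nat_lit 1, nat_lit 10, nat_lit 14, nat_lit 0x9b1395cc, nat_lit 0x133ccb5c5e1, nat_lit 0x884af6c043, [], [], []⟩)) (.leaf ⟨nat_lit 1, nat_lit 10, nat_lit 10, nat_lit 0x17098c61da1, nat_lit 0xf5b9af2c5e1, nat_lit 0x63d3021ded, [], [], []⟩))) (.node (.node (.node (.leaf ⟨nat_lit 0, nat_lit 1, nat_lit 1, nat_lit 0, nat_lit 0x1631544ad, nat_lit 0xac82e10, [], [], []⟩) (.leaf ⟨nat_lit 1, nat_lit 9, nat_lit 12, nat_lit 0x13d4150587, nat_lit 0x6be0e5114a, nat_lit 0x444ec78da5, [], [], []⟩)) (.leaf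 ⟨nat_lit 1, nat_lit 10, nat_lit 10, nat_lit 0x2395042e0e, nat_lit 0x2a318a4c4, nat_lit 0xd8303171181, [], [], []⟩)) (.node (.leaf ⟨nat_lit 1, nat_lit 10, nat_lit 10, nat_lit 0x645aa3b1c2, nat_lit 0x1541d17ac82, nat_lit 0x27a9ec61d61, [], [], []⟩) (.leaf ⟨nat_lit 1, nat_lit 9, nat_lit 10, nat_lit 0x321044090, nat_lit 0x569dd161a22, nat_lit 0x15b0d052a01, [], [], []⟩))))

noncomputable def F48 : GT Fa := .node (.node (.node (.node (.node (.leaf ⟨nat_lit 2, nat_lit 0, nat_lit 0, nat_lit 0x29061, nat_lit 0, nat_lit 0, [], [], [nat_lit 4131, nat_lit 164, nat_lit 4131]⟩) (.leaf ⟨nat_lit 1, nat_lit 10, nat_lit 10, nat_lit 0x7ae2581c43, nat_lit 0x1221ef83628, nat_lit 0x162db069862, [], [], []⟩)) (.leaf ⟨nat_lit 1, nat_lit 10, nat_lit 10, nat_lit 0x5b0aa1b901, nat_lit 0x1141a2819a2, nat_lit 0xc512bc85, [], [], []⟩)) (.node (.node (.leaf ⟨nat_lit 0,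 nat_lit 1, nat_lit 1, nat_lit 0, nat_lit 0x15f03b030, nat_lit 0x450e60608, [], [], []⟩) (.leaf ⟨nat_lit 1, nat_lit 12, nat_lit 10, nat_lit 0x17b56e5a06a, nat_lit 0x113da97ad64, nat_lit 0x12c12c615eb, [], [], []⟩)) (.leaf ⟨nat_lit 1, nat_lit 10, nat_lit 10, nat_lit 0x8414683962, nat_lit 0x122d6e53822, nat_lit 0x2c5448b4e4, [], [], []⟩))) (.node (.node (.node (.leaf ⟨nat_lit 0, nat_lit 1, nat_lit 1, nat_lit 0, nat_lit 0x45c78b982, nat_lit 0x30518a610, [], [], []⟩) (.leaf ⟨nat_lit 1, nat_lit 11, nat_lit 9, nat_lit 0x6a9ef699c1, nat_lit 0x3519eb71602, nat_lit 0x89a88316e, [], [], []⟩)) (.leaf ⟨nat_lit 1, nat_lit 10, nat_lit 10, nat_lit 0x222d677bd4a, nat_lit 0x42cf18962f, nat_lit 0x9e24545a4, [], [], []⟩)) (.node (.node (.leaf ⟨nat_lit 1, nat_lit 10, nat_lit 10, nat_lit 0x7156c611a1, nat_lit 0xc6262c1af, nat_lit 0x6a9c34b623, [], [], []⟩) (.leaf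 ⟨nat_lit 1, nat_lit 10, nat_lit 14, nat_lit 0x71d6e8b902, nat_lit 0x6b5c62adc5, nat_lit 0x26c52e6c141, [], [], []⟩)) (.leaf ⟨nat_lit 1, nat_lit 10, nat_lit 10, nat_lit 0x333d8389d82, nat_lit 0x841b078e2c, nat_lit 0x1215c56398b, [], [], []⟩)))) (.node (.node (.node (.node (.leaf ⟨nat_lit 0, nat_lit 1, nat_lit 1, nat_lit 0, nat_lit 0x3bd6710dea, nat_lit 0x454210d, [], [], []⟩) (.leaf ⟨nat_lit 1, nat_lit 9, nat_lit 10, nat_lit 0xaa0e5c12f, nat_lit 0x19107735c4, nat_lit 0xa2265b22e, [], [], []⟩)) (.leaf ⟨nat_lit 1, nat_lit 10, nat_lit 10, nat_lit 0xd4bd8463d41, nat_lit 0x8258c3a982, nat_lit 0xc14e12187, [], [], []⟩)) (.node (.node (.leaf ⟨nat_lit 0, nat_lit 7, nat_lit 7, nat_lit 0, nat_lit 6312, nat_lit 0x68615a6, [], [], []⟩) (.leaf ⟨nat_lit 1, nat_lit 14, nat_lit 10, nat_lit 0x36a5a873201, nat_lit 0xb10972d81, nat_lit 0xc3c46c60581, [], [],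 []⟩)) (.leaf ⟨nat_lit 1, nat_lit 10, nat_lit 9, nat_lit 0x32c8582c31, nat_lit 0x58583611a2, nat_lit 0x17a0ad81561, [], [], []⟩))) (.node (.node (.node (.leaf ⟨nat_lit 0, nat_lit 1, nat_lit 1, nat_lit 0, nat_lit 0xdf079a09, nat_lit 0x4be0f31603, [], [], []⟩) (.leaf ⟨nat_lit 1, nat_lit 10, nat_lit 12, nat_lit 0x18c59983, nat_lit 0x18bc2b8b081, nat_lit 0x8d8e6b92f, [], [], []⟩)) (.leaf ⟨nat_lit 1, nat_lit 10, nat_lit 10, nat_lit 0x9e2a539cb, nat_lit 0x8b5ca7898a, nat_lit 0x2318a4c5, [], [], []⟩)) (.node (.leaf ⟨nat_lit 1, nat_lit 10, nat_lit 10, nat_lit 0xd745eb33d62, nat_lit 0x11c18a7ac22, nat_lit 0x13da67c56b, [], [], []⟩) (.leaf ⟨nat_lit 1, nat_lit 10, nat_lit 10, nat_lit 0x4454a789ec, nat_lit 0x14c1a26c5e2, nat_lit 0x16160a7c5e1, [], [], []⟩))))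

noncomputable def F49 : GT Fa := .node (.node (.node (.node (.node (.leaf ⟨nat_lit 2, nat_lit 0, nat_lit 0, nat_lit 4, nat_lit 0, nat_lit 0, [], [], [nat_lit 164, nat_lit 4131, nat_lit 164]⟩) (.leaf ⟨nat_lit 1, nat_lit 9, nat_lit 10, nat_lit 0x5bd850b9a1, nat_lit 0xb22e0b188, nat_lit 0x335aa7b20a, [], [], []⟩)) (.leaf ⟨nat_lit 1, nat_lit 10, nat_lit 10, nat_lit 0x2c44b8394f, nat_lit 0x1c62b0ad0d, nat_lit 0x7b4900ae2a, [], [], []⟩)) (.node (.node (.leaf ⟨nat_lit 0, nat_lit 1, nat_lit 1, nat_lit 0, nat_lit 0x11a0b42a2d, nat_lit 0x19064615a5, [], [], []⟩) (.leaf ⟨nat_lit 1, nat_lit 9, nat_lit 12, nat_lit 0x12e1062543, nat_lit 0x243d4f81d81, nat_lit 0x2def19225, [], [], []⟩)) (.leaf ⟨nat_lit 1, nat_lit 10, nat_lit 9, nat_lit 0x8d8751d45, nat_lit 0x1adeb69851, nat_lit 0x27319081945, [], [], []⟩))) (.node (.node (.node (.leaf ⟨nat_lit 0, nat_lit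 1, nat_lit 1, nat_lit 0, nat_lit 0x1116c2b4c9, nat_lit 0x1a5f079462, [], [], []⟩) (.leaf ⟨nat_lit 1, nat_lit 11, nat_lit 10, nat_lit 0x1262d2b566, nat_lit 0x2c0857418f, nat_lit 0x22b0af2c182, [], [], []⟩)) (.leaf ⟨nat_lit 1, nat_lit 10, nat_lit 10, nat_lit 0x15310f545e2, nat_lit 0xb5b06a14f, nat_lit 0xb8ad7a5eb, [], [], []⟩)) (.node (.node (.leaf ⟨nat_lit 1, nat_lit 10, nat_lit 10, nat_lit 0x8b98864481, nat_lit 0xa87b4ee, nat_lit 0x331d173544, [], [], []⟩) (.leaf ⟨nat_lit 1, nat_lit 14, nat_lit 10, nat_lit 0x6c1c72442b, nat_lit 0x6a9ea4c18c, nat_lit 0x195ab6a584, [], [], []⟩)) (.leaf ⟨nat_lit 1, nat_lit 10, nat_lit 10, nat_lit 0xba0d42ceb, nat_lit 0x429895158f, nat_lit 0xbe244bd6d, [], [], []⟩)))) (.node (.node (.node (.node (.leaf ⟨nat_lit 0, nat_lit 1, nat_lit 1, nat_lit 0, nat_lit 0x1282a83de7, nat_lit 0x412a10e, [], [], []⟩) (.leaf ⟨nat_lit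 1, nat_lit 10, nat_lit 10, nat_lit 0x363da18a622, nat_lit 0x25bc6f6bc8b, nat_lit 0x132a2d334c1, [], [], []⟩)) (.leaf ⟨nat_lit 1, nat_lit 10, nat_lit 10, nat_lit 0x1345a48b8ef, nat_lit 0x8256f53190, nat_lit 0x530ae8a9aa, [], [], []⟩)) (.node (.node (.leaf ⟨nat_lit 0, nat_lit 7, nat_lit 7, nat_lit 0, nat_lit 0xc541461, nat_lit 0x7adaa0b883, [], [], []⟩) (.leaf ⟨nat_lit 1, nat_lit 14, nat_lit 10, nat_lit 0x19913146d, nat_lit 0x1a22b6a981, nat_lit 0x4838d15bde1, [], [], []⟩)) (.leaf ⟨nat_lit 1, nat_lit 10, nat_lit 10, nat_lit 0x23d0b3bd8e, nat_lit 0x4341b07b522, nat_lit 0x7160882a07, [], [], []⟩))) (.node (.node (.node (.leaf ⟨nat_lit 0, nat_lit 1, nat_lit 1, nat_lit 0, nat_lit 0x2dca20548, nat_lit 0x3e063c4ae, [], [], []⟩) (.leaf ⟨nat_lit 1, nat_lit 10, nat_lit 12, nat_lit 0x1c4cd84081, nat_lit 0x7098863051, nat_lit 0x8b96b8aa26, [], [], []⟩))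 (.leaf ⟨nat_lit 1, nat_lit 9, nat_lit 10, nat_lit 0xb890235a6, nat_lit 0x11db06a0eb, nat_lit 0x2de44b56e, [], [], []⟩)) (.node (.leaf ⟨nat_lit 1, nat_lit 10, nat_lit 10, nat_lit 0x1785cd5b501, nat_lit 0xc551311f0, nat_lit 0x641f02b20a, [], [], []⟩) (.leaf ⟨nat_lit 1, nat_lit 10, nat_lit 10, nat_lit 0x12b1eb72921, nat_lit 0x2b94463102, nat_lit 0x5220e5b561, [], [], []⟩))))

noncomputable def F50 : GT Fa := .node (.node (.node (.node (.node (.leaf ⟨nat_lit 2, nat_lit 0, nat_lit 0, nat_lit 0x29061, nat_lit 0, nat_lit 0, [], [], [nat_lit 4131, nat_lit 164, nat_lit 4131]⟩) (.leaf ⟨nat_lit 1, nat_lit 10, nat_lit 10, nat_lit 0x216075c20d, nat_lit 0x2c4437b191, nat_lit 0x1122c1994a, [], [], []⟩)) (.leaf ⟨nat_lit 1, nat_lit 10, nat_lit 10, nat_lit 0x1605ad8acc1, nat_lit 0x1390e1b52b, nat_lit 0x10d865b94a, [], [], []⟩)) (.node (.node (.leaf ⟨nat_lit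 0, nat_lit 1, nat_lit 1, nat_lit 0, nat_lit 0x89af2b982, nat_lit 0x295113d0a, [], [], []⟩) (.leaf ⟨nat_lit 1, nat_lit 12, nat_lit 10, nat_lit 0x7a9ae63e21, nat_lit 0x85462a78961, nat_lit 0x3b9c483623, [], [], []⟩)) (.leaf ⟨nat_lit 1, nat_lit 10, nat_lit 10, nat_lit 0x18398b42981, nat_lit 0x27be1060da1, nat_lit 0x23201141c2, [], [], []⟩))) (.node (.node (.node (.leaf ⟨nat_lit 0, nat_lit 1, nat_lit 1, nat_lit 0, nat_lit 0x4507745c1, nat_lit 0x25f079a07, [], [], []⟩) (.leaf ⟨nat_lit 1, nat_lit 10, nat_lit 11, nat_lit 0x38382a72043, nat_lit 0x372a2b741a2, nat_lit 0x22454a319c4, [], [], []⟩)) (.leaf ⟨nat_lit 1, nat_lit 10, nat_lit 10, nat_lit 0x499ec4adf1, nat_lit 0x4b2057c08f, nat_lit 0x27b0ca7c141, [], [], []⟩)) (.node (.node (.leaf ⟨nat_lit 1, nat_lit 10, nat_lit 10, nat_lit 0x13c02d5ae21, nat_lit 0x31c3245a2, nat_lit 0x5960633de4, [], [],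 []⟩) (.leaf ⟨nat_lit 1, nat_lit 10, nat_lit 14, nat_lit 0x68862c5bda2, nat_lit 0x11160a79461, nat_lit 0x11b9ae2a988, [], [], []⟩)) (.leaf ⟨nat_lit 1, nat_lit 10, nat_lit 10, nat_lit 0x70e270c62f, nat_lit 0x505a47396b, nat_lit 0x15c62e2c5e2, [], [], []⟩)))) (.node (.node (.node (.node (.leaf ⟨nat_lit 0, nat_lit 1, nat_lit 1, nat_lit 0, nat_lit 0x11e471c83, nat_lit 0x3615a7, [], [], []⟩) (.leaf ⟨nat_lit 1, nat_lit 10, nat_lit 10, nat_lit 0x8dec3a226, nat_lit 0x125897bca1, nat_lit 0x10de33b5cc, [], [], []⟩)) (.leaf ⟨nat_lit 1, nat_lit 10, nat_lit 10, nat_lit 0x1a84f63987, nat_lit 0x18406c33a21, nat_lit 0x2834486b549, [], [], []⟩)) (.node (.node (.leaf ⟨nat_lit 0, nat_lit 7, nat_lit 7, nat_lit 0, nat_lit 5, nat_lit 0x5615a5, [], [], []⟩) (.leaf ⟨nat_lit 1, nat_lit 14, nat_lit 10, nat_lit 0xe070adf1, nat_lit 0x42c706a82c, nat_lit 0xa221640e2,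 [], [], []⟩)) (.leaf ⟨nat_lit 1, nat_lit 10, nat_lit 10, nat_lit 0x70c8b60e2b, nat_lit 0x6447140565, nat_lit 0x1212d8418e, [], [], []⟩))) (.node (.node (.node (.leaf ⟨nat_lit 0, nat_lit 1, nat_lit 1, nat_lit 0, nat_lit 0x415f07c182, nat_lit 0xa5ef4b5c9, [], [], []⟩) (.leaf ⟨nat_lit 1, nat_lit 10, nat_lit 12, nat_lit 0x8f3be23, nat_lit 0x82c51299c2, nat_lit 0x17c1d161942, [], [], []⟩)) (.leaf ⟨nat_lit 1, nat_lit 10, nat_lit 10, nat_lit 0x541687c5a7, nat_lit 0x83b5c772de1, nat_lit 0xc6227c629, [], [], []⟩)) (.node (.leaf ⟨nat_lit 1, nat_lit 10, nat_lit 10, nat_lit 0x15856a621, nat_lit 0xb16d69482, nat_lit 0xd725cb8b9a2, [], [], []⟩) (.leaf ⟨nat_lit 1, nat_lit 10, nat_lit 10, nat_lit 0x5994e0ae0d, nat_lit 0xa89189501, nat_lit 0x63a2f331c6, [], [], []⟩))))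

noncomputable def F51 : GT Fa := .node (.node (.node (.node (.node (.leaf ⟨nat_lit 2, nat_lit 0, nat_lit 0, nat_lit 4, nat_lit 0, nat_lit 0, [], [], [nat_lit 133, nat_lit 4131, nat_lit 133]⟩) (.leaf ⟨nat_lit 1, nat_lit 10, nat_lit 10, nat_lit 0xd72d8b59c83, nat_lit 0x60d4c202, nat_lit 0x20a54d795ae, [], [], []⟩)) (.leaf ⟨nat_lit 1, nat_lit 10, nat_lit 9, nat_lit 0x1731cc7992f, nat_lit 0x15b9915a222, nat_lit 0x3def52a2b, [], [], []⟩)) (.node (.node (.leaf ⟨nat_lit 0, nat_lit 1, nat_lit 1, nat_lit 0, nat_lit 0x7a90b709a1, nat_lit 0x10cee60dc3, [], [], []⟩) (.leaf ⟨nat_lit 1, nat_lit 10, nat_lit 12, nat_lit 0xc7b16e730a1, nat_lit 0x3241af5ba02, nat_lit 0x360c59a0a, [], [], []⟩)) (.leaf ⟨nat_lit 1, nat_lit 10, nat_lit 10, nat_lit 0xc1b03061141, nat_lit 0x5895020b9c2, nat_lit 0x6b5ed531ea, [], [], []⟩))) (.node (.node (.node (.leaf ⟨nat_lit 0,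 nat_lit 1, nat_lit 1, nat_lit 0, nat_lit 0x1be097c0e8, nat_lit 0x16216a62e, [], [], []⟩) (.leaf ⟨nat_lit 1, nat_lit 11, nat_lit 8, nat_lit 0xa1cc395a1, nat_lit 0x711a36c5ae, nat_lit 0xc1a324103, [], [], []⟩)) (.leaf ⟨nat_lit 1, nat_lit 10, nat_lit 10, nat_lit 0x3d2661482, nat_lit 0x5ea80965, nat_lit 0x629a43316d, [], [], []⟩)) (.node (.node (.leaf ⟨nat_lit 1, nat_lit 10, nat_lit 9, nat_lit 0x59d4f23d83, nat_lit 0xb0285c4, nat_lit 0x639835ae03, [], [], []⟩) (.leaf ⟨nat_lit 1, nat_lit 14, nat_lit 10, nat_lit 0x2157151cb1, nat_lit 0x4695c45c101, nat_lit 0x1a56373a0a, [], [], []⟩)) (.leaf ⟨nat_lit 1, nat_lit 10, nat_lit 10, nat_lit 0x87a5ec62142, nat_lit 0x1791ec63de1, nat_lit 0x31288663081, [], [], []⟩)))) (.node (.node (.node (.node (.leaf ⟨nat_lit 0, nat_lit 1, nat_lit 1, nat_lit 0, nat_lit 0xec2b4a3, nat_lit 0x6c2b4a7, [], [], []⟩) (.leaf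 ⟨nat_lit 1, nat_lit 10, nat_lit 10, nat_lit 0x156f82d2e, nat_lit 0x591e36442c, nat_lit 0xb54f63da5, [], [], []⟩)) (.leaf ⟨nat_lit 1, nat_lit 10, nat_lit 10, nat_lit 0x416096c188, nat_lit 0x2298f540a8, nat_lit 0x450c595f1, [], [], []⟩)) (.node (.node (.leaf ⟨nat_lit 0, nat_lit 7, nat_lit 7, nat_lit 0, nat_lit 0x22508a2e, nat_lit 0x5853150d, [], [], []⟩) (.leaf ⟨nat_lit 1, nat_lit 14, nat_lit 10, nat_lit 0x1404c64102, nat_lit 0x29e8805ab, nat_lit 0x306d7b485, [], [], []⟩)) (.leaf ⟨nat_lit 1, nat_lit 7, nat_lit 10, nat_lit 0x28106c8b182, nat_lit 0xe1198c62222, nat_lit 0x10e0c5ae05, [], [], []⟩))) (.node (.node (.node (.leaf ⟨nat_lit 0, nat_lit 1, nat_lit 1, nat_lit 0, nat_lit 0x899c78b8a1, nat_lit 0x9a216bcd0, [], [], []⟩) (.leaf ⟨nat_lit 1, nat_lit 10, nat_lit 12, nat_lit 0x87c1aa4b202, nat_lit 0x11be2973628, nat_lit 0x49a2653da3, [], [], []⟩))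 (.leaf ⟨nat_lit 1, nat_lit 10, nat_lit 10, nat_lit 0x59d706920e, nat_lit 0xc5cd59e2d, nat_lit 0x641ab8a590, [], [], []⟩)) (.node (.leaf ⟨nat_lit 1, nat_lit 10, nat_lit 10, nat_lit 0xb0915063da1, nat_lit 0x6c16522c6d, nat_lit 0x15458e23901, [], [], []⟩) (.leaf ⟨nat_lit 1, nat_lit 10, nat_lit 10, nat_lit 0x14c08583181, nat_lit 0x6058b8922f, nat_lit 0x828507c5a2, [], [], []⟩))))

noncomputable def F52 : GT Fa := .node (.node (.node (.node (.node (.leaf ⟨nat_lit 2, nat_lit 0, nat_lit 0, nat_lit 0x21461, nat_lit 0, nat_lit 0, [], [], [nat_lit 4131, nat_lit 133, nat_lit 4131]⟩) (.leaf ⟨nat_lit 1, nat_lit 10, nat_lit 10, nat_lit 0x7adc21b4ea, nat_lit 0x2c1a61410f, nat_lit 0x4ada96b9b0, [], [], []⟩)) (.leaf ⟨nat_lit 1, nat_lit 8, nat_lit 10, nat_lit 0x33d42795ea, nat_lit 0x452f6442c, nat_lit 0x79da67bda4, [], [], []⟩)) (.node (.node (.leaf ⟨nat_lit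 0, nat_lit 1, nat_lit 1, nat_lit 0, nat_lit 0x15f078862, nat_lit 0x3ccc725c5, [], [], []⟩) (.leaf ⟨nat_lit 1, nat_lit 10, nat_lit 12, nat_lit 0x772a106c441, nat_lit 0x75ad885ae22, nat_lit 0x31d6e72d28, [], [], []⟩)) (.leaf ⟨nat_lit 1, nat_lit 10, nat_lit 9, nat_lit 0x78d887bcc3, nat_lit 0x7c2081c143, nat_lit 0x6a15062a2c, [], [], []⟩))) (.node (.node (.node (.leaf ⟨nat_lit 0, nat_lit 1, nat_lit 1, nat_lit 0, nat_lit 0x3cb02c5c5, nat_lit 0x83983519ab, [], [], []⟩) (.leaf ⟨nat_lit 1, nat_lit 11, nat_lit 10, nat_lit 0x2d3416f82d01, nat_lit 0x244707b131, nat_lit 0x3129e62ad83, [], [], []⟩)) (.leaf ⟨nat_lit 1, nat_lit 10, nat_lit 10, nat_lit 0xc810af59182, nat_lit 0x13aa066a481, nat_lit 0x591417a9e6, [], [], []⟩)) (.node (.node (.leaf ⟨nat_lit 1, nat_lit 10, nat_lit 10, nat_lit 0x15505c209, nat_lit 0x2dc978981, nat_lit 8358, [], [], []⟩) (.leaf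 ⟨nat_lit 1, nat_lit 14, nat_lit 10, nat_lit 0x59ccb63224, nat_lit 0x346a2298c, nat_lit 0x22b44e6bcc5, [], [], []⟩)) (.leaf ⟨nat_lit 1, nat_lit 10, nat_lit 10, nat_lit 0x1318a685a2, nat_lit 0x896e594cb, nat_lit 0xbdaa7b185, [], [], []⟩)))) (.node (.node (.node (.node (.leaf ⟨nat_lit 0, nat_lit 1, nat_lit 1, nat_lit 0, nat_lit 0x218c2c501, nat_lit 0x144626b461, [], [], []⟩) (.leaf ⟨nat_lit 1, nat_lit 10, nat_lit 10, nat_lit 0x55314c33962, nat_lit 0x6611a372d21, nat_lit 0x97124142, [], [], []⟩)) (.leaf ⟨nat_lit 1, nat_lit 10, nat_lit 10, nat_lit 0x2a84f7bda8, nat_lit 0x9dcb82830, nat_lit 0x834c66be03, [], [], []⟩)) (.node (.node (.leaf ⟨nat_lit 0, nat_lit 7, nat_lit 7, nat_lit 0, nat_lit 8358, nat_lit 0xb0a62a1a3, [], [], []⟩) (.leaf ⟨nat_lit 1, nat_lit 9, nat_lit 14, nat_lit 0x28258c2ad81, nat_lit 0x18a3b8a1, nat_lit 0x2c0b0689a1, [], [], []⟩))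 (.leaf ⟨nat_lit 1, nat_lit 10, nat_lit 10, nat_lit 0x18cb63ccb, nat_lit 0x243a0f43cae, nat_lit 0x5b20e234a4, [], [], []⟩))) (.node (.node (.node (.leaf ⟨nat_lit 0, nat_lit 1, nat_lit 1, nat_lit 0, nat_lit 0x43c9024022, nat_lit 0x30ad20c83, [], [], []⟩) (.leaf ⟨nat_lit 1, nat_lit 10, nat_lit 12, nat_lit 0x49a2d7ac8d, nat_lit 0x7149072ce1, nat_lit 0x2aa0468e0b, [], [], []⟩)) (.leaf ⟨nat_lit 1, nat_lit 10, nat_lit 10, nat_lit 0x11106b528, nat_lit 0x5238a8721c1, nat_lit 0x1288522a31, [], [], []⟩)) (.node (.leaf ⟨nat_lit 1, nat_lit 10, nat_lit 10, nat_lit 0x19ed5ac8c, nat_lit 0x23ad8a0a8ca, nat_lit 0x283164624a1, [], [], []⟩) (.leaf ⟨nat_lit 1, nat_lit 10, nat_lit 10, nat_lit 0x231cd818a8, nat_lit 0x240e65b94d, nat_lit 0x6412b72e2b, [], [], []⟩))))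

noncomputable def F53 : GT Fa := .node (.node (.node (.node (.node (.leaf ⟨nat_lit 2, nat_lit 0, nat_lit 0, nat_lit 4, nat_lit 0, nat_lit 0, [], [], [nat_lit 133, nat_lit 4131, nat_lit 133]⟩) (.leaf ⟨nat_lit 1, nat_lit 10, nat_lit 10, nat_lit 0x7457023e2a, nat_lit 0x5c5ab890af, nat_lit 0x441e66ba21, [], [], []⟩)) (.leaf ⟨nat_lit 1, nat_lit 10, nat_lit 10, nat_lit 0x1bcd0689b0, nat_lit 0x3ced5b1ce, nat_lit 0x1784ca63a01, [], [], []⟩)) (.node (.node (.leaf ⟨nat_lit 0, nat_lit 1, nat_lit 1, nat_lit 0, nat_lit 0x12944811ef, nat_lit 0x7c20580dc3, [], [], []⟩) (.leaf ⟨nat_lit 1, nat_lit 12, nat_lit 10, nat_lit 0x50a2b834ae, nat_lit 0x220450dc6, nat_lit 0x5a210731c2, [], [], []⟩)) (.leaf ⟨nat_lit 1, nat_lit 10, nat_lit 10, nat_lit 0x26b9c472c82, nat_lit 0x225a3745e6, nat_lit 0x1610f01348b, [], [], []⟩))) (.node (.node (.node (.leaf ⟨nat_lit 0,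 nat_lit 1, nat_lit 1, nat_lit 0, nat_lit 0x4be077c182, nat_lit 0x188ec8320d, [], [], []⟩) (.leaf ⟨nat_lit 1, nat_lit 11, nat_lit 10, nat_lit 0x29ec74522, nat_lit 0x7c58481941, nat_lit 0x3d878916d, [], [], []⟩)) (.leaf ⟨nat_lit 1, nat_lit 10, nat_lit 10, nat_lit 0x163db18c4e1, nat_lit 0x35306c7a882, nat_lit 0x2515b143de8, [], [], []⟩)) (.node (.node (.leaf ⟨nat_lit 1, nat_lit 10, nat_lit 10, nat_lit 0x215818be25, nat_lit 0x619515ad30, nat_lit 0x1595706b882, [], [], []⟩) (.leaf ⟨nat_lit 1, nat_lit 10, nat_lit 14, nat_lit 0xe336036c1e1, nat_lit 0x5bc6d52911, nat_lit 0x1d9109df0, [], [], []⟩)) (.leaf ⟨nat_lit 1, nat_lit 10, nat_lit 9, nat_lit 0x4860e266bd62, nat_lit 0x209e24631cd, nat_lit 0x1aa1064163, [], [], []⟩)))) (.node (.node (.node (.node (.leaf ⟨nat_lit 0, nat_lit 1, nat_lit 1, nat_lit 0, nat_lit 0x2314618982, nat_lit 0x6c299a8, [], [],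 []⟩) (.leaf ⟨nat_lit 1, nat_lit 10, nat_lit 10, nat_lit 0x13a0c521b0, nat_lit 0x1a9f141d85, nat_lit 0x1614898b5c9, [], [], []⟩)) (.leaf ⟨nat_lit 1, nat_lit 10, nat_lit 10, nat_lit 14661, nat_lit 0x4611ca53942, nat_lit 0x111c2104c1c1, [], [], []⟩)) (.node (.node (.leaf ⟨nat_lit 1, nat_lit 6, nat_lit 7, nat_lit 0x19ec4b981, nat_lit 0x26046b8e6, nat_lit 0x4d17916e, [], [], []⟩) (.leaf ⟨nat_lit 1, nat_lit 12, nat_lit 14, nat_lit 0x518ae23c62, nat_lit 0x2c62c1bdab, nat_lit 0x6ad644a9ed, [], [], []⟩)) (.leaf ⟨nat_lit 1, nat_lit 10, nat_lit 10, nat_lit 0x2a60f53186, nat_lit 0x15b96c891ca, nat_lit 0x69d51245ed, [], [], []⟩))) (.node (.node (.node (.leaf ⟨nat_lit 0, nat_lit 1, nat_lit 1, nat_lit 0, nat_lit 0x14be077c182, nat_lit 0x11d90641a3, [], [], []⟩) (.leaf ⟨nat_lit 1, nat_lit 12, nat_lit 10, nat_lit 0x6412373547, nat_lit 0x4396f78601, nat_lit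 0x21b5c86bd62, [], [], []⟩)) (.leaf ⟨nat_lit 1, nat_lit 10, nat_lit 10, nat_lit 0x8343013149, nat_lit 0x5a14f51541, nat_lit 0x1a62d42e05, [], [], []⟩)) (.node (.leaf ⟨nat_lit 1, nat_lit 10, nat_lit 10, nat_lit 0x241cb39201, nat_lit 0xd2d535a4, nat_lit 0x43caf6c04b, [], [], []⟩) (.leaf ⟨nat_lit 1, nat_lit 10, nat_lit 10, nat_lit 0x19a238bdeb, nat_lit 0xb5a51c06d, nat_lit 0x21b9c6591a1, [], [], []⟩))))

noncomputable def F54 : GT Fa := .node (.node (.node (.node (.node (.leaf ⟨nat_lit 2, nat_lit 0, nat_lit 0, nat_lit 0x21461, nat_lit 0, nat_lit 0, [], [], [nat_lit 4131, nat_lit 133, nat_lit 4131]⟩) (.leaf ⟨nat_lit 1, nat_lit 10, nat_lit 10, nat_lit 0x14be2523da7, nat_lit 0x3bc918b041, nat_lit 0x772e1063ca1, [], [], []⟩)) (.leaf ⟨nat_lit 1, nat_lit 9, nat_lit 9, nat_lit 0x544ed0b5ef, nat_lit 0x8397029191, nat_lit 0x1acef23543, [], [], []⟩))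 (.node (.node (.leaf ⟨nat_lit 0, nat_lit 1, nat_lit 1, nat_lit 0, nat_lit 0x3c505745c1, nat_lit 0x1222d89162, [], [], []⟩) (.leaf ⟨nat_lit 1, nat_lit 10, nat_lit 12, nat_lit 0x818d023daf, nat_lit 0x506103a182, nat_lit 0x6ae2b3c18e, [], [], []⟩)) (.leaf ⟨nat_lit 1, nat_lit 10, nat_lit 10, nat_lit 0x82de86ae01, nat_lit 0x1716a105, nat_lit 0x7c5d02394a, [], [], []⟩))) (.node (.node (.node (.leaf ⟨nat_lit 0, nat_lit 1, nat_lit 1, nat_lit 0, nat_lit 0x689717a982, nat_lit 0x17c20580dc3, [], [], []⟩) (.leaf ⟨nat_lit 1, nat_lit 9, nat_lit 11, nat_lit 0x96783d81, nat_lit 0x105517b062, nat_lit 0x219112d6f, [], [], []⟩)) (.leaf ⟨nat_lit 1, nat_lit 10, nat_lit 7, nat_lit 0xbd2c1456b, nat_lit 0x341c5639c2, nat_lit 0x6c54c5bda4, [], [], []⟩)) (.node (.node (.leaf ⟨nat_lit 1, nat_lit 10, nat_lit 9, nat_lit 0x22218e5b1e2, nat_lit 0x795c569da1, nat_lit 0x7bca760a2e,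 [], [], []⟩) (.leaf ⟨nat_lit 1, nat_lit 10, nat_lit 14, nat_lit 0x56d5bc4f, nat_lit 0x7c56b63d41, nat_lit 0x262d6561562, [], [], []⟩)) (.leaf ⟨nat_lit 1, nat_lit 10, nat_lit 10, nat_lit 0x63cb123562, nat_lit 0x1830cf6ae02, nat_lit 0x18b90d1c5e1, [], [], []⟩)))) (.node (.node (.node (.node (.leaf ⟨nat_lit 0, nat_lit 1, nat_lit 1, nat_lit 0, nat_lit 0x158f28e2d, nat_lit 0x5ef685a9, [], [], []⟩) (.leaf ⟨nat_lit 1, nat_lit 10, nat_lit 10, nat_lit 0x825ad5a60a, nat_lit 0x2339918ace1, nat_lit 0x18a9427bca4, [], [], []⟩)) (.leaf ⟨nat_lit 1, nat_lit 10, nat_lit 10, nat_lit 0x1b60f891e7, nat_lit 0x1335cc4b9c2, nat_lit 0x3322463d22, [], [], []⟩)) (.node (.node (.leaf ⟨nat_lit 1, nat_lit 7, nat_lit 1, nat_lit 0x3dae4c48e, nat_lit 0x119b03c04f, nat_lit 0xa16e4b603, [], [], []⟩) (.leaf ⟨nat_lit 1, nat_lit 10, nat_lit 14, nat_lit 0xf7bd6f79581, nat_lit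 0x7b42a509a9, nat_lit 0x1bd817c184, [], [], []⟩)) (.leaf ⟨nat_lit 1, nat_lit 10, nat_lit 10, nat_lit 0x7b6101b128, nat_lit 0x145e18b0e2, nat_lit 0x181e0453e25, [], [], []⟩))) (.node (.node (.node (.leaf ⟨nat_lit 0, nat_lit 1, nat_lit 1, nat_lit 0, nat_lit 0x1415f07c182, nat_lit 0x25ef4b5c9, [], [], []⟩) (.leaf ⟨nat_lit 1, nat_lit 10, nat_lit 12, nat_lit 0x13e0d41221, nat_lit 0x469d8e6c101, nat_lit 0xc58f8a0b1, [], [], []⟩)) (.leaf ⟨nat_lit 1, nat_lit 10, nat_lit 10, nat_lit 0x2207164121, nat_lit 0x245cb7bc6a, nat_lit 0x2610521e6, [], [], []⟩)) (.node (.leaf ⟨nat_lit 1, nat_lit 10, nat_lit 10, nat_lit 0x78e0b6c42a, nat_lit 0x1525ec89982, nat_lit 0x118cb83a0e, [], [], []⟩) (.leaf ⟨nat_lit 1, nat_lit 10, nat_lit 10, nat_lit 0x1241ea741e2, nat_lit 0x1958353549, nat_lit 0x3130ec195a1, [], [], []⟩))))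

noncomputable def F55 : GT Fa := .node (.node (.node (.node (.node (.leaf ⟨nat_lit 2, nat_lit 0, nat_lit 0, nat_lit 13420, nat_lit 0, nat_lit 0, [], [], [nat_lit 0x68d85]⟩) (.leaf ⟨nat_lit 1, nat_lit 10, nat_lit 10, nat_lit 0x43ccd541a4, nat_lit 0x5accb1bc90, nat_lit 0x708ca83181, [], [], []⟩)) (.leaf ⟨nat_lit 1, nat_lit 10, nat_lit 10, nat_lit 0x15a1a464563, nat_lit 0x82df0539a1, nat_lit 0x2799eb63081, [], [], []⟩)) (.node (.node (.leaf ⟨nat_lit 0, nat_lit 1, nat_lit 1, nat_lit 0, nat_lit 0x23e28245c7, nat_lit 0x90f5c42b, [], [], []⟩) (.leaf ⟨nat_lit 1, nat_lit 12, nat_lit 12, nat_lit 0x4be2d5a16f, nat_lit 0x5425a27bd81, nat_lit 0x17bc8f2c1a7, [], [], []⟩)) (.leaf ⟨nat_lit 1, nat_lit 10, nat_lit 10, nat_lit 0x2439ae1c521, nat_lit 0x10b73570, nat_lit 0xbd81895af, [], [], []⟩))) (.node (.node (.node (.leaf ⟨nat_lit 0, nat_lit 1, nat_lit 1,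 nat_lit 0, nat_lit 0x7bda6621ce, nat_lit 0x121eb88563, [], [], []⟩) (.leaf ⟨nat_lit 1, nat_lit 11, nat_lit 10, nat_lit 0x5631ca72441, nat_lit 0x6b98f89207, nat_lit 0x7b4d05b605, [], [], []⟩)) (.leaf ⟨nat_lit 1, nat_lit 10, nat_lit 10, nat_lit 0x7bc8b891e2, nat_lit 0xf595af69182, nat_lit 0x23de48c4a6, [], [], []⟩)) (.node (.node (.leaf ⟨nat_lit 1, nat_lit 9, nat_lit 10, nat_lit 0x316315ad0e, nat_lit 0x1511eb7ac82, nat_lit 0x26a58c805c1, [], [], []⟩) (.leaf ⟨nat_lit 1, nat_lit 10, nat_lit 14, nat_lit 0xe1b2292b482, nat_lit 0x144c2691a2, nat_lit 0x4c50d5c1b0, [], [], []⟩)) (.leaf ⟨nat_lit 1, nat_lit 10, nat_lit 10, nat_lit 0x1394f53cf0, nat_lit 0x36c166835a2, nat_lit 0x12b5f05a162, [], [], []⟩)))) (.node (.node (.node (.node (.leaf ⟨nat_lit 0, nat_lit 1, nat_lit 1, nat_lit 0, nat_lit 0x18f28e2d, nat_lit 0x18522d82, [], [], []⟩) (.leaf ⟨nat_lit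 1, nat_lit 10, nat_lit 10, nat_lit 0x1298451ccd, nat_lit 0x23c568821a2, nat_lit 0x14c1912920d, [], [], []⟩)) (.leaf ⟨nat_lit 1, nat_lit 10, nat_lit 10, nat_lit 0x94ca5284c, nat_lit 0xb60c8260d81, nat_lit 0x2818ea6bdaa, [], [], []⟩)) (.node (.node (.leaf ⟨nat_lit 2, nat_lit 0, nat_lit 0, nat_lit 0x3a1c5239c6, nat_lit 0, nat_lit 0, [], [], [nat_lit 12, nat_lit 0x1c5877a8c1, nat_lit 0x18396788862]⟩) (.leaf ⟨nat_lit 1, nat_lit 10, nat_lit 14, nat_lit 0x253ccf624c2, nat_lit 0x8d24638b0, nat_lit 0x6b48a63c82, [], [], []⟩)) (.leaf ⟨nat_lit 1, nat_lit 10, nat_lit 10, nat_lit 0x3228230f0, nat_lit 0x299ad4104c, nat_lit 0x445a772e21, [], [], []⟩))) (.node (.node (.node (.leaf ⟨nat_lit 0, nat_lit 1, nat_lit 1, nat_lit 0, nat_lit 0x44ce3c5c5, nat_lit 0x1a216bcd0, [], [], []⟩) (.leaf ⟨nat_lit 1, nat_lit 12, nat_lit 12, nat_lit 0x429e8639c1, nat_lit 0x6396f429b1,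 nat_lit 0x142cca83483, [], [], []⟩)) (.leaf ⟨nat_lit 1, nat_lit 10, nat_lit 10, nat_lit 0xd59a0871c43, nat_lit 0x5b62d38962, nat_lit 0x18b44f8a5c2, [], [], []⟩)) (.node (.leaf ⟨nat_lit 1, nat_lit 10, nat_lit 9, nat_lit 0xac716b4a2, nat_lit 0x113bd8c624a2, nat_lit 0x26ae021b941, [], [], []⟩) (.leaf ⟨nat_lit 1, nat_lit 10, nat_lit 10, nat_lit 0x53e227c5ef, nat_lit 0x799ea6ace1, nat_lit 0x22dc78be2b, [], [], []⟩))))

noncomputable def F56 : GT Fa := .node (.node (.node (.node (.node (.leaf ⟨nat_lit 0, nat_lit 0, nat_lit 0, nat_lit 0, nat_lit 0x2b46c, nat_lit 0x68d85, [], [], []⟩) (.leaf ⟨nat_lit 1, nat_lit 10, nat_lit 10, nat_lit 0xa1350c83562, nat_lit 0x27383062c83, nat_lit 0x2c0655adc3, [], [], []⟩)) (.leaf ⟨nat_lit 1, nat_lit 10, nat_lit 10, nat_lit 0x2c6262a943, nat_lit 0xd7b53080602, nat_lit 0x11ba2f7bc43, [], [], []⟩)) (.node (.node (.leaf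 ⟨nat_lit 0, nat_lit 1, nat_lit 1, nat_lit 0, nat_lit 0xc5c78b982, nat_lit 0xb0518a610, [], [], []⟩) (.leaf ⟨nat_lit 1, nat_lit 12, nat_lit 12, nat_lit 0x42de852861, nat_lit 0x13c1c75b9a5, nat_lit 0x197020dca, [], [], []⟩)) (.leaf ⟨nat_lit 1, nat_lit 10, nat_lit 10, nat_lit 0x515c76b870, nat_lit 0x25916263082, nat_lit 0x251982528a2, [], [], []⟩))) (.node (.node (.node (.leaf ⟨nat_lit 0, nat_lit 1, nat_lit 1, nat_lit 0, nat_lit 0x10dc560dc1, nat_lit 0x52f83c62, [], [], []⟩) (.leaf ⟨nat_lit 1, nat_lit 10, nat_lit 11, nat_lit 0x169a0c7a921, nat_lit 0x53256b130a1, nat_lit 0x153c6d6a5c2, [], [], []⟩)) (.leaf ⟨nat_lit 1, nat_lit 10, nat_lit 9, nat_lit 0x135ae64184, nat_lit 0xc5c46e6a1a1, nat_lit 0x13bd8854161, [], [], []⟩)) (.node (.node (.leaf ⟨nat_lit 1, nat_lit 10, nat_lit 10, nat_lit 0x72d258306e, nat_lit 0xb13032d01, nat_lit 0x7a84673a05, [],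 [], []⟩) (.leaf ⟨nat_lit 1, nat_lit 9, nat_lit 14, nat_lit 0x1b22473102, nat_lit 0x2392d5a58b, nat_lit 0x18a0d689ec, [], [], []⟩)) (.leaf ⟨nat_lit 1, nat_lit 10, nat_lit 10, nat_lit 0x140e864621, nat_lit 0x3b56b3058e, nat_lit 0x3b9ad7c103, [], [], []⟩)))) (.node (.node (.node (.node (.leaf ⟨nat_lit 0, nat_lit 1, nat_lit 1, nat_lit 0, nat_lit 0x5914763d6d, nat_lit 0x1320c82502, [], [], []⟩) (.leaf ⟨nat_lit 1, nat_lit 10, nat_lit 10, nat_lit 0xae057c62d, nat_lit 0x4b1cd0c16e, nat_lit 0xade46c562, [], [], []⟩)) (.leaf ⟨nat_lit 1, nat_lit 10, nat_lit 10, nat_lit 0x2595c98ba02, nat_lit 0x3c856bd41, nat_lit 0x3b96b2b1cd, [], [], []⟩)) (.node (.node (.leaf ⟨nat_lit 2, nat_lit 0, nat_lit 0, nat_lit 12385, nat_lit 0, nat_lit 0, [], [], [nat_lit 0x1c5877a8c1, nat_lit 0x18396788862, nat_lit 0x3dae4c48e]⟩) (.leaf ⟨nat_lit 1, nat_lit 10, nat_lit 14, nat_lit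 0x21cd53841, nat_lit 0x808ca88568, nat_lit 0x15060f89582, [], [], []⟩)) (.leaf ⟨nat_lit 1, nat_lit 10, nat_lit 10, nat_lit 0x24448b5a5a9, nat_lit 0xb6ad6b6be02, nat_lit 0x1a58b7a14e, [], [], []⟩))) (.node (.node (.node (.leaf ⟨nat_lit 0, nat_lit 1, nat_lit 1, nat_lit 0, nat_lit 0x110f8922e, nat_lit 0x15905c209, [], [], []⟩) (.leaf ⟨nat_lit 1, nat_lit 12, nat_lit 10, nat_lit 0x12a262c18e, nat_lit 0xc1a350982, nat_lit 0x21a9ca7b10c, [], [], []⟩)) (.leaf ⟨nat_lit 1, nat_lit 10, nat_lit 10, nat_lit 0x28314c63ce2, nat_lit 0x53490540e3, nat_lit 0x8b4307adc6, [], [], []⟩)) (.node (.leaf ⟨nat_lit 1, nat_lit 9, nat_lit 10, nat_lit 0x3cac19221, nat_lit 0x444ed2b225, nat_lit 0x3141cb2b4c4, [], [], []⟩) (.leaf ⟨nat_lit 1, nat_lit 10, nat_lit 10, nat_lit 0x542dd0485a2, nat_lit 0x3b9b14456c, nat_lit 0x272cae6c022, [], [], []⟩))))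

noncomputable def F57 : GT Fa := .node (.node (.node (.node (.node (.leaf ⟨nat_lit 0, nat_lit 1, nat_lit 1, nat_lit 0, nat_lit 13420, nat_lit 0x2b46c, [], [], []⟩) (.leaf ⟨nat_lit 1, nat_lit 10, nat_lit 10, nat_lit 0x1d645316e, nat_lit 0x3caf51a2a, nat_lit 0x28b5e1638a1, [], [], []⟩)) (.leaf ⟨nat_lit 1, nat_lit 10, nat_lit 10, nat_lit 0x2ba2e0adcd, nat_lit 0x35a8691f0, nat_lit 0x61e2f52843, [], [], []⟩)) (.node (.node (.leaf ⟨nat_lit 0, nat_lit 1, nat_lit 1, nat_lit 0, nat_lit 0x144705bd84, nat_lit 0x4be0179462, [], [], []⟩) (.leaf ⟨nat_lit 1, nat_lit 12, nat_lit 10, nat_lit 0x709498b1c4, nat_lit 0x33bd510ada1, nat_lit 0x25c53144624, [], [], []⟩)) (.leaf ⟨nat_lit 1, nat_lit 10, nat_lit 10, nat_lit 0xd6b6016ae01, nat_lit 0x433b9af6c481, nat_lit 0x14b603625ca, [], [], []⟩))) (.node (.node (.node (.leaf ⟨nat_lit 0, nat_lit 1, nat_lit 1, nat_lit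 0, nat_lit 0x195e382e0e, nat_lit 0x3cd07a603, [], [], []⟩) (.leaf ⟨nat_lit 1, nat_lit 11, nat_lit 10, nat_lit 0xc1c612da1, nat_lit 0xc090b0738e1, nat_lit 0x26316d5a111, [], [], []⟩)) (.leaf ⟨nat_lit 1, nat_lit 10, nat_lit 10, nat_lit 0x6318b8216f, nat_lit 0x2240cb74082, nat_lit 0x450582a05, [], [], []⟩)) (.node (.node (.leaf ⟨nat_lit 1, nat_lit 7, nat_lit 10, nat_lit 0x89705bdec, nat_lit 0xa9f17c0c1, nat_lit 0x5216e1b8e1, [], [], []⟩) (.leaf ⟨nat_lit 1, nat_lit 14, nat_lit 10, nat_lit 0x341e28c542, nat_lit 0x8591c48bd81, nat_lit 0x288dae23da3, [], [], []⟩)) (.leaf ⟨nat_lit 1, nat_lit 10, nat_lit 10, nat_lit 0x8cb01b96d, nat_lit 0x43dec5b606, nat_lit 0x3e276ba29, [], [], []⟩)))) (.node (.node (.node (.node (.leaf ⟨nat_lit 0, nat_lit 1, nat_lit 1, nat_lit 0, nat_lit 0x11128da5, nat_lit 0x18521ccb, [], [], []⟩) (.leaf ⟨nat_lit 1, nat_lit 10,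 nat_lit 10, nat_lit 0x345ec18986, nat_lit 0x60cec899cd, nat_lit 0xd4f3c56c, [], [], []⟩)) (.leaf ⟨nat_lit 1, nat_lit 10, nat_lit 10, nat_lit 0x2be2f63dad, nat_lit 0x354e641e4, nat_lit 0x12acab735ed, [], [], []⟩)) (.node (.node (.leaf ⟨nat_lit 2, nat_lit 0, nat_lit 0, nat_lit 0x1c5877a8c3, nat_lit 0, nat_lit 0, [], [], [nat_lit 0x18396788862, nat_lit 0x3dae4c48e, nat_lit 12]⟩) (.leaf ⟨nat_lit 1, nat_lit 14, nat_lit 10, nat_lit 0x16262b942, nat_lit 0x7c1ad795aa, nat_lit 0x15b062d8e, [], [], []⟩)) (.leaf ⟨nat_lit 1, nat_lit 10, nat_lit 10, nat_lit 0x152f6394a, nat_lit 0x119b05106d, nat_lit 0x4c08979962, [], [], []⟩))) (.node (.node (.node (.leaf ⟨nat_lit 0, nat_lit 1, nat_lit 1, nat_lit 0, nat_lit 0x15f02c4ae, nat_lit 0x6448b89dad, [], [], []⟩) (.leaf ⟨nat_lit 1, nat_lit 10, nat_lit 12, nat_lit 0x452a0e69462, nat_lit 0x35cc33dec, nat_lit 0x4c5b548,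 [], [], []⟩)) (.leaf ⟨nat_lit 1, nat_lit 10, nat_lit 10, nat_lit 0xc23e2e60c83, nat_lit 0x4450b81a0b, nat_lit 0x2343082d68, [], [], []⟩)) (.node (.leaf ⟨nat_lit 1, nat_lit 10, nat_lit 10, nat_lit 0x53396c83e02, nat_lit 0x2531515bde2, nat_lit 0x51d8a34525, [], [], []⟩) (.leaf ⟨nat_lit 1, nat_lit 10, nat_lit 10, nat_lit 0x2420b5b88a, nat_lit 0xbdae6402a, nat_lit 0x738ce59503, [], [], []⟩))))

noncomputable def F58 : GT Fa := .node (.node (.node (.node (.node (.leaf ⟨nat_lit 2, nat_lit 0, nat_lit 0, nat_lit 11370, nat_lit 0, nat_lit 0, [], [], [nat_lit 0x16323ce5, nat_lit 0x346c42841, nat_lit 4131]⟩) (.leaf ⟨nat_lit 1, nat_lit 10, nat_lit 9, nat_lit 0xc0316be2f, nat_lit 0x2daf7c5cd, nat_lit 0x431d0439a5, [], [], []⟩)) (.leaf ⟨nat_lit 1, nat_lit 10, nat_lit 10, nat_lit 0x153d6533a22, nat_lit 0x8299ab134c2, nat_lit 0xd2c899aa, [], [], []⟩)) (.node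 (.node (.leaf ⟨nat_lit 0, nat_lit 1, nat_lit 1, nat_lit 0, nat_lit 0x131036c5a2, nat_lit 0x9de36c5c9, [], [], []⟩) (.leaf ⟨nat_lit 1, nat_lit 12, nat_lit 10, nat_lit 0x141451860b, nat_lit 0x2c56e59222, nat_lit 0x784b0438f1, [], [], []⟩)) (.leaf ⟨nat_lit 1, nat_lit 10, nat_lit 10, nat_lit 0x778e2d71c43, nat_lit 0x17b50371dc2, nat_lit 0x3061944, [], [], []⟩))) (.node (.node (.node (.leaf ⟨nat_lit 0, nat_lit 1, nat_lit 1, nat_lit 0, nat_lit 0x25f01bc62, nat_lit 0x140ae640c2, [], [], []⟩) (.leaf ⟨nat_lit 1, nat_lit 11, nat_lit 10, nat_lit 0x2c3c18464522, nat_lit 0x6621d17a9e2, nat_lit 0x81d8b43da3, [], [], []⟩)) (.leaf ⟨nat_lit 1, nat_lit 10, nat_lit 10, nat_lit 0xad90534e5, nat_lit 0xa78df15a201, nat_lit 0x171a2e6c1e2, [], [], []⟩)) (.node (.node (.leaf ⟨nat_lit 1, nat_lit 10, nat_lit 10, nat_lit 0x3342b2be25, nat_lit 0x26c58c31502, nat_lit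 0x241ca31441, [], [], []⟩) (.leaf ⟨nat_lit 1, nat_lit 10, nat_lit 14, nat_lit 0x139516246a, nat_lit 0x115a5b05ae01, nat_lit 0x436bc6e8a901, [], [], []⟩)) (.leaf ⟨nat_lit 1, nat_lit 10, nat_lit 10, nat_lit 0xa8bc2c644e2, nat_lit 0x8b96c2b04f, nat_lit 0x220662a28, [], [], []⟩)))) (.node (.node (.node (.node (.leaf ⟨nat_lit 0, nat_lit 1, nat_lit 1, nat_lit 0, nat_lit 0x22829850, nat_lit 0x6795c8, [], [], []⟩) (.leaf ⟨nat_lit 1, nat_lit 10, nat_lit 10, nat_lit 0x73183609ae, nat_lit 0x1245d16c081, nat_lit 0x22d2c7c565, [], [], []⟩)) (.leaf ⟨nat_lit 1, nat_lit 10, nat_lit 10, nat_lit 0x260e2324622, nat_lit 0x4b62da969161, nat_lit 0x26c12e1a1a3, [], [], []⟩)) (.node (.node (.leaf ⟨nat_lit 2, nat_lit 0, nat_lit 0, nat_lit 0x70a298b102, nat_lit 0, nat_lit 0, [], [], [nat_lit 0x3dae4c48e, nat_lit 12, nat_lit 0x1c5877a8c1]⟩) (.leaf ⟨nat_lit 1, nat_lit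 14, nat_lit 9, nat_lit 0x805cd7322a, nat_lit 0x76b8ad81061, nat_lit 0x26c54a6312b, [], [], []⟩)) (.leaf ⟨nat_lit 1, nat_lit 10, nat_lit 10, nat_lit 0x48c6215a161, nat_lit 0x88d7081dd1, nat_lit 0x18918b33542, [], [], []⟩))) (.node (.node (.node (.leaf ⟨nat_lit 0, nat_lit 1, nat_lit 1, nat_lit 0, nat_lit 0xe283ba2e, nat_lit 0x8950e8b8e3, [], [], []⟩) (.leaf ⟨nat_lit 1, nat_lit 12, nat_lit 10, nat_lit 0x5739a553881, nat_lit 0x13d914c030, nat_lit 0x26ba03638e2, [], [], []⟩)) (.leaf ⟨nat_lit 1, nat_lit 10, nat_lit 10, nat_lit 0x89a2c1c628, nat_lit 0x609d17aca6, nat_lit 0x268b5e56b981, [], [], []⟩)) (.node (.leaf ⟨nat_lit 1, nat_lit 10, nat_lit 9, nat_lit 0x345af3bd82, nat_lit 0x9aa72cac, nat_lit 0x2996181562, [], [], []⟩) (.leaf ⟨nat_lit 1, nat_lit 10, nat_lit 10, nat_lit 0x56262c8c521, nat_lit 0x8096572dc2, nat_lit 0x6c14d4ad69, [], [], []⟩))))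

noncomputable def F59 : GT Fa := .node (.node (.node (.node (.node (.leaf ⟨nat_lit 2, nat_lit 0, nat_lit 0, nat_lit 0x4b23e28, nat_lit 0, nat_lit 0, [], [], [nat_lit 0x346c42841, nat_lit 4131, nat_lit 0xb1a861]⟩) (.leaf ⟨nat_lit 1, nat_lit 10, nat_lit 9, nat_lit 0x12a1d022dc1, nat_lit 0xc5ab641cb, nat_lit 0xbd8373988, [], [], []⟩)) (.leaf ⟨nat_lit 1, nat_lit 10, nat_lit 10, nat_lit 0x286420950541, nat_lit 0x6258c0adc7, nat_lit 0xe3c1f173541, [], [], []⟩)) (.node (.node (.leaf ⟨nat_lit 0, nat_lit 1, nat_lit 1, nat_lit 0, nat_lit 0x11d8e8adc2, nat_lit 0x129c5691aa, [], [], []⟩) (.leaf ⟨nat_lit 1, nat_lit 8, nat_lit 12, nat_lit 0xbe2279562, nat_lit 0x10e340c1, nat_lit 0x15a5ef7bce1, [], [], []⟩)) (.leaf ⟨nat_lit 1, nat_lit 9, nat_lit 10, nat_lit 0x4ba0c8320e, nat_lit 0x1304c64191, nat_lit 0x5320a31d8e, [], [], []⟩))) (.node (.node (.node (.leaf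 ⟨nat_lit 0, nat_lit 1, nat_lit 1, nat_lit 0, nat_lit 0x9e95c42b, nat_lit 0xbc904bd62, [], [], []⟩) (.leaf ⟨nat_lit 1, nat_lit 10, nat_lit 11, nat_lit 0x28b1101b5c2, nat_lit 0x38aa72e2e, nat_lit 0x1c6278ada7, [], [], []⟩)) (.leaf ⟨nat_lit 1, nat_lit 10, nat_lit 10, nat_lit 0x742104ae22, nat_lit 0x46c5aa52a21, nat_lit 0x12dae82d83, [], [], []⟩)) (.node (.node (.leaf ⟨nat_lit 1, nat_lit 10, nat_lit 10, nat_lit 0x45857318c, nat_lit 0x1ad8c4c4, nat_lit 0xaded221c8, [], [], []⟩) (.leaf ⟨nat_lit 1, nat_lit 14, nat_lit 11, nat_lit 0x452d13528, nat_lit 0x471563711a2, nat_lit 0x42dd144524, [], [], []⟩)) (.leaf ⟨nat_lit 1, nat_lit 10, nat_lit 10, nat_lit 0xd7160b5c422, nat_lit 0xd0a9e20a921, nat_lit 0x23bc6c62163, [], [], []⟩)))) (.node (.node (.node (.node (.leaf ⟨nat_lit 0, nat_lit 1, nat_lit 1, nat_lit 0, nat_lit 0xd8828982, nat_lit 0x44d114cd, [],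 [], []⟩) (.leaf ⟨nat_lit 1, nat_lit 10, nat_lit 10, nat_lit 0x220d6b542, nat_lit 0xaa2c429a2, nat_lit 0x62dcb89daa, [], [], []⟩)) (.leaf ⟨nat_lit 1, nat_lit 7, nat_lit 10, nat_lit 0x220cae7420e, nat_lit 0x595c353d43, nat_lit 0xd684b069621, [], [], []⟩)) (.node (.node (.leaf ⟨nat_lit 2, nat_lit 0, nat_lit 0, nat_lit 0xa16e4b601, nat_lit 0, nat_lit 0, [], [], [nat_lit 13347, nat_lit 0x6ac8b5c161, nat_lit 0xade3521e8]⟩) (.leaf ⟨nat_lit 1, nat_lit 14, nat_lit 14, nat_lit 0x22054402e, nat_lit 0x216d73949, nat_lit 0x17b0716ba22, [], [], []⟩)) (.leaf ⟨nat_lit 1, nat_lit 10, nat_lit 10, nat_lit 0xe3444c2c141, nat_lit 0x28999023d81, nat_lit 0x19ea619cd, [], [], []⟩))) (.node (.node (.node (.leaf ⟨nat_lit 0, nat_lit 1, nat_lit 1, nat_lit 0, nat_lit 0x2be0f29a09, nat_lit 0x8c50a885c8, [], [], []⟩) (.leaf ⟨nat_lit 1, nat_lit 10, nat_lit 12, nat_lit 0x599ae1c422,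 nat_lit 0x16bd8768561, nat_lit 0x27314f69db0, [], [], []⟩)) (.leaf ⟨nat_lit 1, nat_lit 10, nat_lit 10, nat_lit 0x8998a1c58b, nat_lit 0x735e50c5ed, nat_lit 0x1810d020d83, [], [], []⟩)) (.node (.leaf ⟨nat_lit 1, nat_lit 10, nat_lit 9, nat_lit 0x2314c79146, nat_lit 0x11994f1b96c, nat_lit 0x139a2c798ed, [], [], []⟩) (.leaf ⟨nat_lit 1, nat_lit 10, nat_lit 10, nat_lit 0x43d482c0ca, nat_lit 0x6a84f3aa31, nat_lit 0x689ad11624, [], [], []⟩))))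

noncomputable def F60 : GT Fa := .node (.node (.node (.node (.node (.leaf ⟨nat_lit 2, nat_lit 0, nat_lit 0, nat_lit 0xd1b0a4, nat_lit 0, nat_lit 0, [], [], [nat_lit 4131, nat_lit 0xb1a861, nat_lit 0x16323ce5]⟩) (.leaf ⟨nat_lit 1, nat_lit 10, nat_lit 10, nat_lit 0x103c20d6b981, nat_lit 0x2398f6a5eb, nat_lit 0x28b0ab591a4, [], [], []⟩)) (.leaf ⟨nat_lit 1, nat_lit 7, nat_lit 10, nat_lit 0x1745318b510, nat_lit 0x348c629ae, nat_lit 0x27b1e481462, [], [], []⟩)) (.node (.node (.leaf ⟨nat_lit 0, nat_lit 1, nat_lit 1, nat_lit 0, nat_lit 0x1214e51dcd, nat_lit 0x22b1d15b841, [], [], []⟩) (.leaf ⟨nat_lit 1, nat_lit 12, nat_lit 7, nat_lit 0x19ccb6adc7, nat_lit 0x7b22c8218a, nat_lit 0x2640ed5b48e, [], [], []⟩)) (.leaf ⟨nat_lit 1, nat_lit 10, nat_lit 10, nat_lit 0xb611d133181, nat_lit 0x83de61c50a, nat_lit 0x1a2b82890, [], [], []⟩))) (.node (.node (.node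 (.leaf ⟨nat_lit 0, nat_lit 1, nat_lit 1, nat_lit 0, nat_lit 0x2bcb02c5c1, nat_lit 0x1241c683904, [], [], []⟩) (.leaf ⟨nat_lit 1, nat_lit 11, nat_lit 10, nat_lit 0x18a5ec83822, nat_lit 0x17ac2b5b043, nat_lit 0x25088f6b4e2, [], [], []⟩)) (.leaf ⟨nat_lit 1, nat_lit 9, nat_lit 10, nat_lit 0x2027a4a3, nat_lit 0x586266c5c1, nat_lit 0x8a0ab3c585, [], [], []⟩)) (.node (.node (.leaf ⟨nat_lit 1, nat_lit 10, nat_lit 10, nat_lit 0x30517450c, nat_lit 0x188d4e3c581, nat_lit 0x785d0545a1, [], [], []⟩) (.leaf ⟨nat_lit 1, nat_lit 14, nat_lit 8, nat_lit 0x144070735a2, nat_lit 0x183e0c23202, nat_lit 0x360278dea, [], [], []⟩)) (.leaf ⟨nat_lit 1, nat_lit 10, nat_lit 10, nat_lit 0x1538ef84185, nat_lit 0x8ac5314d, nat_lit 0x233d518bd8c, [], [], []⟩)))) (.node (.node (.node (.node (.leaf ⟨nat_lit 0, nat_lit 1, nat_lit 1, nat_lit 0, nat_lit 0x12a0c49482, nat_lit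 0x1106b0a1c1, [], [], []⟩) (.leaf ⟨nat_lit 1, nat_lit 10, nat_lit 10, nat_lit 0xc16f8c58a, nat_lit 0x18bd037a8ed, nat_lit 0x3844618e2, [], [], []⟩)) (.leaf ⟨nat_lit 1, nat_lit 9, nat_lit 10, nat_lit 0x3595cd7a161, nat_lit 0x8c56181da1, nat_lit 0x282dea3c0e2, [], [], []⟩)) (.node (.node (.leaf ⟨nat_lit 2, nat_lit 0, nat_lit 0, nat_lit 13, nat_lit 0, nat_lit 0, [], [], [nat_lit 0x6ac8b5c161, nat_lit 0xade3521e8, nat_lit 0xa16e4b603]⟩) (.leaf ⟨nat_lit 1, nat_lit 14, nat_lit 14, nat_lit 0x95696394c, nat_lit 0xa4d179944, nat_lit 0x131a2c12981, [], [], []⟩)) (.leaf ⟨nat_lit 1, nat_lit 10, nat_lit 10, nat_lit 0x4adcb2860e, nat_lit 0x2431c98b9af, nat_lit 0x195ce63d8b, [], [], []⟩))) (.node (.node (.node (.leaf ⟨nat_lit 0, nat_lit 1, nat_lit 1, nat_lit 0, nat_lit 0x13ccb241c9, nat_lit 0xbc705c1c3, [], [], []⟩) (.leaf ⟨nat_lit 1, nat_lit 12, nat_lit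 10, nat_lit 0x8d4c3aa01, nat_lit 0x35406281da2, nat_lit 0x21c46f645ca, [], [], []⟩)) (.leaf ⟨nat_lit 1, nat_lit 10, nat_lit 10, nat_lit 0x95466a982, nat_lit 0x1231827a9a2, nat_lit 0x172e2864168, [], [], []⟩)) (.node (.leaf ⟨nat_lit 1, nat_lit 10, nat_lit 10, nat_lit 0x5c20573209, nat_lit 0x571e2e0b9a1, nat_lit 0x2609c78b207, [], [], []⟩) (.leaf ⟨nat_lit 1, nat_lit 10, nat_lit 10, nat_lit 0x31a2f89da2, nat_lit 0xf7b0ab1b822, nat_lit 0x5918964541, [], [], []⟩))))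

noncomputable def F61 : GT Fa := .node (.node (.node (.node (.node (.leaf ⟨nat_lit 2, nat_lit 0, nat_lit 0, nat_lit 4, nat_lit 0, nat_lit 0, [], [], [nat_lit 0xb1a861, nat_lit 0x16323ce5, nat_lit 0x346c42841]⟩) (.leaf ⟨nat_lit 1, nat_lit 10, nat_lit 10, nat_lit 0x6a8d163945, nat_lit 0x56b5af638a1, nat_lit 0x1bde1899e1, [], [], []⟩)) (.leaf ⟨nat_lit 1, nat_lit 10, nat_lit 10, nat_lit 0x1046d711ca, nat_lit 0x5ac2c89dcb, nat_lit 0x1595c44b181, [], [], []⟩)) (.node (.node (.leaf ⟨nat_lit 0, nat_lit 1, nat_lit 1, nat_lit 0, nat_lit 0x1320f240ab, nat_lit 0x9a2e60530, [], [], []⟩) (.leaf ⟨nat_lit 1, nat_lit 12, nat_lit 10, nat_lit 0xbe231316e, nat_lit 0x42dae19187, nat_lit 0x189c4831f0, [], [], []⟩)) (.leaf ⟨nat_lit 1, nat_lit 10, nat_lit 10, nat_lit 0xf291510b1e1, nat_lit 0xa2a94d8b961, nat_lit 0x19074447, [], [], []⟩))) (.node (.node (.node (.leaf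 ⟨nat_lit 0, nat_lit 1, nat_lit 1, nat_lit 0, nat_lit 0x57a1ed7b5c1, nat_lit 0xbe0979510, [], [], []⟩) (.leaf ⟨nat_lit 1, nat_lit 8, nat_lit 11, nat_lit 0x122f1b924, nat_lit 0x5731ef0a942, nat_lit 0x1dae138cb, [], [], []⟩)) (.leaf ⟨nat_lit 1, nat_lit 10, nat_lit 10, nat_lit 0xc08e5c1c3, nat_lit 0x7910c1aa2b, nat_lit 0xd7179631, [], [], []⟩)) (.node (.node (.leaf ⟨nat_lit 1, nat_lit 7, nat_lit 10, nat_lit 0x19d8c44082, nat_lit 0x90b89606, nat_lit 0x2689a23b4c1, [], [], []⟩) (.leaf ⟨nat_lit 1, nat_lit 14, nat_lit 10, nat_lit 0x154d134a1, nat_lit 0x322474422, nat_lit 0xbc228b901, [], [], []⟩)) (.leaf ⟨nat_lit 1, nat_lit 10, nat_lit 10, nat_lit 0x1163a0263062, nat_lit 0x4c63164568, nat_lit 0x2b18a2153cc1, [], [], []⟩)))) (.node (.node (.node (.node (.leaf ⟨nat_lit 0, nat_lit 1, nat_lit 1, nat_lit 0, nat_lit 0x60e06, nat_lit 0x498a8, [], [], []⟩)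 (.leaf ⟨nat_lit 1, nat_lit 10, nat_lit 10, nat_lit 0x2304c8958a, nat_lit 0x431f12a20b, nat_lit 0x20918c71501, [], [], []⟩)) (.leaf ⟨nat_lit 1, nat_lit 10, nat_lit 10, nat_lit 0x3ccb19142, nat_lit 0x13c705150d, nat_lit 0xdae1b944, [], [], []⟩)) (.node (.node (.leaf ⟨nat_lit 2, nat_lit 0, nat_lit 0, nat_lit 0x3c903bd8e, nat_lit 0, nat_lit 0, [], [], [nat_lit 0xade3521e8, nat_lit 0xa16e4b603, nat_lit 13347]⟩) (.leaf ⟨nat_lit 1, nat_lit 14, nat_lit 10, nat_lit 0x5b08f12dc1, nat_lit 0x4565698c4, nat_lit 0xa8c7545cd, [], [], []⟩)) (.leaf ⟨nat_lit 1, nat_lit 9, nat_lit 10, nat_lit 0x145ce729af, nat_lit 0x9e0c5122e, nat_lit 0x5c54d52a2e, [], [], []⟩))) (.node (.node (.node (.leaf ⟨nat_lit 0, nat_lit 1, nat_lit 1, nat_lit 0, nat_lit 0x188130e2, nat_lit 0x58521ccb, [], [], []⟩) (.leaf ⟨nat_lit 1, nat_lit 12, nat_lit 10, nat_lit 0xa225ed74422, nat_lit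 0x18c5cd31c22, nat_lit 0x3c18f5c1e3, [], [], []⟩)) (.leaf ⟨nat_lit 1, nat_lit 10, nat_lit 10, nat_lit 0x36416e691e2, nat_lit 0x4540c720981, nat_lit 0x23c5b04b9ab, [], [], []⟩)) (.node (.leaf ⟨nat_lit 1, nat_lit 9, nat_lit 10, nat_lit 0x4729f13ac62, nat_lit 0x11298e14543, nat_lit 0x5b5e3141a5, [], [], []⟩) (.leaf ⟨nat_lit 1, nat_lit 10, nat_lit 9, nat_lit 0x95c54d134c2, nat_lit 0xa98982082, nat_lit 0x22ad836b60e, [], [], []⟩))))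

noncomputable def F62 : GT Fa := .node (.node (.node (.node (.node (.leaf ⟨nat_lit 2, nat_lit 0, nat_lit 0, nat_lit 0x470de5, nat_lit 0, nat_lit 0, [], [], [nat_lit 0xae20d49, nat_lit 0xb1a861, nat_lit 4]⟩) (.leaf ⟨nat_lit 1, nat_lit 10, nat_lit 10, nat_lit 0x8622278b4c2, nat_lit 0xaceb7b1e3, nat_lit 0x1213172e31, [], [], []⟩)) (.leaf ⟨nat_lit 1, nat_lit 10, nat_lit 10, nat_lit 0x68ae0481041, nat_lit 0x11ad888b064, nat_lit 0x410f7aa26, [], [], []⟩)) (.node (.node (.leaf ⟨nat_lit 0, nat_lit 1, nat_lit 1, nat_lit 0, nat_lit 0x12f83c62, nat_lit 0x10dc560dc1, [], [], []⟩) (.leaf ⟨nat_lit 1, nat_lit 10, nat_lit 12, nat_lit 0x92463071, nat_lit 0x6c5ec5bce2, nat_lit 0x89c7885cc, [], [], []⟩)) (.leaf ⟨nat_lit 1, nat_lit 10, nat_lit 10, nat_lit 0x20ccc8c511, nat_lit 0x310f6a60f, nat_lit 0x8256f53da1, [], [], []⟩))) (.node (.node (.node (.leaf ⟨nat_lit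 0, nat_lit 1, nat_lit 1, nat_lit 0, nat_lit 0x15e382e0e, nat_lit 0x1e683d30, [], [], []⟩) (.leaf ⟨nat_lit 1, nat_lit 11, nat_lit 10, nat_lit 0x63e2872d85, nat_lit 0x2439ca3a942, nat_lit 0x17aa0e4c202, [], [], []⟩)) (.leaf ⟨nat_lit 1, nat_lit 10, nat_lit 10, nat_lit 0x15312ba26, nat_lit 0x234ca745f0, nat_lit 0x825cd8a8e8, [], [], []⟩)) (.node (.node (.leaf ⟨nat_lit 1, nat_lit 10, nat_lit 10, nat_lit 0x9a42a9a1, nat_lit 0x231430a8c1, nat_lit 0x2290d83db0, [], [], []⟩) (.leaf ⟨nat_lit 1, nat_lit 14, nat_lit 10, nat_lit 0x53de45b961, nat_lit 0x18982d8f, nat_lit 0x28acae32d21, [], [], []⟩)) (.leaf ⟨nat_lit 1, nat_lit 10, nat_lit 10, nat_lit 0x2c56573501, nat_lit 0x21d118ae31, nat_lit 0x15b84b72d2c, [], [], []⟩)))) (.node (.node (.node (.node (.leaf ⟨nat_lit 0, nat_lit 1, nat_lit 1, nat_lit 0, nat_lit 0x421c95c5ea, nat_lit 0x19064615a1, [], [],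 []⟩) (.leaf ⟨nat_lit 1, nat_lit 10, nat_lit 10, nat_lit 0x3829a459443, nat_lit 0x26adab70862, nat_lit 0x8d2c61190, [], [], []⟩)) (.leaf ⟨nat_lit 1, nat_lit 10, nat_lit 8, nat_lit 0xb2c1712be02, nat_lit 0x4b1eb14501, nat_lit 0x17a944528c3, [], [], []⟩)) (.node (.node (.leaf ⟨nat_lit 2, nat_lit 0, nat_lit 0, nat_lit 0x119b03c04f, nat_lit 0, nat_lit 0, [], [], [nat_lit 0xa16e4b603, nat_lit 13347, nat_lit 0x6ac8b5c161]⟩) (.leaf ⟨nat_lit 1, nat_lit 14, nat_lit 9, nat_lit 0x4913b1ce, nat_lit 0x54b22b1bc82, nat_lit 0x82e895c5, [], [], []⟩)) (.leaf ⟨nat_lit 1, nat_lit 10, nat_lit 10, nat_lit 0x625ca63de4, nat_lit 0x34306f529c2, nat_lit 0x1356b725a2, [], [], []⟩))) (.node (.node (.node (.leaf ⟨nat_lit 0, nat_lit 1, nat_lit 1, nat_lit 0, nat_lit 0x21ba2a0adc1, nat_lit 0x135e68bc91, [], [], []⟩) (.leaf ⟨nat_lit 1, nat_lit 9, nat_lit 12, nat_lit 0xf51e0c439c1,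 nat_lit 0x4c1651b86c, nat_lit 0x6396c445c7, [], [], []⟩)) (.leaf ⟨nat_lit 1, nat_lit 10, nat_lit 10, nat_lit 0x1611f12a9a2, nat_lit 0x3ded2856b, nat_lit 0x3408d7b430, [], [], []⟩)) (.node (.leaf ⟨nat_lit 1, nat_lit 10, nat_lit 9, nat_lit 0x3cef521ec, nat_lit 0x28be0261a22, nat_lit 0x25a60f545ea, [], [], []⟩) (.leaf ⟨nat_lit 1, nat_lit 10, nat_lit 10, nat_lit 0x33d4e23205, nat_lit 0x4bd4d74544, nat_lit 0x31848b8c2, [], [], []⟩))))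

noncomputable def F63 : GT Fa := .node (.node (.node (.node (.node (.leaf ⟨nat_lit 2, nat_lit 0, nat_lit 0, nat_lit 0x11c37a142, nat_lit 0, nat_lit 0, [], [], [nat_lit 0xb1a861, nat_lit 4, nat_lit 0xb1a885]⟩) (.leaf ⟨nat_lit 1, nat_lit 10, nat_lit 10, nat_lit 0x531f0338e1, nat_lit 0x763e068a9a2, nat_lit 0x641ce640a6, [], [], []⟩)) (.leaf ⟨nat_lit 1, nat_lit 10, nat_lit 10, nat_lit 0x1719ad299e2, nat_lit 0x69dc26b94d, nat_lit 0x2d6c840ac, [], [], []⟩)) (.node (.node (.leaf ⟨nat_lit 0, nat_lit 1, nat_lit 1, nat_lit 0, nat_lit 0x2c5c98a1c1, nat_lit 0x5106e8b903, [], [], []⟩) (.leaf ⟨nat_lit 1, nat_lit 10, nat_lit 12, nat_lit 0x22b5ea8b5a1, nat_lit 0x22d8c0b450, nat_lit 0x253de373171, [], [], []⟩)) (.leaf ⟨nat_lit 1, nat_lit 10, nat_lit 10, nat_lit 0x27998f545a1, nat_lit 0x6b88c8bcef, nat_lit 0x1891815b981, [], [], []⟩))) (.node (.node (.node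 (.leaf ⟨nat_lit 0, nat_lit 1, nat_lit 1, nat_lit 0, nat_lit 0x1f078c41, nat_lit 0x3ccc725c3, [], [], []⟩) (.leaf ⟨nat_lit 1, nat_lit 9, nat_lit 11, nat_lit 0x90b15c4b0, nat_lit 0xce85adf1, nat_lit 0x20c52a344c1, [], [], []⟩)) (.leaf ⟨nat_lit 1, nat_lit 10, nat_lit 9, nat_lit 0x131cc89228, nat_lit 0x16410453202, nat_lit 0x509c5729ec, [], [], []⟩)) (.node (.node (.leaf ⟨nat_lit 1, nat_lit 9, nat_lit 10, nat_lit 0x55a4ae53922, nat_lit 0x11b54a8a0a2, nat_lit 0x79ccd6acab, [], [], []⟩) (.leaf ⟨nat_lit 1, nat_lit 14, nat_lit 10, nat_lit 0x4accc8ada8, nat_lit 0x12290f62541, nat_lit 0x13aa0171c82, [], [], []⟩)) (.leaf ⟨nat_lit 1, nat_lit 10, nat_lit 10, nat_lit 0xbd67705ab, nat_lit 0x8dad83ceb, nat_lit 0x20bdec745c2, [], [], []⟩)))) (.node (.node (.node (.node (.leaf ⟨nat_lit 0, nat_lit 1, nat_lit 1, nat_lit 0, nat_lit 0x32dc58a8b1, nat_lit 0xb20b2c5d0,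 [], [], []⟩) (.leaf ⟨nat_lit 1, nat_lit 10, nat_lit 10, nat_lit 0x32b5a181d02, nat_lit 0x8b62d73121, nat_lit 0x3258a7c48b, [], [], []⟩)) (.leaf ⟨nat_lit 1, nat_lit 10, nat_lit 10, nat_lit 0x18a670e0f, nat_lit 0x3c48d0c14a, nat_lit 0x8b1e66c549, [], [], []⟩)) (.node (.node (.leaf ⟨nat_lit 1, nat_lit 7, nat_lit 7, nat_lit 0x1186721ad, nat_lit 0x1440c0e4, nat_lit 0xa165809a5, [], [], []⟩) (.leaf ⟨nat_lit 1, nat_lit 10, nat_lit 14, nat_lit 0x895aa7ad01, nat_lit 0x1360a8ae06, nat_lit 0x242989715a8, [], [], []⟩)) (.leaf ⟨nat_lit 1, nat_lit 10, nat_lit 9, nat_lit 0x96086b924, nat_lit 0x8416f51882, nat_lit 0x195ef821a2, [], [], []⟩))) (.node (.node (.node (.leaf ⟨nat_lit 0, nat_lit 1, nat_lit 1, nat_lit 0, nat_lit 0x194cc625a2, nat_lit 0xc0b1ce, [], [], []⟩) (.leaf ⟨nat_lit 1, nat_lit 10, nat_lit 12, nat_lit 0x4ee69dc5, nat_lit 0x78b0cf6adc2, nat_lit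 0x13d637362e, [], [], []⟩)) (.leaf ⟨nat_lit 1, nat_lit 10, nat_lit 10, nat_lit 0x48f585d1, nat_lit 0x1239ab89181, nat_lit 0x7ac31698ca, [], [], []⟩)) (.node (.leaf ⟨nat_lit 1, nat_lit 10, nat_lit 10, nat_lit 0x81d8c2462c, nat_lit 0x7160d53cc9, nat_lit 0x19a63b46d, [], [], []⟩) (.leaf ⟨nat_lit 1, nat_lit 10, nat_lit 10, nat_lit 0x228ea8c5e1, nat_lit 0x8644ea82dc1, nat_lit 0x5a2241a4, [], [], []⟩))))

noncomputable def F64 : GT Fa := .node (.node (.node (.node (.node (.leaf ⟨nat_lit 2, nat_lit 0, nat_lit 0, nat_lit 11370, nat_lit 0, nat_lit 0, [], [], [nat_lit 4, nat_lit 0xb1a885, nat_lit 0xae20d49]⟩) (.leaf ⟨nat_lit 1, nat_lit 10, nat_lit 10, nat_lit 0x383da7641a1, nat_lit 0x16c5eb421c2, nat_lit 0x1360f5b941, [], [], []⟩)) (.leaf ⟨nat_lit 1, nat_lit 10, nat_lit 10, nat_lit 0x529cb7260c, nat_lit 0x23890840b1, nat_lit 0x129ab08db1, [], [], []⟩))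 (.node (.node (.leaf ⟨nat_lit 0, nat_lit 1, nat_lit 1, nat_lit 0, nat_lit 0x7c18183c22, nat_lit 0x322d8b443, [], [], []⟩) (.leaf ⟨nat_lit 1, nat_lit 10, nat_lit 12, nat_lit 0x88d8e64521, nat_lit 0xd340504b8a2, nat_lit 0x4a98a79462, [], [], []⟩)) (.leaf ⟨nat_lit 1, nat_lit 10, nat_lit 10, nat_lit 0x8951595cd, nat_lit 0x4c5294c42083, nat_lit 0x2c20b7920d, [], [], []⟩))) (.node (.node (.node (.leaf ⟨nat_lit 0, nat_lit 1, nat_lit 1, nat_lit 0, nat_lit 0x25f078c41, nat_lit 0x86e2b06e, [], [], []⟩) (.leaf ⟨nat_lit 1, nat_lit 11, nat_lit 10, nat_lit 0x112d6c8c541, nat_lit 0x22e1051221, nat_lit 0x27b5b021610, [], [], []⟩)) (.leaf ⟨nat_lit 1, nat_lit 10, nat_lit 10, nat_lit 0x162e0e5856b, nat_lit 0x23c30519cb, nat_lit 0x9dcd14107, [], [], []⟩)) (.node (.node (.leaf ⟨nat_lit 1, nat_lit 8, nat_lit 10, nat_lit 0xb22622da1, nat_lit 0x3162c73901, nat_lit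 167, [], [], []⟩) (.leaf ⟨nat_lit 1, nat_lit 14, nat_lit 10, nat_lit 0x2261083961, nat_lit 0x4bc8a5462b, nat_lit 0x360d1c167, [], [], []⟩)) (.leaf ⟨nat_lit 1, nat_lit 10, nat_lit 9, nat_lit 0x60e2e62c6e, nat_lit 0xd0a5512bde2, nat_lit 0x26a9c86c0e6, [], [], []⟩)))) (.node (.node (.node (.node (.leaf ⟨nat_lit 0, nat_lit 1, nat_lit 1, nat_lit 0, nat_lit 0x9b12c182, nat_lit 0x9b12c182, [], [], []⟩) (.leaf ⟨nat_lit 1, nat_lit 10, nat_lit 10, nat_lit 0x39c844203, nat_lit 0xc4c30d8e, nat_lit 0x4454168da7, [], [], []⟩)) (.leaf ⟨nat_lit 1, nat_lit 10, nat_lit 10, nat_lit 0x122a1079a22, nat_lit 0x511717a122, nat_lit 0x24adaf5ad67, [], [], []⟩)) (.node (.node (.leaf ⟨nat_lit 1, nat_lit 6, nat_lit 7, nat_lit 0x5304d4c1c1, nat_lit 0x7118a1bd62, nat_lit 0x23b8ad2bde4, [], [], []⟩) (.leaf ⟨nat_lit 1, nat_lit 12, nat_lit 14, nat_lit 0x135cb7286e, nat_lit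 0x15b07a589, nat_lit 0x4b7856b7c501, [], [], []⟩)) (.leaf ⟨nat_lit 1, nat_lit 10, nat_lit 10, nat_lit 0x18c4f154631, nat_lit 0xd7b4d13ae21, nat_lit 0x17b22b2b98f, [], [], []⟩))) (.node (.node (.node (.leaf ⟨nat_lit 0, nat_lit 1, nat_lit 1, nat_lit 0, nat_lit 0xb0c6298a2, nat_lit 0xd8522d82, [], [], []⟩) (.leaf ⟨nat_lit 1, nat_lit 12, nat_lit 10, nat_lit 0x329a0e68a02, nat_lit 0x25ba102b962, nat_lit 0x13b9cd529ae, [], [], []⟩)) (.leaf ⟨nat_lit 1, nat_lit 10, nat_lit 10, nat_lit 0xd6bd51428c2, nat_lit 0x735f171e21, nat_lit 0x3a2d730e6, [], [], []⟩)) (.node (.leaf ⟨nat_lit 1, nat_lit 10, nat_lit 10, nat_lit 0x1d85595d0, nat_lit 0x6316853102, nat_lit 0x36b9c673503, [], [], []⟩) (.leaf ⟨nat_lit 1, nat_lit 10, nat_lit 10, nat_lit 0x278a905738a1, nat_lit 0x2499cb79201, nat_lit 0x7954c8bd65, [], [], []⟩))))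

noncomputable def F65 : GT Fa := .node (.node (.node (.node (.node (.leaf ⟨nat_lit 2, nat_lit 0, nat_lit 0, nat_lit 4193, nat_lit 0, nat_lit 0, [], [], [nat_lit 0xb1a885, nat_lit 0xae20d49, nat_lit 0xb1a861]⟩) (.leaf ⟨nat_lit 1, nat_lit 10, nat_lit 10, nat_lit 0x1a0d2c16c, nat_lit 0x20f641ef, nat_lit 0x316016aa2b, [], [], []⟩)) (.leaf ⟨nat_lit 1, nat_lit 10, nat_lit 10, nat_lit 0x22c58f435ce, nat_lit 0x7386d69883, nat_lit 0x12b5ae2ae04, [], [], []⟩)) (.node (.node (.leaf ⟨nat_lit 0, nat_lit 1, nat_lit 1, nat_lit 0, nat_lit 0x2c583545a1, nat_lit 0x1df060dc9, [], [], []⟩) (.leaf ⟨nat_lit 1, nat_lit 12, nat_lit 10, nat_lit 0x258e1b521, nat_lit 0x16318e338e5, nat_lit 0x3a1ce54549, [], [], []⟩)) (.leaf ⟨nat_lit 1, nat_lit 10, nat_lit 10, nat_lit 0x82102835e2, nat_lit 0x44403063d81, nat_lit 0x3c8f838ee, [], [], []⟩))) (.node (.node (.node (.leaf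 ⟨nat_lit 0, nat_lit 1, nat_lit 1, nat_lit 0, nat_lit 0x115858b0e2, nat_lit 0x6c19606, [], [], []⟩) (.leaf ⟨nat_lit 1, nat_lit 11, nat_lit 10, nat_lit 0x5c585505a6, nat_lit 0x21ae8342d, nat_lit 0x15a6105390e, [], [], []⟩)) (.leaf ⟨nat_lit 1, nat_lit 10, nat_lit 10, nat_lit 0x2c1eb7b490, nat_lit 0x5218b8314a, nat_lit 0x621cc53dab, [], [], []⟩)) (.node (.node (.leaf ⟨nat_lit 1, nat_lit 10, nat_lit 10, nat_lit 0x454e8b621, nat_lit 0x23cd172143, nat_lit 0x331d0545a3, [], [], []⟩) (.leaf ⟨nat_lit 1, nat_lit 14, nat_lit 10, nat_lit 0x9810437a8c1, nat_lit 0x18b22f31061, nat_lit 0x1b544735a2, [], [], []⟩)) (.leaf ⟨nat_lit 1, nat_lit 10, nat_lit 10, nat_lit 0xf4360e14622, nat_lit 0x14a94f33085, nat_lit 0x5098e69d6d, [], [], []⟩)))) (.node (.node (.node (.node (.leaf ⟨nat_lit 0, nat_lit 1, nat_lit 1, nat_lit 0, nat_lit 0x12f2b921, nat_lit 0x7188db0,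 [], [], []⟩) (.leaf ⟨nat_lit 1, nat_lit 10, nat_lit 10, nat_lit 0x38ac705458e, nat_lit 0x8a8cd7c42a, nat_lit 0x406782ce8, [], [], []⟩)) (.leaf ⟨nat_lit 1, nat_lit 10, nat_lit 9, nat_lit 0x1ba108302d, nat_lit 0x735b1685af, nat_lit 0x1538cd7a9e1, [], [], []⟩)) (.node (.node (.leaf ⟨nat_lit 1, nat_lit 7, nat_lit 6, nat_lit 0x20dcc74504, nat_lit 0xbd51744e1, nat_lit 0x1046651962, [], [], []⟩) (.leaf ⟨nat_lit 1, nat_lit 10, nat_lit 14, nat_lit 0x480da283221, nat_lit 0x15b92e42e21, nat_lit 0x1214e5b0a3, [], [], []⟩)) (.leaf ⟨nat_lit 1, nat_lit 10, nat_lit 10, nat_lit 0x191f1614c1, nat_lit 0x4a9ec64586, nat_lit 0x1222263d23, [], [], []⟩))) (.node (.node (.node (.leaf ⟨nat_lit 0, nat_lit 1, nat_lit 1, nat_lit 0, nat_lit 0x1362e4c5c7, nat_lit 0x129cd23543, [], [], []⟩) (.leaf ⟨nat_lit 1, nat_lit 12, nat_lit 10, nat_lit 0x7096583a01, nat_lit 0x106920e8a541,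 nat_lit 0x715d1230ea, [], [], []⟩)) (.leaf ⟨nat_lit 1, nat_lit 10, nat_lit 10, nat_lit 0x78cca431e3, nat_lit 0x4c2218c8a5c1, nat_lit 0x15962b231ef, [], [], []⟩)) (.node (.leaf ⟨nat_lit 1, nat_lit 9, nat_lit 10, nat_lit 0x3030234ac, nat_lit 0x34446e6b8a2, nat_lit 0x5960f2c0a4, [], [], []⟩) (.leaf ⟨nat_lit 1, nat_lit 10, nat_lit 10, nat_lit 0x2228ae8b102, nat_lit 0x85adcc7b5c2, nat_lit 0x22b0ec7984b, [], [], []⟩))))

noncomputable def F66 : GT Fa := .node (.node (.node (.node (.node (.leaf ⟨nat_lit 2, nat_lit 0, nat_lit 0, nat_lit 7, nat_lit 0, nat_lit 0, [], [], [nat_lit 7]⟩) (.leaf ⟨nat_lit 1, nat_lit 10, nat_lit 10, nat_lit 0x920d4b5c1, nat_lit 0x88569835e4, nat_lit 0x42ad88625c1, [], [], []⟩)) (.leaf ⟨nat_lit 1, nat_lit 10, nat_lit 10, nat_lit 0x59dc352905, nat_lit 0xb98862ca2, nat_lit 0x27157079882, [], [], []⟩)) (.node (.node (.leaf ⟨nat_lit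 0, nat_lit 1, nat_lit 1, nat_lit 0, nat_lit 0x121e85bd62, nat_lit 0x3d6d89151, [], [], []⟩) (.leaf ⟨nat_lit 1, nat_lit 12, nat_lit 12, nat_lit 0x1891621e1, nat_lit 0xa20e5bca8, nat_lit 0xada973185, [], [], []⟩)) (.leaf ⟨nat_lit 1, nat_lit 10, nat_lit 10, nat_lit 0xa535ab131e2, nat_lit 0x1228ec8b9a2, nat_lit 0x841897bde7, [], [], []⟩))) (.node (.node (.node (.leaf ⟨nat_lit 0, nat_lit 1, nat_lit 1, nat_lit 0, nat_lit 0x106c54108, nat_lit 0x2c0b1ce, [], [], []⟩) (.leaf ⟨nat_lit 1, nat_lit 10, nat_lit 11, nat_lit 0xb543609ea, nat_lit 0x609ed8c623, nat_lit 0x2b5b9d122942, [], [], []⟩)) (.leaf ⟨nat_lit 1, nat_lit 10, nat_lit 9, nat_lit 0x43ba2f31601, nat_lit 0xe8bc8d445e2, nat_lit 0x315706a462, [], [], []⟩)) (.node (.node (.leaf ⟨nat_lit 1, nat_lit 9, nat_lit 10, nat_lit 0x1705096d, nat_lit 0x1ec491cd, nat_lit 0x272dc334562, [], [], []⟩) (.leaf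 ⟨nat_lit 1, nat_lit 9, nat_lit 14, nat_lit 0x2c918b86e, nat_lit 0x253c837a942, nat_lit 0x1140f05418e, [], [], []⟩)) (.leaf ⟨nat_lit 1, nat_lit 10, nat_lit 10, nat_lit 0x2a1f023183, nat_lit 0x4b9ad81431, nat_lit 0x2615878ad04, [], [], []⟩)))) (.node (.node (.node (.node (.leaf ⟨nat_lit 0, nat_lit 1, nat_lit 1, nat_lit 0, nat_lit 0x304f32422, nat_lit 0x214915a1a5, [], [], []⟩) (.leaf ⟨nat_lit 1, nat_lit 10, nat_lit 9, nat_lit 0x15bdf051502, nat_lit 0x270db01b443, nat_lit 0x2c809b04bce1, [], [], []⟩)) (.leaf ⟨nat_lit 1, nat_lit 9, nat_lit 10, nat_lit 0xa69a2853942, nat_lit 0x8b5c95bc83, nat_lit 0x125ce190d0, [], [], []⟩)) (.node (.node (.leaf ⟨nat_lit 0, nat_lit 7, nat_lit 7, nat_lit 0, nat_lit 0xbd6c829c7, nat_lit 0x1316b62851, [], [], []⟩) (.leaf ⟨nat_lit 1, nat_lit 14, nat_lit 9, nat_lit 0x331c671c61, nat_lit 0x2a8ca6406f, nat_lit 0xb0a981da4,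 [], [], []⟩)) (.leaf ⟨nat_lit 1, nat_lit 10, nat_lit 10, nat_lit 0x1ad8f0b20c, nat_lit 0x5a62a88d85, nat_lit 0x23c20e5346f, [], [], []⟩))) (.node (.node (.node (.leaf ⟨nat_lit 0, nat_lit 1, nat_lit 1, nat_lit 0, nat_lit 0x1bd304bc62, nat_lit 0x13d456ad2b, [], [], []⟩) (.leaf ⟨nat_lit 1, nat_lit 12, nat_lit 10, nat_lit 0x3798ae73501, nat_lit 0x3335ae69142, nat_lit 0x18384d795a9, [], [], []⟩)) (.leaf ⟨nat_lit 1, nat_lit 10, nat_lit 9, nat_lit 0x2341cd5bda1, nat_lit 0x45ad69541e4, nat_lit 0x72de463cca, [], [], []⟩)) (.node (.leaf ⟨nat_lit 1, nat_lit 9, nat_lit 10, nat_lit 0x5194e8a5e1, nat_lit 0xc5e4828e1, nat_lit 0xa14e69982, [], [], []⟩) (.leaf ⟨nat_lit 1, nat_lit 10, nat_lit 9, nat_lit 0x4b4cb48a31, nat_lit 0x52f7b06a, nat_lit 0x279a0179221, [], [], []⟩))))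

noncomputable def F67 : GT Fa := .node (.node (.node (.node (.node (.leaf ⟨nat_lit 0, nat_lit 0, nat_lit 0, nat_lit 0, nat_lit 9, nat_lit 7, [], [], []⟩) (.leaf ⟨nat_lit 1, nat_lit 10, nat_lit 10, nat_lit 0xe895ae14462, nat_lit 0x4c54f42cee, nat_lit 0x1320e33cec, [], [], []⟩)) (.leaf ⟨nat_lit 1, nat_lit 10, nat_lit 10, nat_lit 0x98b991525a2, nat_lit 0xf8c5ef23202, nat_lit 0x288a296a9e8, [], [], []⟩)) (.node (.node (.leaf ⟨nat_lit 0, nat_lit 1, nat_lit 1, nat_lit 0, nat_lit 0x2192c53a2e, nat_lit 0xbe0a720ab, [], [], []⟩) (.leaf ⟨nat_lit 1, nat_lit 12, nat_lit 10, nat_lit 0x1431d153da1, nat_lit 0x31198f59221, nat_lit 0x27b54c44624, [], [], []⟩)) (.leaf ⟨nat_lit 1, nat_lit 10, nat_lit 10, nat_lit 0x2a20659550, nat_lit 0x3738a2630e2, nat_lit 0xd895ae8b521, [], [], []⟩))) (.node (.node (.node (.leaf ⟨nat_lit 0, nat_lit 1, nat_lit 1, nat_lit 0,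 nat_lit 0x145b122d2d, nat_lit 0x129c33c48e, [], [], []⟩) (.leaf ⟨nat_lit 1, nat_lit 11, nat_lit 10, nat_lit 0x1ad616b52c, nat_lit 0x22444b72981, nat_lit 0x18bdb17b102, [], [], []⟩)) (.leaf ⟨nat_lit 1, nat_lit 9, nat_lit 10, nat_lit 0x12b9ae71d66, nat_lit 0x3dec538ed, nat_lit 0x622105ba2e, [], [], []⟩)) (.node (.node (.leaf ⟨nat_lit 1, nat_lit 9, nat_lit 10, nat_lit 0x992a71961, nat_lit 0x34c58b819a1, nat_lit 0x125eb629ae, [], [], []⟩) (.leaf ⟨nat_lit 1, nat_lit 14, nat_lit 10, nat_lit 0x1e1528a2, nat_lit 0x12b20762223, nat_lit 0x1df154162, [], [], []⟩)) (.leaf ⟨nat_lit 1, nat_lit 10, nat_lit 10, nat_lit 0xa83d68738e1, nat_lit 0x1541cd6c4d1, nat_lit 0x14c14e6c022, [], [], []⟩)))) (.node (.node (.node (.node (.leaf ⟨nat_lit 0, nat_lit 1, nat_lit 1, nat_lit 0, nat_lit 0x20af2b8c1, nat_lit 0x95862b503, [], [], []⟩) (.leaf ⟨nat_lit 1, nat_lit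 10, nat_lit 10, nat_lit 0x5b62c2acb0, nat_lit 0x20d8e625f1, nat_lit 0x29d8c5104f, [], [], []⟩)) (.leaf ⟨nat_lit 1, nat_lit 10, nat_lit 7, nat_lit 0x32b1ec10e01, nat_lit 0x16a58e6a06a, nat_lit 0x189910bd41, [], [], []⟩)) (.node (.node (.leaf ⟨nat_lit 2, nat_lit 0, nat_lit 0, nat_lit 12385, nat_lit 0, nat_lit 0, [], [], [nat_lit 0x8096d529a2, nat_lit 13347, nat_lit 0x4bd716a9c3]⟩) (.leaf ⟨nat_lit 1, nat_lit 14, nat_lit 10, nat_lit 0x1038625, nat_lit 0x60daf539a8, nat_lit 0x25453083943, [], [], []⟩)) (.leaf ⟨nat_lit 1, nat_lit 10, nat_lit 10, nat_lit 0x4bcae8b22f, nat_lit 0x1d858116c, nat_lit 0x41cc545c3, [], [], []⟩))) (.node (.node (.node (.leaf ⟨nat_lit 0, nat_lit 1, nat_lit 1, nat_lit 0, nat_lit 0xec2b4a1, nat_lit 0x789605, [], [], []⟩) (.leaf ⟨nat_lit 1, nat_lit 10, nat_lit 12, nat_lit 0xbde16310e, nat_lit 0x2408c629f0, nat_lit 0x1214d70dae,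 [], [], []⟩)) (.leaf ⟨nat_lit 1, nat_lit 10, nat_lit 10, nat_lit 0x1b5ce4886d, nat_lit 0x2b56983d8f, nat_lit 0x1831e68a182, [], [], []⟩)) (.node (.leaf ⟨nat_lit 1, nat_lit 10, nat_lit 10, nat_lit 0x4418e69567, nat_lit 0x6b60822dc7, nat_lit 0x18ae0b89549, [], [], []⟩) (.leaf ⟨nat_lit 1, nat_lit 10, nat_lit 9, nat_lit 0x63c515b102, nat_lit 0x2b83d717c0a1, nat_lit 0x53d8f1a9ce, [], [], []⟩))))

noncomputable def F68 : GT Fa := .node (.node (.node (.node (.node (.leaf ⟨nat_lit 0, nat_lit 1, nat_lit 1, nat_lit 0, nat_lit 7, nat_lit 7, [], [], []⟩) (.leaf ⟨nat_lit 1, nat_lit 10, nat_lit 10, nat_lit 0x26b5220c62d, nat_lit 0x1685447b142, nat_lit 0x639a321e27, [], [], []⟩)) (.leaf ⟨nat_lit 1, nat_lit 9, nat_lit 10, nat_lit 0x1c5698cd, nat_lit 0xb2b48559c61, nat_lit 0x28c54d4bd41, [], [], []⟩)) (.node (.node (.leaf ⟨nat_lit 0, nat_lit 1, nat_lit 1,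 nat_lit 0, nat_lit 0x2588130e2, nat_lit 0x58533505, [], [], []⟩) (.leaf ⟨nat_lit 1, nat_lit 12, nat_lit 12, nat_lit 0x24314862c41, nat_lit 0xf4c16c79d81, nat_lit 0x223d6c7b5c6, [], [], []⟩)) (.leaf ⟨nat_lit 1, nat_lit 10, nat_lit 10, nat_lit 0x6c56683984, nat_lit 0x5a5ae60864, nat_lit 0x20dcd84201, [], [], []⟩))) (.node (.node (.node (.leaf ⟨nat_lit 0, nat_lit 1, nat_lit 1, nat_lit 0, nat_lit 0x111d8e8adc2, nat_lit 0x609e82b8e3, [], [], []⟩) (.leaf ⟨nat_lit 1, nat_lit 8, nat_lit 11, nat_lit 0x6387043a2a, nat_lit 0x8638a65bd41, nat_lit 0x1b0189a9, [], [], []⟩)) (.leaf ⟨nat_lit 1, nat_lit 10, nat_lit 9, nat_lit 0x2339a96a481, nat_lit 0x37396e34621, nat_lit 0x1536065ba06, [], [], []⟩)) (.node (.node (.leaf ⟨nat_lit 1, nat_lit 10, nat_lit 10, nat_lit 0x283d2d841e1, nat_lit 0x38a47c44b, nat_lit 0x119e65c546, [], [], []⟩) (.leaf ⟨nat_lit 1, nat_lit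 10, nat_lit 14, nat_lit 0x1a5f02c5e2, nat_lit 0x245a85c511, nat_lit 0x1325b0231cc, [], [], []⟩)) (.leaf ⟨nat_lit 1, nat_lit 10, nat_lit 9, nat_lit 0x41ca72602, nat_lit 0xe33da1839c1, nat_lit 0x283e2d5c022, [], [], []⟩)))) (.node (.node (.node (.node (.leaf ⟨nat_lit 0, nat_lit 1, nat_lit 1, nat_lit 0, nat_lit 0x310c2c501, nat_lit 0x30a439963, [], [], []⟩) (.leaf ⟨nat_lit 1, nat_lit 10, nat_lit 10, nat_lit 0x980dec1bca1, nat_lit 0x8b0ef615c1, nat_lit 0x8294783881, [], [], []⟩)) (.leaf ⟨nat_lit 1, nat_lit 10, nat_lit 10, nat_lit 0x5531ea63862, nat_lit 0x3344ad444e1, nat_lit 0x2831ca54565, [], [], []⟩)) (.node (.node (.leaf ⟨nat_lit 2, nat_lit 0, nat_lit 0, nat_lit 0x46942b79541, nat_lit 0, nat_lit 0, [], [], [nat_lit 13347, nat_lit 0x4bd716a9c3, nat_lit 12]⟩) (.leaf ⟨nat_lit 1, nat_lit 14, nat_lit 10, nat_lit 0xb96e53490, nat_lit 0x68c5e8631e1,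 nat_lit 0x31360d794c6, [], [], []⟩)) (.leaf ⟨nat_lit 1, nat_lit 10, nat_lit 9, nat_lit 0x335a183902, nat_lit 0x2c2ae2852182, nat_lit 0x45867ae25, [], [], []⟩))) (.node (.node (.node (.leaf ⟨nat_lit 0, nat_lit 1, nat_lit 1, nat_lit 0, nat_lit 0x1a2e60606, nat_lit 0x8a1cc0c103, [], [], []⟩) (.leaf ⟨nat_lit 1, nat_lit 12, nat_lit 10, nat_lit 0x8c62e38d42, nat_lit 0x841717a922, nat_lit 0x7418c0c582, [], [], []⟩)) (.leaf ⟨nat_lit 1, nat_lit 10, nat_lit 10, nat_lit 0x43d8c2450c, nat_lit 0x189d4a8b82c, nat_lit 0x23d8b61221, [], [], []⟩)) (.node (.leaf ⟨nat_lit 1, nat_lit 9, nat_lit 10, nat_lit 0x95657c1c9, nat_lit 0x239c783051, nat_lit 0x2299aa83481, [], [], []⟩) (.leaf ⟨nat_lit 1, nat_lit 10, nat_lit 10, nat_lit 0x341ad5c48d, nat_lit 0x48122c7c4c4, nat_lit 0x25056d53d45, [], [], []⟩))))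

noncomputable def F69 : GT Fa := .node (.node (.node (.node (.node (.leaf ⟨nat_lit 2, nat_lit 0, nat_lit 0, nat_lit 0x8414c6, nat_lit 0, nat_lit 0, [], [], [nat_lit 0x8414c6]⟩) (.leaf ⟨nat_lit 1, nat_lit 10, nat_lit 10, nat_lit 0x25b17082c61, nat_lit 0x1c16b2c08b, nat_lit 0x18b94c1322c, [], [], []⟩)) (.leaf ⟨nat_lit 1, nat_lit 10, nat_lit 10, nat_lit 0x698ed8b561, nat_lit 0xb9618858a, nat_lit 0x4ad2b8b20f, [], [], []⟩)) (.node (.node (.leaf ⟨nat_lit 0, nat_lit 1, nat_lit 1, nat_lit 0, nat_lit 0x44ae8a422, nat_lit 0x105ca095c4, [], [], []⟩) (.leaf ⟨nat_lit 1, nat_lit 12, nat_lit 12, nat_lit 0x2412a7288a, nat_lit 0x190441d1, nat_lit 0x8adc42b14d, [], [], []⟩)) (.leaf ⟨nat_lit 1, nat_lit 10, nat_lit 9, nat_lit 0x210d23da1, nat_lit 0x2231ec78d86, nat_lit 0x72a101b8ea, [], [], []⟩))) (.node (.node (.node (.leaf ⟨nat_lit 0, nat_lit 1, nat_lit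 1, nat_lit 0, nat_lit 0xdea2382d, nat_lit 0x1ef685a9, [], [], []⟩) (.leaf ⟨nat_lit 1, nat_lit 11, nat_lit 10, nat_lit 0x16412f8b102, nat_lit 0x6b98982d6d, nat_lit 0x1714cd53c2a, [], [], []⟩)) (.leaf ⟨nat_lit 1, nat_lit 10, nat_lit 10, nat_lit 0x2bcae43cc4, nat_lit 0x13d618b1e1, nat_lit 0x22c1af83222, [], [], []⟩)) (.node (.node (.leaf ⟨nat_lit 1, nat_lit 10, nat_lit 10, nat_lit 0x5ac6c3bda1, nat_lit 0x20ac81a01, nat_lit 0x3adc3629c1, [], [], []⟩) (.leaf ⟨nat_lit 1, nat_lit 14, nat_lit 9, nat_lit 0x8306c54562, nat_lit 0x12949439d1, nat_lit 0x62829529e5, [], [], []⟩)) (.leaf ⟨nat_lit 1, nat_lit 10, nat_lit 10, nat_lit 0x23d7079a27, nat_lit 0x15b6228b0e2, nat_lit 0x1456963a24, [], [], []⟩)))) (.node (.node (.node (.node (.leaf ⟨nat_lit 0, nat_lit 1, nat_lit 1, nat_lit 0, nat_lit 0x115112e05, nat_lit 0x30a66a0a3, [], [], []⟩) (.leaf ⟨nat_lit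 1, nat_lit 7, nat_lit 7, nat_lit 0x13160c791e2, nat_lit 0x124d16144f, nat_lit 0x291cb6b626, [], [], []⟩)) (.leaf ⟨nat_lit 1, nat_lit 10, nat_lit 10, nat_lit 0x12be288b107, nat_lit 0x3308c7c0cd, nat_lit 0x27c4cf78e26, [], [], []⟩)) (.node (.node (.leaf ⟨nat_lit 2, nat_lit 0, nat_lit 0, nat_lit 13, nat_lit 0, nat_lit 0, [], [], [nat_lit 0x4bd716a9c3, nat_lit 12, nat_lit 0x8096d529a2]⟩) (.leaf ⟨nat_lit 1, nat_lit 14, nat_lit 10, nat_lit 0x30915c20b, nat_lit 0x11a8cf4a981, nat_lit 0x7b5a973450, [], [], []⟩)) (.leaf ⟨nat_lit 1, nat_lit 10, nat_lit 10, nat_lit 0xe23a2e699a1, nat_lit 0x2454158a29, nat_lit 0x1a84a544a8, [], [], []⟩))) (.node (.node (.node (.leaf ⟨nat_lit 0, nat_lit 1, nat_lit 1, nat_lit 0, nat_lit 0x3c907ada7, nat_lit 0x30512a0f0, [], [], []⟩) (.leaf ⟨nat_lit 1, nat_lit 10, nat_lit 12, nat_lit 0x43da183e28, nat_lit 0x23c30541c1,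 nat_lit 0x631e959841, [], [], []⟩)) (.leaf ⟨nat_lit 1, nat_lit 10, nat_lit 10, nat_lit 0x2c1960d71da1, nat_lit 0x4432313b162, nat_lit 0x15c4ac539a1, [], [], []⟩)) (.node (.leaf ⟨nat_lit 1, nat_lit 10, nat_lit 10, nat_lit 0x15ae2412e2c, nat_lit 0x1314c43110, nat_lit 0x5b48f51d46, [], [], []⟩) (.leaf ⟨nat_lit 1, nat_lit 10, nat_lit 10, nat_lit 0x224b5c553ca2, nat_lit 0x3a991435ec, nat_lit 0x544ae69a07, [], [], []⟩))))

noncomputable def F70 : GT Fa := .node (.node (.node (.node (.node (.leaf ⟨nat_lit 0, nat_lit 0, nat_lit 0, nat_lit 0, nat_lit 0x5328cb, nat_lit 0xa42d05, [], [], []⟩) (.leaf ⟨nat_lit 1, nat_lit 10, nat_lit 10, nat_lit 0xe673623, nat_lit 0x5bd6b82185, nat_lit 0xc5a953e03, [], [], []⟩)) (.leaf ⟨nat_lit 1, nat_lit 10, nat_lit 10, nat_lit 0xd690ad5bca2, nat_lit 0x1aa2a8c52f, nat_lit 0x12995153144, [], [], []⟩)) (.node (.node (.leaf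 ⟨nat_lit 0, nat_lit 1, nat_lit 1, nat_lit 0, nat_lit 0x154461627, nat_lit 0x45821b8a2, [], [], []⟩) (.leaf ⟨nat_lit 1, nat_lit 12, nat_lit 10, nat_lit 0x4b60320a0e, nat_lit 0x1a1ea40971, nat_lit 0x145c553924, [], [], []⟩)) (.leaf ⟨nat_lit 1, nat_lit 10, nat_lit 10, nat_lit 0x2d6b89609, nat_lit 0xf6c2106c581, nat_lit 0x1540497c628, [], [], []⟩))) (.node (.node (.node (.leaf ⟨nat_lit 0, nat_lit 1, nat_lit 1, nat_lit 0, nat_lit 0x31e51c5a1, nat_lit 0x58522d82, [], [], []⟩) (.leaf ⟨nat_lit 1, nat_lit 10, nat_lit 11, nat_lit 0x795a2794c2, nat_lit 0x8996e528a2, nat_lit 0x15c08c621c5, [], [], []⟩)) (.leaf ⟨nat_lit 1, nat_lit 10, nat_lit 10, nat_lit 0x15c5cb73981, nat_lit 0x2e026a62a, nat_lit 0x12d6b34205, [], [], []⟩)) (.node (.node (.leaf ⟨nat_lit 1, nat_lit 8, nat_lit 10, nat_lit 0x31214f62561, nat_lit 0x354f2322c, nat_lit 0x11db162202, [], [],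 []⟩) (.leaf ⟨nat_lit 1, nat_lit 14, nat_lit 10, nat_lit 0x920c5c58c, nat_lit 0xb70c8b6c1c2, nat_lit 0x1638ed6b864, [], [], []⟩)) (.leaf ⟨nat_lit 1, nat_lit 10, nat_lit 10, nat_lit 0x7c1b054422, nat_lit 0xc5c5a57c161, nat_lit 0x125514b5e1, [], [], []⟩)))) (.node (.node (.node (.node (.leaf ⟨nat_lit 0, nat_lit 1, nat_lit 1, nat_lit 0, nat_lit 0x118ad40d82, nat_lit 0x22a14164, [], [], []⟩) (.leaf ⟨nat_lit 1, nat_lit 8, nat_lit 11, nat_lit 4, nat_lit 0, nat_lit 0, [], [], []⟩)) (.leaf ⟨nat_lit 1, nat_lit 10, nat_lit 10, nat_lit 0x15b9c76b522, nat_lit 0x8a8ec0b1ec, nat_lit 0x4b551095cb, [], [], []⟩)) (.node (.node (.leaf ⟨nat_lit 2, nat_lit 0, nat_lit 0, nat_lit 0x4bd716a9c1, nat_lit 0, nat_lit 0, [], [], [nat_lit 12, nat_lit 0x8096d529a2, nat_lit 13347]⟩) (.leaf ⟨nat_lit 1, nat_lit 14, nat_lit 10, nat_lit 0x1ade3705c1, nat_lit 0x1dae1b222, nat_lit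 0x83d5152924, [], [], []⟩)) (.leaf ⟨nat_lit 1, nat_lit 10, nat_lit 10, nat_lit 0x25298988d41, nat_lit 0x23a0b2c0cc, nat_lit 0x24c18e895c3, [], [], []⟩))) (.node (.node (.node (.leaf ⟨nat_lit 0, nat_lit 1, nat_lit 1, nat_lit 0, nat_lit 0x805671b5c1, nat_lit 0xb04f415c7, [], [], []⟩) (.leaf ⟨nat_lit 1, nat_lit 12, nat_lit 10, nat_lit 0x711ca8b131, nat_lit 0x5a1ca60625, nat_lit 0x16c1aa84205, [], [], []⟩)) (.leaf ⟨nat_lit 1, nat_lit 10, nat_lit 10, nat_lit 0x628a6630ae, nat_lit 0x42918c8b041, nat_lit 0x18b0aa445e2, [], [], []⟩)) (.node (.leaf ⟨nat_lit 1, nat_lit 10, nat_lit 7, nat_lit 0x116b4ee73882, nat_lit 0x509658350c, nat_lit 0x631838ae09, [], [], []⟩) (.leaf ⟨nat_lit 1, nat_lit 10, nat_lit 9, nat_lit 0x5414d4ada5, nat_lit 0x119963739c1, nat_lit 0x8aa318b8c1, [], [], []⟩))))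

noncomputable def F71 : GT Fa := .node (.node (.node (.node (.node (.leaf ⟨nat_lit 0, nat_lit 1, nat_lit 1, nat_lit 0, nat_lit 0xa42d05, nat_lit 0x5328cb, [], [], []⟩) (.leaf ⟨nat_lit 1, nat_lit 10, nat_lit 10, nat_lit 0x85b9c48b5c1, nat_lit 0x4bd867a1f1, nat_lit 0x2741b013c61, [], [], []⟩)) (.leaf ⟨nat_lit 1, nat_lit 10, nat_lit 9, nat_lit 0x29c20b061, nat_lit 0x59dae4a981, nat_lit 0x1734eb6bd83, [], [], []⟩)) (.node (.node (.leaf ⟨nat_lit 0, nat_lit 1, nat_lit 1, nat_lit 0, nat_lit 0x1be0f29a09, nat_lit 0x28a67ae2e, [], [], []⟩) (.leaf ⟨nat_lit 1, nat_lit 12, nat_lit 12, nat_lit 0x118a28563, nat_lit 0x1123861, nat_lit 0x20c1b189a27, [], [], []⟩)) (.leaf ⟨nat_lit 1, nat_lit 10, nat_lit 10, nat_lit 0x241cc2c20a, nat_lit 0xb90269202, nat_lit 0x15e35862d, [], [], []⟩))) (.node (.node (.node (.leaf ⟨nat_lit 0, nat_lit 1, nat_lit 1, nat_lit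 0, nat_lit 0x18d15b464, nat_lit 0x2f7b42d, [], [], []⟩) (.leaf ⟨nat_lit 1, nat_lit 11, nat_lit 10, nat_lit 0x2415a352981, nat_lit 0x130ec3ac4f, nat_lit 0x529ed0ae0e, [], [], []⟩)) (.leaf ⟨nat_lit 1, nat_lit 10, nat_lit 10, nat_lit 0xacae32da1, nat_lit 0x19e762dd0, nat_lit 0x3128aa5258a, [], [], []⟩)) (.node (.node (.leaf ⟨nat_lit 1, nat_lit 10, nat_lit 9, nat_lit 0x730cf830a2, nat_lit 0x1adef341e3, nat_lit 0x6462161143, [], [], []⟩) (.leaf ⟨nat_lit 1, nat_lit 14, nat_lit 10, nat_lit 0x25ae2bc62, nat_lit 0x5114c899d0, nat_lit 0x2282b448, [], [], []⟩)) (.leaf ⟨nat_lit 1, nat_lit 10, nat_lit 10, nat_lit 0x4adc76c206, nat_lit 0x319a314561, nat_lit 0x24b2107b225, [], [], []⟩)))) (.node (.node (.node (.node (.leaf ⟨nat_lit 0, nat_lit 1, nat_lit 1, nat_lit 0, nat_lit 0x20568e05, nat_lit 0x1188db0, [], [], []⟩) (.leaf ⟨nat_lit 0, nat_lit 11, nat_lit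 11, nat_lit 0, nat_lit 0x114707c0e1, nat_lit 0x356418a22, [], [], []⟩)) (.leaf ⟨nat_lit 1, nat_lit 7, nat_lit 10, nat_lit 0x1284f5210f, nat_lit 0x15b1e50b5d0, nat_lit 0x163069629a4, [], [], []⟩)) (.node (.node (.leaf ⟨nat_lit 2, nat_lit 0, nat_lit 0, nat_lit 12385, nat_lit 0, nat_lit 0, [], [], [nat_lit 0x1316b62851, nat_lit 13347, nat_lit 0x8b60b4ae22]⟩) (.leaf ⟨nat_lit 1, nat_lit 10, nat_lit 14, nat_lit 0x51985134c6, nat_lit 0x96289169221, nat_lit 0x3b94883a04, [], [], []⟩)) (.leaf ⟨nat_lit 1, nat_lit 10, nat_lit 10, nat_lit 0xf619467c561, nat_lit 0x96e5b60c, nat_lit 0x2a82d53210, [], [], []⟩))) (.node (.node (.node (.leaf ⟨nat_lit 0, nat_lit 1, nat_lit 1, nat_lit 0, nat_lit 0x641636c0a1, nat_lit 0x1de36c5c9, [], [], []⟩) (.leaf ⟨nat_lit 1, nat_lit 10, nat_lit 12, nat_lit 0xa7c58e10d42, nat_lit 0xa3404c7c542, nat_lit 0x22d5b603, [], [],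 []⟩)) (.leaf ⟨nat_lit 1, nat_lit 10, nat_lit 10, nat_lit 0x21dcb60982, nat_lit 0x191a113d4c, nat_lit 0x7418b2b505, [], [], []⟩)) (.node (.leaf ⟨nat_lit 1, nat_lit 10, nat_lit 10, nat_lit 0x84362e5ad21, nat_lit 0x422015ac22, nat_lit 0xb511538ef, [], [], []⟩) (.leaf ⟨nat_lit 1, nat_lit 10, nat_lit 10, nat_lit 0x2319138e0d, nat_lit 0xa23de77c043, nat_lit 0x12dae7292f, [], [], []⟩))))

noncomputable def F72 : GT Fa := .node (.node (.node (.node (.node (.leaf ⟨nat_lit 2, nat_lit 0, nat_lit 0, nat_lit 8, nat_lit 0, nat_lit 0, [], [], [nat_lit 8227, nat_lit 8]⟩) (.leaf ⟨nat_lit 1, nat_lit 10, nat_lit 10, nat_lit 0x1510af798a1, nat_lit 0x20dcd8320b, nat_lit 0x1112f509cd, [], [], []⟩)) (.leaf ⟨nat_lit 1, nat_lit 10, nat_lit 10, nat_lit 0x7a9446b8a3, nat_lit 0x6c1913c451, nat_lit 0xe105c45ad21, [], [], []⟩)) (.node (.node (.leaf ⟨nat_lit 0, nat_lit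 1, nat_lit 1, nat_lit 0, nat_lit 0x14cc625a2, nat_lit 0x181639c3, [], [], []⟩) (.leaf ⟨nat_lit 1, nat_lit 12, nat_lit 12, nat_lit 0x23b607738cb, nat_lit 0x13442b6c12d, nat_lit 0x4460e233b221, [], [], []⟩)) (.leaf ⟨nat_lit 1, nat_lit 10, nat_lit 10, nat_lit 0x58dab640aa, nat_lit 0x544d16416b, nat_lit 0x42a2a0a946, [], [], []⟩))) (.node (.node (.node (.leaf ⟨nat_lit 0, nat_lit 1, nat_lit 1, nat_lit 0, nat_lit 0x1bcf11b422, nat_lit 0x1e8639c5, [], [], []⟩) (.leaf ⟨nat_lit 1, nat_lit 11, nat_lit 10, nat_lit 0x3198a53c62, nat_lit 0x2dce3b04b, nat_lit 0x25953162602, [], [], []⟩)) (.leaf ⟨nat_lit 1, nat_lit 10, nat_lit 10, nat_lit 0x2b98859970, nat_lit 0x5c57082c62, nat_lit 0xdef3c588, [], [], []⟩)) (.node (.node (.leaf ⟨nat_lit 1, nat_lit 9, nat_lit 10, nat_lit 0x31e2b29161, nat_lit 0x28cd42081, nat_lit 0xb1858a582, [], [], []⟩) (.leaf ⟨nat_lit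 1, nat_lit 11, nat_lit 14, nat_lit 0xcc56a44d, nat_lit 0x5245ef62102, nat_lit 0x63d6b5b101, [], [], []⟩)) (.leaf ⟨nat_lit 1, nat_lit 10, nat_lit 10, nat_lit 0xadaa43551, nat_lit 0x8860c631c2, nat_lit 0x2ca442da4, [], [], []⟩)))) (.node (.node (.node (.node (.leaf ⟨nat_lit 0, nat_lit 1, nat_lit 1, nat_lit 0, nat_lit 0x3d426bd62, nat_lit 0x253bcae, [], [], []⟩) (.leaf ⟨nat_lit 0, nat_lit 11, nat_lit 11, nat_lit 0, nat_lit 0x63d65539a1, nat_lit 0x2b46c, [], [], []⟩)) (.leaf ⟨nat_lit 1, nat_lit 10, nat_lit 10, nat_lit 0x8412353a2f, nat_lit 0x1362454481, nat_lit 0x5a589891ce, [], [], []⟩)) (.node (.node (.leaf ⟨nat_lit 2, nat_lit 0, nat_lit 0, nat_lit 0x1a20d331e5, nat_lit 0, nat_lit 0, [], [], [nat_lit 13347, nat_lit 0x8b60b4ae22, nat_lit 12]⟩) (.leaf ⟨nat_lit 1, nat_lit 10, nat_lit 14, nat_lit 0x58d8c61c83, nat_lit 0xa86c59602, nat_lit 0x226446a60c41,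 [], [], []⟩)) (.leaf ⟨nat_lit 1, nat_lit 10, nat_lit 10, nat_lit 0x29d4a519ca, nat_lit 0x322f7b4ed, nat_lit 0x320dad7ae2c, [], [], []⟩))) (.node (.node (.node (.leaf ⟨nat_lit 0, nat_lit 1, nat_lit 1, nat_lit 0, nat_lit 0x1362580d82, nat_lit 0x134712c182, [], [], []⟩) (.leaf ⟨nat_lit 1, nat_lit 12, nat_lit 10, nat_lit 0x44171585c5, nat_lit 0x335676bd25, nat_lit 0x412f3b5e3, [], [], []⟩)) (.leaf ⟨nat_lit 1, nat_lit 10, nat_lit 9, nat_lit 0x8898f3b18e, nat_lit 0x55b96d7c062, nat_lit 0x615f04a9ab, [], [], []⟩)) (.node (.leaf ⟨nat_lit 1, nat_lit 10, nat_lit 10, nat_lit 0x7b1e764102, nat_lit 0x2795b15b081, nat_lit 0x5356c228a8, [], [], []⟩) (.leaf ⟨nat_lit 1, nat_lit 9, nat_lit 10, nat_lit 0x1ded72c6a, nat_lit 0x7345b030602, nat_lit 0x528ca611c1, [], [], []⟩))))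

noncomputable def F73 : GT Fa := .node (.node (.node (.node (.node (.leaf ⟨nat_lit 2, nat_lit 0, nat_lit 0, nat_lit 8, nat_lit 0, nat_lit 0, [], [], [nat_lit 8, nat_lit 8227]⟩) (.leaf ⟨nat_lit 1, nat_lit 10, nat_lit 10, nat_lit 0x268968715ab, nat_lit 0x20e2d3b96e, nat_lit 0x97b20c43922, [], [], []⟩)) (.leaf ⟨nat_lit 1, nat_lit 9, nat_lit 10, nat_lit 0x13d2f6b5a3, nat_lit 0xb2ad6569961, nat_lit 0x43987615a5, [], [], []⟩)) (.node (.node (.leaf ⟨nat_lit 0, nat_lit 1, nat_lit 1, nat_lit 0, nat_lit 0x31502456d, nat_lit 0x2429d109d63, [], [], []⟩) (.leaf ⟨nat_lit 1, nat_lit 7, nat_lit 13, nat_lit 561, nat_lit 0, nat_lit 0, [], [], []⟩)) (.leaf ⟨nat_lit 1, nat_lit 9, nat_lit 10, nat_lit 0x56457128601, nat_lit 0xa825ca51461, nat_lit 0x15ac70795c1, [], [], []⟩))) (.node (.node (.node (.leaf ⟨nat_lit 0, nat_lit 1, nat_lit 1, nat_lit 0, nat_lit 0x345ca20601,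 nat_lit 0x1292e6ae24, [], [], []⟩) (.leaf ⟨nat_lit 1, nat_lit 10, nat_lit 11, nat_lit 0xb0ef51626, nat_lit 0x7a9d023981, nat_lit 0x28b54c51041, [], [], []⟩)) (.leaf ⟨nat_lit 1, nat_lit 10, nat_lit 10, nat_lit 0x5393080d8e, nat_lit 0x429ab2360d, nat_lit 0x18862962cc2, [], [], []⟩)) (.node (.node (.leaf ⟨nat_lit 1, nat_lit 10, nat_lit 9, nat_lit 0x1a23640c2, nat_lit 0x21922c2b481, nat_lit 0x7a94a0c5e2, [], [], []⟩) (.leaf ⟨nat_lit 1, nat_lit 14, nat_lit 10, nat_lit 0x462e13526, nat_lit 0xc54e1b50d, nat_lit 0x585b051507, [], [], []⟩)) (.leaf ⟨nat_lit 1, nat_lit 10, nat_lit 10, nat_lit 0x32e2e5b9aa, nat_lit 0x6b9615b44d, nat_lit 0x282cea43841, [], [], []⟩)))) (.node (.node (.node (.node (.leaf ⟨nat_lit 0, nat_lit 1, nat_lit 1, nat_lit 0, nat_lit 0x45c389462, nat_lit 0x1018a25, [], [], []⟩) (.leaf ⟨nat_lit 0, nat_lit 11, nat_lit 11, nat_lit 0,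 nat_lit 7, nat_lit 7, [], [], []⟩)) (.leaf ⟨nat_lit 1, nat_lit 10, nat_lit 10, nat_lit 0xa3a9ef4c161, nat_lit 0x15a10c631ed, nat_lit 0x9e2c2388b, [], [], []⟩)) (.node (.node (.leaf ⟨nat_lit 2, nat_lit 0, nat_lit 0, nat_lit 13, nat_lit 0, nat_lit 0, [], [], [nat_lit 0x8b60b4ae22, nat_lit 12, nat_lit 0x1316b62851]⟩) (.leaf ⟨nat_lit 1, nat_lit 14, nat_lit 10, nat_lit 0x60dab0b20f, nat_lit 0x36854884161, nat_lit 0x1719514b54a, [], [], []⟩)) (.leaf ⟨nat_lit 1, nat_lit 9, nat_lit 10, nat_lit 0x2429ab089e1, nat_lit 0xd8950b238e1, nat_lit 0xc1688b984, [], [], []⟩))) (.node (.node (.node (.leaf ⟨nat_lit 0, nat_lit 1, nat_lit 1, nat_lit 0, nat_lit 0x1114f1bdb1, nat_lit 0x96216a62e, [], [], []⟩) (.leaf ⟨nat_lit 1, nat_lit 10, nat_lit 12, nat_lit 0xbd8a52431, nat_lit 0x6120b730d0, nat_lit 0xc08f51dc1, [], [], []⟩)) (.leaf ⟨nat_lit 1, nat_lit 10, nat_lit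 10, nat_lit 0x3be0c7a8ef, nat_lit 0x218c63185, nat_lit 0x4c3a8ca74181, [], [], []⟩)) (.node (.leaf ⟨nat_lit 1, nat_lit 10, nat_lit 9, nat_lit 0xa4406d23961, nat_lit 0x43e088aa01, nat_lit 0x4310f79ca1, [], [], []⟩) (.leaf ⟨nat_lit 1, nat_lit 9, nat_lit 10, nat_lit 0x609ab72e02, nat_lit 0x5accb22ccb, nat_lit 0xb96e239a6, [], [], []⟩))))

noncomputable def F74 : GT Fa := .node (.node (.node (.node (.node (.leaf ⟨nat_lit 2, nat_lit 0, nat_lit 0, nat_lit 8289, nat_lit 0, nat_lit 0, [], [], [nat_lit 8227, nat_lit 8227]⟩) (.leaf ⟨nat_lit 1, nat_lit 10, nat_lit 10, nat_lit 0x315c763de1, nat_lit 0x43e0d8060b, nat_lit 0x270cea34581, [], [], []⟩)) (.leaf ⟨nat_lit 1, nat_lit 7, nat_lit 10, nat_lit 0xd3420b5a5a2, nat_lit 0x5535eb59e02, nat_lit 0x630ab80daa, [], [], []⟩)) (.node (.node (.leaf ⟨nat_lit 0, nat_lit 1, nat_lit 1, nat_lit 0, nat_lit 0x3be0c0c101,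 nat_lit 0x15e783c6d, [], [], []⟩) (.leaf ⟨nat_lit 0, nat_lit 13, nat_lit 13, nat_lit 0, nat_lit 0x18c389a2, nat_lit 0x1532254c08e, [], [], []⟩)) (.leaf ⟨nat_lit 1, nat_lit 10, nat_lit 10, nat_lit 0x132258c62f, nat_lit 0x2c912290f, nat_lit 0x21ccb72e2e, [], [], []⟩))) (.node (.node (.node (.leaf ⟨nat_lit 0, nat_lit 1, nat_lit 1, nat_lit 0, nat_lit 0xb1c28adc2, nat_lit 0x304f415c3, [], [], []⟩) (.leaf ⟨nat_lit 1, nat_lit 8, nat_lit 11, nat_lit 0x6b5a258da1, nat_lit 0x11b98c7aa02, nat_lit 0x6846d695a2, [], [], []⟩)) (.leaf ⟨nat_lit 1, nat_lit 10, nat_lit 7, nat_lit 0x6a50e20581, nat_lit 0x18ad116bd22, nat_lit 0x2d20cad, [], [], []⟩)) (.node (.node (.leaf ⟨nat_lit 1, nat_lit 10, nat_lit 9, nat_lit 0x134ec8b5a1, nat_lit 0x198ec2b4c7, nat_lit 41126, [], [], []⟩) (.leaf ⟨nat_lit 1, nat_lit 8, nat_lit 14, nat_lit 0x5b1f03244d, nat_lit 0x4539ae1b861,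 nat_lit 0x58c8b641ef, [], [], []⟩)) (.leaf ⟨nat_lit 1, nat_lit 10, nat_lit 10, nat_lit 0x38314b041, nat_lit 0x7210e8320b, nat_lit 0x5bde42a9e3, [], [], []⟩)))) (.node (.node (.node (.node (.leaf ⟨nat_lit 0, nat_lit 1, nat_lit 1, nat_lit 0, nat_lit 0xd05795c6, nat_lit 0xac315a8, [], [], []⟩) (.leaf ⟨nat_lit 1, nat_lit 11, nat_lit 10, nat_lit 0x1d46831c2, nat_lit 0x24c1912ad21, nat_lit 0x8910a81563, [], [], []⟩)) (.leaf ⟨nat_lit 1, nat_lit 10, nat_lit 10, nat_lit 0x408c3aa02, nat_lit 0x921061491, nat_lit 0x104f0241b1, [], [], []⟩)) (.node (.node (.leaf ⟨nat_lit 2, nat_lit 0, nat_lit 0, nat_lit 0xbd6c829c7, nat_lit 0, nat_lit 0, [], [], [nat_lit 12, nat_lit 0x1316b62851, nat_lit 13347]⟩) (.leaf ⟨nat_lit 1, nat_lit 9, nat_lit 14, nat_lit 0x178ccd58dea, nat_lit 0x89a633481, nat_lit 0x6aa288adc6, [], [], []⟩)) (.leaf ⟨nat_lit 1, nat_lit 8, nat_lit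 10, nat_lit 0x37a9c684161, nat_lit 0x225b0685ad, nat_lit 0x1738ac80588, [], [], []⟩))) (.node (.node (.node (.leaf ⟨nat_lit 0, nat_lit 1, nat_lit 1, nat_lit 0, nat_lit 0x4c5c78b982, nat_lit 0x1def3b5c8, [], [], []⟩) (.leaf ⟨nat_lit 1, nat_lit 12, nat_lit 11, nat_lit 0x42c7023542, nat_lit 0x741a26b461, nat_lit 0x739d10996d, [], [], []⟩)) (.leaf ⟨nat_lit 1, nat_lit 10, nat_lit 10, nat_lit 0x6258e615d1, nat_lit 0x58d2a53de4, nat_lit 0x82dc42a9f1, [], [], []⟩)) (.node (.leaf ⟨nat_lit 1, nat_lit 10, nat_lit 10, nat_lit 0xd17ac6f, nat_lit 0x329c78402d, nat_lit 0x8b94d4b20d, [], [], []⟩) (.leaf ⟨nat_lit 1, nat_lit 10, nat_lit 10, nat_lit 0x5c52c3bd81, nat_lit 0x980e0b64581, nat_lit 0x4b94c6258a, [], [], []⟩))))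

noncomputable def F75 : GT Fa := .node (.node (.node (.node (.node (.leaf ⟨nat_lit 2, nat_lit 0, nat_lit 0, nat_lit 6241, nat_lit 0, nat_lit 0, [], [], [nat_lit 6, nat_lit 1126]⟩) (.leaf ⟨nat_lit 1, nat_lit 10, nat_lit 9, nat_lit 0x14d5b22e, nat_lit 0xb1b5c25ad61, nat_lit 0x269d9163e02, [], [], []⟩)) (.leaf ⟨nat_lit 1, nat_lit 10, nat_lit 10, nat_lit 0x30ec71c81, nat_lit 0x811ef398e2, nat_lit 0x272c235b9a1, [], [], []⟩)) (.node (.node (.leaf ⟨nat_lit 0, nat_lit 1, nat_lit 1, nat_lit 0, nat_lit 0x3d304bc62, nat_lit 0x129cd23545, [], [], []⟩) (.leaf ⟨nat_lit 0, nat_lit 13, nat_lit 13, nat_lit 0, nat_lit 0x9896b523, nat_lit 0x151691ec, [], [], []⟩)) (.leaf ⟨nat_lit 1, nat_lit 10, nat_lit 10, nat_lit 0x5bd115c5ae, nat_lit 0x3b5e3841c2, nat_lit 0x32c2b4b88f, [], [], []⟩))) (.node (.node (.node (.leaf ⟨nat_lit 0, nat_lit 1, nat_lit 1, nat_lit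 0, nat_lit 0x2290a745c6, nat_lit 0x1298e4c16e, [], [], []⟩) (.leaf ⟨nat_lit 1, nat_lit 11, nat_lit 10, nat_lit 0x42e218922a, nat_lit 0x145640b5c6, nat_lit 0x3b9710c1c7, [], [], []⟩)) (.leaf ⟨nat_lit 1, nat_lit 10, nat_lit 10, nat_lit 0x32ad6b2b142, nat_lit 0x415cb810b1, nat_lit 0x26906b2b962, [], [], []⟩)) (.node (.node (.leaf ⟨nat_lit 1, nat_lit 9, nat_lit 10, nat_lit 0x1a62531608, nat_lit 0x19985445a2, nat_lit 0x99822be01, [], [], []⟩) (.leaf ⟨nat_lit 1, nat_lit 14, nat_lit 11, nat_lit 0x12a84f51921, nat_lit 0x111487b5c5, nat_lit 0x13da323c8c, [], [], []⟩)) (.leaf ⟨nat_lit 1, nat_lit 10, nat_lit 10, nat_lit 0x279da45b8a1, nat_lit 0x16bd6b82dc9, nat_lit 0x82c8c2298a, [], [], []⟩)))) (.node (.node (.node (.node (.leaf ⟨nat_lit 0, nat_lit 1, nat_lit 1, nat_lit 0, nat_lit 0x290e5bd45, nat_lit 0xb22d8b4e2, [], [], []⟩) (.leaf ⟨nat_lit 1, nat_lit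 11, nat_lit 10, nat_lit 0x19a2b8a9cd, nat_lit 0x47ac2b7b443, nat_lit 0x17952c88621, [], [], []⟩)) (.leaf ⟨nat_lit 1, nat_lit 10, nat_lit 10, nat_lit 0x1441f11bd65, nat_lit 0x291cc3ae2c, nat_lit 0x4b7a9ea0b0e1, [], [], []⟩)) (.node (.node (.leaf ⟨nat_lit 1, nat_lit 7, nat_lit 6, nat_lit 0xade75c626, nat_lit 0x86e1a9a7, nat_lit 0x262e107b4af, [], [], []⟩) (.leaf ⟨nat_lit 1, nat_lit 10, nat_lit 14, nat_lit 0x5911b168, nat_lit 0x2a0e6446c, nat_lit 0x53d6e5c0c5, [], [], []⟩)) (.leaf ⟨nat_lit 1, nat_lit 10, nat_lit 10, nat_lit 0x3bc8c13d4e, nat_lit 0x8bd4d1b602, nat_lit 0x3294d7c1d1, [], [], []⟩))) (.node (.node (.node (.leaf ⟨nat_lit 0, nat_lit 1, nat_lit 1, nat_lit 0, nat_lit 0x3b19062602, nat_lit 0x8b0b171da3, [], [], []⟩) (.leaf ⟨nat_lit 1, nat_lit 10, nat_lit 12, nat_lit 0x462c53e21, nat_lit 0xa1420b23541, nat_lit 0x27ad6d79422, [], [], []⟩))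 (.leaf ⟨nat_lit 1, nat_lit 10, nat_lit 10, nat_lit 0x2a9d061cb0, nat_lit 0x23d6b23462, nat_lit 0x17c62a0c1c6, [], [], []⟩)) (.node (.leaf ⟨nat_lit 1, nat_lit 10, nat_lit 10, nat_lit 0x3c470535a5, nat_lit 0x272dcd42982, nat_lit 0x731ca430e4, [], [], []⟩) (.leaf ⟨nat_lit 1, nat_lit 10, nat_lit 10, nat_lit 0x119d4a53950, nat_lit 0x5c1a45982a, nat_lit 0x12e2b5c08d, [], [], []⟩))))

noncomputable def F76 : GT Fa := .node (.node (.node (.node (.node (.leaf ⟨nat_lit 2, nat_lit 0, nat_lit 0, nat_lit 6241, nat_lit 0, nat_lit 0, [], [], [nat_lit 1126, nat_lit 6]⟩) (.leaf ⟨nat_lit 1, nat_lit 10, nat_lit 10, nat_lit 0x5314a33e2d, nat_lit 0x21a92a23d8e, nat_lit 0xa6c5d179461, [], [], []⟩)) (.leaf ⟨nat_lit 1, nat_lit 10, nat_lit 10, nat_lit 0xb130141aa, nat_lit 0x101c1c578541, nat_lit 0xd6c56571461, [], [], []⟩)) (.node (.node (.leaf ⟨nat_lit 0, nat_lit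 1, nat_lit 1, nat_lit 0, nat_lit 0x335ca640cb, nat_lit 0x95f02c4ae, [], [], []⟩) (.leaf ⟨nat_lit 1, nat_lit 13, nat_lit 10, nat_lit 0x3cd12b031, nat_lit 0x75950e83942, nat_lit 0x2416361223, [], [], []⟩)) (.leaf ⟨nat_lit 1, nat_lit 10, nat_lit 10, nat_lit 0x7a95021542, nat_lit 0x1c5ef614c7, nat_lit 0x3d4682d0b, [], [], []⟩))) (.node (.node (.node (.leaf ⟨nat_lit 0, nat_lit 1, nat_lit 1, nat_lit 0, nat_lit 0x90244e4, nat_lit 0x3c4b0, [], [], []⟩) (.leaf ⟨nat_lit 1, nat_lit 10, nat_lit 11, nat_lit 0x1bcad2ba0d, nat_lit 0x4b5b16a46e, nat_lit 0x99e37998b, [], [], []⟩)) (.leaf ⟨nat_lit 1, nat_lit 10, nat_lit 10, nat_lit 0xb9ab32a2f, nat_lit 0x981e0e5a461, nat_lit 0x151d903a841, [], [], []⟩)) (.node (.node (.leaf ⟨nat_lit 1, nat_lit 10, nat_lit 10, nat_lit 0x40ad8b4c2, nat_lit 0x110b501, nat_lit 0x53b46c, [], [], []⟩) (.leaf ⟨nat_lit 1, nat_lit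 14, nat_lit 12, nat_lit 0x6ad90830a1, nat_lit 0xb330eb5b8e2, nat_lit 0x1316c80d4a, [], [], []⟩)) (.leaf ⟨nat_lit 1, nat_lit 10, nat_lit 10, nat_lit 0x15adc7645e7, nat_lit 0x5c1688b922, nat_lit 0x53cca6b4c6, [], [], []⟩)))) (.node (.node (.node (.node (.leaf ⟨nat_lit 0, nat_lit 1, nat_lit 1, nat_lit 0, nat_lit 0x134d17442d, nat_lit 0x8677306e, [], [], []⟩) (.leaf ⟨nat_lit 1, nat_lit 11, nat_lit 10, nat_lit 0x2a9855b841, nat_lit 0x145c46414d, nat_lit 0x2dc782e10, [], [], []⟩)) (.leaf ⟨nat_lit 1, nat_lit 10, nat_lit 10, nat_lit 0x12ae0d69c82, nat_lit 0xc0a8af6a841, nat_lit 0xc191545ea, [], [], []⟩)) (.node (.node (.leaf ⟨nat_lit 0, nat_lit 7, nat_lit 7, nat_lit 0, nat_lit 0xef89d6f, nat_lit 0x4c20382cab, [], [], []⟩) (.leaf ⟨nat_lit 1, nat_lit 14, nat_lit 10, nat_lit 0x2412c8b1e3, nat_lit 0x21df189e10, nat_lit 0x8320684169, [], [], []⟩)) (.leaf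 ⟨nat_lit 1, nat_lit 10, nat_lit 10, nat_lit 0x262dce73562, nat_lit 0x21b5c569461, nat_lit 0x58d8c3b8a1, [], [], []⟩))) (.node (.node (.node (.leaf ⟨nat_lit 0, nat_lit 1, nat_lit 1, nat_lit 0, nat_lit 0x1f079a09, nat_lit 0x25f0798b0, [], [], []⟩) (.leaf ⟨nat_lit 1, nat_lit 10, nat_lit 12, nat_lit 0x895cb48c83, nat_lit 0x20a68408e, nat_lit 0xa62e8b482, [], [], []⟩)) (.leaf ⟨nat_lit 1, nat_lit 10, nat_lit 10, nat_lit 0x2464190585c1, nat_lit 0x9dab7c1ad, nat_lit 0x720aa7ae08, [], [], []⟩)) (.node (.leaf ⟨nat_lit 1, nat_lit 10, nat_lit 10, nat_lit 0x6c12268565, nat_lit 0xb7bd4f7ad82, nat_lit 0x4b7bda46c0c1, [], [], []⟩) (.leaf ⟨nat_lit 1, nat_lit 10, nat_lit 10, nat_lit 0x13e0e628f1, nat_lit 0x33b18351542, nat_lit 0x23322d7b5a6, [], [], []⟩))))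

noncomputable def F77 : GT Fa := .node (.node (.node (.node (.node (.leaf ⟨nat_lit 2, nat_lit 0, nat_lit 0, nat_lit 6, nat_lit 0, nat_lit 0, [], [], [nat_lit 6, nat_lit 6]⟩) (.leaf ⟨nat_lit 1, nat_lit 10, nat_lit 10, nat_lit 0xe8b9ce62222, nat_lit 0x7bc904c10f, nat_lit 0x27bd6e715e7, [], [], []⟩)) (.leaf ⟨nat_lit 1, nat_lit 10, nat_lit 10, nat_lit 0x6721ed595a2, nat_lit 0x4a16e73550, nat_lit 0xb18f23551, [], [], []⟩)) (.node (.node (.leaf ⟨nat_lit 0, nat_lit 1, nat_lit 1, nat_lit 0, nat_lit 0x1e282ba2e, nat_lit 0xbe082be08, [], [], []⟩) (.leaf ⟨nat_lit 1, nat_lit 10, nat_lit 13, nat_lit 0xa1115352b, nat_lit 0x36ad3163d22, nat_lit 0x5b44e121ea, [], [], []⟩)) (.leaf ⟨nat_lit 1, nat_lit 10, nat_lit 10, nat_lit 0x2a71c8f81622, nat_lit 0x1a16b731c3, nat_lit 0x7bd4e81550, [], [], []⟩))) (.node (.node (.node (.leaf ⟨nat_lit 0, nat_lit 1, nat_lit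 1, nat_lit 0, nat_lit 0x1d8569461, nat_lit 0x6789605, [], [], []⟩) (.leaf ⟨nat_lit 1, nat_lit 9, nat_lit 11, nat_lit 0x1729cc8196b, nat_lit 0x3de85956f, nat_lit 0x406f51dc5, [], [], []⟩)) (.leaf ⟨nat_lit 1, nat_lit 9, nat_lit 10, nat_lit 0x25bd2f61043, nat_lit 0x733a0a44422, nat_lit 0x13c064641c2, [], [], []⟩)) (.node (.node (.leaf ⟨nat_lit 1, nat_lit 10, nat_lit 7, nat_lit 0x95ca53226, nat_lit 0x859dd168de1, nat_lit 0x1414d18b542, [], [], []⟩) (.leaf ⟨nat_lit 1, nat_lit 10, nat_lit 14, nat_lit 0x161a0e341e2, nat_lit 0x119cd238ab, nat_lit 0x14458f2b621, [], [], []⟩)) (.leaf ⟨nat_lit 1, nat_lit 10, nat_lit 10, nat_lit 0x28b4cf8bc43, nat_lit 0x18a54953cc1, nat_lit 0x2394e2aa10, [], [], []⟩)))) (.node (.node (.node (.node (.leaf ⟨nat_lit 0, nat_lit 1, nat_lit 1, nat_lit 0, nat_lit 0x303123d62, nat_lit 0x4be068b8e8, [], [], []⟩) (.leaf ⟨nat_lit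 0, nat_lit 11, nat_lit 11, nat_lit 0, nat_lit 0x41809ef, nat_lit 0x1d080831, [], [], []⟩)) (.leaf ⟨nat_lit 1, nat_lit 10, nat_lit 10, nat_lit 0x38b8cd08a02, nat_lit 0x3163160d4f, nat_lit 0x62dd073563, [], [], []⟩)) (.node (.node (.leaf ⟨nat_lit 2, nat_lit 0, nat_lit 0, nat_lit 12385, nat_lit 0, nat_lit 0, [], [], [nat_lit 0x515511c627, nat_lit 13347, nat_lit 0x19af4c10f]⟩) (.leaf ⟨nat_lit 1, nat_lit 10, nat_lit 14, nat_lit 0x145648b44f, nat_lit 0xc3320f8a181, nat_lit 0x26222c1b942, [], [], []⟩)) (.leaf ⟨nat_lit 1, nat_lit 10, nat_lit 10, nat_lit 0x36b98860561, nat_lit 0x23254d841a1, nat_lit 0x2525f17b20b, [], [], []⟩))) (.node (.node (.node (.leaf ⟨nat_lit 0, nat_lit 1, nat_lit 1, nat_lit 0, nat_lit 0x1158e8adc2, nat_lit 0x1214e51dcd, [], [], []⟩) (.leaf ⟨nat_lit 1, nat_lit 12, nat_lit 10, nat_lit 0x143d48640a2, nat_lit 0x5c20e7056f, nat_lit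 0x28312a8acea, [], [], []⟩)) (.leaf ⟨nat_lit 1, nat_lit 10, nat_lit 10, nat_lit 0x536215c5ec, nat_lit 0x5912d74109, nat_lit 0x329cd21504, [], [], []⟩)) (.node (.leaf ⟨nat_lit 1, nat_lit 9, nat_lit 10, nat_lit 0x40aa789ae, nat_lit 0x356d84208, nat_lit 0x8db064581, [], [], []⟩) (.leaf ⟨nat_lit 1, nat_lit 10, nat_lit 10, nat_lit 0xd6b9618b882, nat_lit 0xadab8c563, nat_lit 0x2729c2840c3, [], [], []⟩))))

noncomputable def F78 : GT Fa := .node (.node (.node (.node (.node (.leaf ⟨nat_lit 2, nat_lit 0, nat_lit 0, nat_lit 6, nat_lit 0, nat_lit 0, [], [], [nat_lit 8, nat_lit 6179, nat_lit 8, nat_lit 6179, nat_lit 8, nat_lit 6179, nat_lit 8289]⟩) (.leaf ⟨nat_lit 1, nat_lit 10, nat_lit 10, nat_lit 0x3b18e38601, nat_lit 0xa62511644e1, nat_lit 0x113e2d531e7, [], [], []⟩)) (.leaf ⟨nat_lit 1, nat_lit 10, nat_lit 9, nat_lit 0x22290f8c470, nat_lit 0x1730b162dc8,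 nat_lit 0x1138ed734e5, [], [], []⟩)) (.node (.node (.leaf ⟨nat_lit 0, nat_lit 1, nat_lit 1, nat_lit 0, nat_lit 0x31c28adc2, nat_lit 0xb04f415c3, [], [], []⟩) (.leaf ⟨nat_lit 1, nat_lit 10, nat_lit 13, nat_lit 0xe541aa440c1, nat_lit 0x2456453841, nat_lit 0x6bd5084123, [], [], []⟩)) (.leaf ⟨nat_lit 1, nat_lit 10, nat_lit 10, nat_lit 0xd241a88bd62, nat_lit 0x180d447a9e6, nat_lit 0x7b4ed79ca8, [], [], []⟩))) (.node (.node (.node (.leaf ⟨nat_lit 0, nat_lit 1, nat_lit 1, nat_lit 0, nat_lit 0x10c61628, nat_lit 0xa23135a3, [], [], []⟩) (.leaf ⟨nat_lit 1, nat_lit 11, nat_lit 11, nat_lit 0x9a2f1c1c1, nat_lit 0x233b56c53921, nat_lit 0x511e3245e1, [], [], []⟩)) (.leaf ⟨nat_lit 1, nat_lit 10, nat_lit 10, nat_lit 0x4535e38b182, nat_lit 0x1c1e48916b, nat_lit 0x885713b202, [], [], []⟩)) (.node (.node (.leaf ⟨nat_lit 1, nat_lit 10, nat_lit 10, nat_lit 0x599e889542,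 nat_lit 0x6aa0e2b5ca, nat_lit 0x2c696c624, [], [], []⟩) (.leaf ⟨nat_lit 1, nat_lit 14, nat_lit 9, nat_lit 0xb06ac51, nat_lit 0x12416b58e01, nat_lit 0xa88f6a8c5, [], [], []⟩)) (.leaf ⟨nat_lit 1, nat_lit 10, nat_lit 10, nat_lit 0x32198b72de1, nat_lit 0x32c70630ec, nat_lit 0x31c65bd8e, [], [], []⟩)))) (.node (.node (.node (.node (.leaf ⟨nat_lit 0, nat_lit 1, nat_lit 1, nat_lit 0, nat_lit 0x2c44c1aa2d, nat_lit 0xb5ca64169, [], [], []⟩) (.leaf ⟨nat_lit 1, nat_lit 11, nat_lit 10, nat_lit 0x8c7b104, nat_lit 0x1123154145, nat_lit 0x914a325e2, [], [], []⟩)) (.leaf ⟨nat_lit 1, nat_lit 10, nat_lit 10, nat_lit 0x95352c7a181, nat_lit 0x63de9885cc, nat_lit 0x32198c5420c, [], [], []⟩)) (.node (.node (.leaf ⟨nat_lit 2, nat_lit 0, nat_lit 0, nat_lit 0x31a2d834d1, nat_lit 0, nat_lit 0, [], [], [nat_lit 13347, nat_lit 0x19af4c10f, nat_lit 12]⟩) (.leaf ⟨nat_lit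 1, nat_lit 10, nat_lit 14, nat_lit 0x829c172da6, nat_lit 0x611f1591cd, nat_lit 0x263c8b8412d, [], [], []⟩)) (.leaf ⟨nat_lit 1, nat_lit 10, nat_lit 10, nat_lit 0x140f0839a6, nat_lit 0x62a0c7946a, nat_lit 0x312e101ad61, [], [], []⟩))) (.node (.node (.node (.leaf ⟨nat_lit 0, nat_lit 1, nat_lit 1, nat_lit 0, nat_lit 0x1bcd0345c6, nat_lit 0x7bda7730c2, [], [], []⟩) (.leaf ⟨nat_lit 1, nat_lit 12, nat_lit 12, nat_lit 0x28b0313a081, nat_lit 0xa83e0d54621, nat_lit 0x31e85b1e8, [], [], []⟩)) (.leaf ⟨nat_lit 1, nat_lit 10, nat_lit 10, nat_lit 0x8158f8a862, nat_lit 0x5ba0d8118c, nat_lit 0x619e58ad21, [], [], []⟩)) (.node (.leaf ⟨nat_lit 1, nat_lit 10, nat_lit 9, nat_lit 0x280a0e48621, nat_lit 0x518516b9c1, nat_lit 0x2421b0238ad, [], [], []⟩) (.leaf ⟨nat_lit 1, nat_lit 10, nat_lit 10, nat_lit 0x219cd8856b, nat_lit 0xc1f06c130, nat_lit 0x130a472d2e, [],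 [], []⟩))))

noncomputable def F79 : GT Fa := .node (.node (.node (.node (.node (.leaf ⟨nat_lit 2, nat_lit 0, nat_lit 0, nat_lit 8289, nat_lit 0, nat_lit 0, [], [], [nat_lit 6179, nat_lit 8, nat_lit 6179, nat_lit 8, nat_lit 6179, nat_lit 8289, nat_lit 6179]⟩) (.leaf ⟨nat_lit 1, nat_lit 10, nat_lit 10, nat_lit 0x3b8825ae08, nat_lit 0xc18281e0c, nat_lit 0xb0b1640c5, [], [], []⟩)) (.leaf ⟨nat_lit 1, nat_lit 7, nat_lit 10, nat_lit 0x225c10b83de1, nat_lit 0x12194e8a8c2, nat_lit 0x69610299ce, [], [], []⟩)) (.node (.node (.leaf ⟨nat_lit 0, nat_lit 1, nat_lit 1, nat_lit 0, nat_lit 0x3d8e72101, nat_lit 0x105c2689a1, [], [], []⟩) (.leaf ⟨nat_lit 1, nat_lit 13, nat_lit 10, nat_lit 0xd6b9315c0e1, nat_lit 0x8390f69a25, nat_lit 0x14f0138ca, [], [], []⟩)) (.leaf ⟨nat_lit 1, nat_lit 10, nat_lit 10, nat_lit 0x4a94f62dec, nat_lit 0x12adc383622, nat_lit 0x27b6310a946,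 [], [], []⟩))) (.node (.node (.node (.leaf ⟨nat_lit 0, nat_lit 1, nat_lit 1, nat_lit 0, nat_lit 0x125b12c182, nat_lit 0x1362583122, [], [], []⟩) (.leaf ⟨nat_lit 1, nat_lit 9, nat_lit 11, nat_lit 0x535e42b4e1, nat_lit 0x21a9ad730ee, nat_lit 0x2420ad5b5e4, [], [], []⟩)) (.leaf ⟨nat_lit 1, nat_lit 10, nat_lit 10, nat_lit 0xa6ac7053601, nat_lit 0x36b4902c1a1, nat_lit 0x7bcaf81984, [], [], []⟩)) (.node (.node (.leaf ⟨nat_lit 1, nat_lit 10, nat_lit 9, nat_lit 0x10cb0230ab, nat_lit 0xb6068948e, nat_lit 0x278d667c48e, [], [], []⟩) (.leaf ⟨nat_lit 1, nat_lit 14, nat_lit 14, nat_lit 0x21a86163c22, nat_lit 0x91ae2a922, nat_lit 0x2511ed889e1, [], [], []⟩)) (.leaf ⟨nat_lit 1, nat_lit 10, nat_lit 10, nat_lit 0xa82943539c1, nat_lit 0xc5eb4450f, nat_lit 0x1196f82df0, [], [], []⟩)))) (.node (.node (.node (.node (.leaf ⟨nat_lit 0, nat_lit 1, nat_lit 1, nat_lit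 0, nat_lit 0x40ad13c22, nat_lit 0x33c4b0, [], [], []⟩) (.leaf ⟨nat_lit 1, nat_lit 10, nat_lit 11, nat_lit 0x4eb5898c, nat_lit 0x76ad255b861, nat_lit 0x5a16e83d2d, [], [], []⟩)) (.leaf ⟨nat_lit 1, nat_lit 10, nat_lit 10, nat_lit 0x3e0f7950b, nat_lit 0xb54c8c5a4, nat_lit 0x28b54c71224, [], [], []⟩)) (.node (.node (.leaf ⟨nat_lit 2, nat_lit 0, nat_lit 0, nat_lit 13, nat_lit 0, nat_lit 0, [], [], [nat_lit 0x19af4c10f, nat_lit 12, nat_lit 0x515511c627]⟩) (.leaf ⟨nat_lit 1, nat_lit 14, nat_lit 9, nat_lit 0x230ed6862e, nat_lit 0xb435a46a1a2, nat_lit 0x519eb8c483, [], [], []⟩)) (.leaf ⟨nat_lit 1, nat_lit 10, nat_lit 10, nat_lit 0xa60f835c8, nat_lit 0x6208c71da2, nat_lit 0x835e4509f1, [], [], []⟩))) (.node (.node (.node (.leaf ⟨nat_lit 0, nat_lit 1, nat_lit 1, nat_lit 0, nat_lit 0x320b84125, nat_lit 0x5396953202, [], [], []⟩) (.leaf ⟨nat_lit 1, nat_lit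 10, nat_lit 12, nat_lit 0x89ce71625, nat_lit 0x83c54863e22, nat_lit 0xe8adc852981, [], [], []⟩)) (.leaf ⟨nat_lit 1, nat_lit 10, nat_lit 10, nat_lit 0x7998e0b60c, nat_lit 0x1b12f8ac8e, nat_lit 0x16b5a37320d, [], [], []⟩)) (.node (.leaf ⟨nat_lit 1, nat_lit 10, nat_lit 10, nat_lit 0x7bde9615c2, nat_lit 0x105c1f143d61, nat_lit 0xa61062c83, [], [], []⟩) (.leaf ⟨nat_lit 1, nat_lit 10, nat_lit 10, nat_lit 0x5ae2c50d4f, nat_lit 0x14b1ea74181, nat_lit 0x15b02a7208c, [], [], []⟩))))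

noncomputable def F80 : GT Fa := .node (.node (.node (.node (.node (.leaf ⟨nat_lit 2, nat_lit 0, nat_lit 0, nat_lit 6, nat_lit 0, nat_lit 0, [], [], [nat_lit 8, nat_lit 6179, nat_lit 8, nat_lit 6179, nat_lit 8289, nat_lit 6179, nat_lit 8]⟩) (.leaf ⟨nat_lit 1, nat_lit 10, nat_lit 10, nat_lit 0x6116b5ae2a, nat_lit 0xb9cc53de9, nat_lit 0x1360113064, [], [], []⟩)) (.leaf ⟨nat_lit 1, nat_lit 10, nat_lit 10, nat_lit 0x2919034582, nat_lit 0xa530ea63942, nat_lit 0x1709d153970, [], [], []⟩)) (.node (.node (.leaf ⟨nat_lit 0, nat_lit 1, nat_lit 1, nat_lit 0, nat_lit 0x1051079606, nat_lit 0x9845b466, [], [], []⟩) (.leaf ⟨nat_lit 1, nat_lit 10, nat_lit 13, nat_lit 0x2c46a13ca2, nat_lit 0x2819a26b4a2, nat_lit 0x15c853da7, [], [], []⟩)) (.leaf ⟨nat_lit 1, nat_lit 10, nat_lit 10, nat_lit 0x21e107452f, nat_lit 0x2c48e5ac61, nat_lit 0x113cef7c4e1, [], [],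 []⟩))) (.node (.node (.node (.leaf ⟨nat_lit 0, nat_lit 1, nat_lit 1, nat_lit 0, nat_lit 0x3cef6a5c5, nat_lit 0x1064615a9, [], [], []⟩) (.leaf ⟨nat_lit 1, nat_lit 11, nat_lit 9, nat_lit 0xa7b12a1b942, nat_lit 0x13a98962225, nat_lit 0x282a2572dcd, [], [], []⟩)) (.leaf ⟨nat_lit 1, nat_lit 10, nat_lit 10, nat_lit 0x4322a81d62, nat_lit 0x5360e60a26, nat_lit 0x8dd0425c1, [], [], []⟩)) (.node (.node (.leaf ⟨nat_lit 1, nat_lit 10, nat_lit 10, nat_lit 0x14523745ec, nat_lit 0x19eb60d51, nat_lit 0x3444481da1, [], [], []⟩) (.leaf ⟨nat_lit 1, nat_lit 10, nat_lit 14, nat_lit 0x39027c5e6, nat_lit 0xe8bd8581041, nat_lit 0x13b54a60a2e, [], [], []⟩)) (.leaf ⟨nat_lit 1, nat_lit 10, nat_lit 10, nat_lit 0x259a2f1b182, nat_lit 0x6c10c63166, nat_lit 0x5ad316bda8, [], [], []⟩)))) (.node (.node (.node (.node (.leaf ⟨nat_lit 0, nat_lit 1, nat_lit 1, nat_lit 0, nat_lit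 0x18861628, nat_lit 0xb0a439963, [], [], []⟩) (.leaf ⟨nat_lit 1, nat_lit 11, nat_lit 10, nat_lit 0x1adca8a1ad, nat_lit 0x123c9154441, nat_lit 0x11deb3bd61, [], [], []⟩)) (.leaf ⟨nat_lit 1, nat_lit 10, nat_lit 10, nat_lit 0x6bcb042841, nat_lit 0x172c6f585a2, nat_lit 0x982c718a0a1, [], [], []⟩)) (.node (.node (.leaf ⟨nat_lit 2, nat_lit 0, nat_lit 0, nat_lit 0x1ca4c1c9, nat_lit 0, nat_lit 0, [], [], [nat_lit 12, nat_lit 0x515511c627, nat_lit 13347]⟩) (.leaf ⟨nat_lit 1, nat_lit 8, nat_lit 14, nat_lit 0x6196c8b161, nat_lit 0x4b9ce618ca, nat_lit 0x441695420c, [], [], []⟩)) (.leaf ⟨nat_lit 1, nat_lit 10, nat_lit 10, nat_lit 0x168561805d0, nat_lit 0x115adec430e1, nat_lit 0x1344b819a9, [], [], []⟩))) (.node (.node (.node (.leaf ⟨nat_lit 0, nat_lit 1, nat_lit 1, nat_lit 0, nat_lit 0x10f2b8c1, nat_lit 0x119f02b601, [], [], []⟩) (.leaf ⟨nat_lit 1, nat_lit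 12, nat_lit 10, nat_lit 0x32d8f5b0ce, nat_lit 0x631f06c483, nat_lit 0x13bd8313181, [], [], []⟩)) (.leaf ⟨nat_lit 1, nat_lit 10, nat_lit 10, nat_lit 0x2a0464542, nat_lit 0x2e0962905, nat_lit 0x262daf215e1, [], [], []⟩)) (.node (.leaf ⟨nat_lit 1, nat_lit 10, nat_lit 9, nat_lit 0xc1196b3be22, nat_lit 0x4cb62dc3, nat_lit 0x644310c206, [], [], []⟩) (.leaf ⟨nat_lit 1, nat_lit 10, nat_lit 10, nat_lit 0x13e2b82131, nat_lit 0x6317012d2e, nat_lit 0x1458b88965, [], [], []⟩))))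

noncomputable def F81 : GT Fa := .node (.node (.node (.node (.node (.leaf ⟨nat_lit 2, nat_lit 0, nat_lit 0, nat_lit 8289, nat_lit 0, nat_lit 0, [], [], [nat_lit 6179, nat_lit 8, nat_lit 6179, nat_lit 8289, nat_lit 6179, nat_lit 8, nat_lit 6179]⟩) (.leaf ⟨nat_lit 1, nat_lit 9, nat_lit 10, nat_lit 0x4b0af630d1, nat_lit 0x144150215f0, nat_lit 0xc838517b482, [], [], []⟩)) (.leaf ⟨nat_lit 1, nat_lit 10, nat_lit 10, nat_lit 0xa88a8082c, nat_lit 0x88b1d11b1c2, nat_lit 0x23b04f5a5a2, [], [], []⟩)) (.node (.node (.leaf ⟨nat_lit 0, nat_lit 1, nat_lit 1, nat_lit 0, nat_lit 0x120a314182, nat_lit 0x1344533521, [], [], []⟩) (.leaf ⟨nat_lit 0, nat_lit 13, nat_lit 13, nat_lit 0, nat_lit 0x53c18b8c622, nat_lit 0x113e31698d0, [], [], []⟩)) (.leaf ⟨nat_lit 1, nat_lit 10, nat_lit 9, nat_lit 0x1ad675b5a4, nat_lit 0x5262b4c12f, nat_lit 0x22b46b7b1e1, [], [],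 []⟩))) (.node (.node (.node (.leaf ⟨nat_lit 0, nat_lit 1, nat_lit 1, nat_lit 0, nat_lit 0x2a83079d6d, nat_lit 0x21ec71cce, [], [], []⟩) (.leaf ⟨nat_lit 1, nat_lit 9, nat_lit 11, nat_lit 0x6066adc9, nat_lit 0x5902d53061, nat_lit 0x27a5f13c44d, [], [], []⟩)) (.leaf ⟨nat_lit 1, nat_lit 10, nat_lit 10, nat_lit 0x483d846c101, nat_lit 0xb4bde664141, nat_lit 0x6b5d12994f, [], [], []⟩)) (.node (.node (.leaf ⟨nat_lit 1, nat_lit 10, nat_lit 10, nat_lit 0xb831f083541, nat_lit 0x3160e59c4d, nat_lit 0x1539b11a9c2, [], [], []⟩) (.leaf ⟨nat_lit 1, nat_lit 10, nat_lit 14, nat_lit 0x222322372e01, nat_lit 0xc529c769c22, nat_lit 0x6386c439aa, [], [], []⟩)) (.leaf ⟨nat_lit 1, nat_lit 10, nat_lit 10, nat_lit 0x4b18f50a07, nat_lit 0x299cc811c4, nat_lit 0x229467ad0a, [], [], []⟩)))) (.node (.node (.node (.node (.leaf ⟨nat_lit 0, nat_lit 1, nat_lit 1, nat_lit 0,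 nat_lit 0x258861628, nat_lit 0xb0a66a0a3, [], [], []⟩) (.leaf ⟨nat_lit 1, nat_lit 10, nat_lit 11, nat_lit 0x17998861542, nat_lit 0x685b06aa07, nat_lit 0x3c5ad741e1, [], [], []⟩)) (.leaf ⟨nat_lit 1, nat_lit 10, nat_lit 10, nat_lit 0x1a1315b550, nat_lit 0x71dad8a0a3, nat_lit 0x7b56762d86, [], [], []⟩)) (.node (.node (.leaf ⟨nat_lit 2, nat_lit 0, nat_lit 0, nat_lit 12385, nat_lit 0, nat_lit 0, [], [], [nat_lit 0x4c20382cab, nat_lit 13347, nat_lit 0xc1aa26]⟩) (.leaf ⟨nat_lit 1, nat_lit 10, nat_lit 14, nat_lit 0x7348e24622, nat_lit 0x4b551640e1, nat_lit 0x629c253522, [], [], []⟩)) (.leaf ⟨nat_lit 1, nat_lit 10, nat_lit 10, nat_lit 0x41a3738ed, nat_lit 0x2329515c0c2, nat_lit 0x639c8809a4, [], [], []⟩))) (.node (.node (.node (.leaf ⟨nat_lit 0, nat_lit 1, nat_lit 1, nat_lit 0, nat_lit 0x150f2b8c1, nat_lit 0x22361627, [], [], []⟩) (.leaf ⟨nat_lit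 1, nat_lit 10, nat_lit 12, nat_lit 0x94d3418f, nat_lit 0x3316b43921, nat_lit 0x5b5e17c04c, [], [], []⟩)) (.leaf ⟨nat_lit 1, nat_lit 10, nat_lit 10, nat_lit 0xb8394c8c4a2, nat_lit 0x60d6f444ae, nat_lit 0x6322b7bc22, [], [], []⟩)) (.node (.leaf ⟨nat_lit 1, nat_lit 10, nat_lit 10, nat_lit 0x1432267c1e1, nat_lit 0x345aa83da3, nat_lit 0x22250b5b8e1, [], [], []⟩) (.leaf ⟨nat_lit 1, nat_lit 10, nat_lit 10, nat_lit 0x36b8ce6aa21, nat_lit 0x58b1cc431c2, nat_lit 0xb5703160a, [], [], []⟩))))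

noncomputable def F82 : GT Fa := .node (.node (.node (.node (.node (.leaf ⟨nat_lit 2, nat_lit 0, nat_lit 0, nat_lit 6, nat_lit 0, nat_lit 0, [], [], [nat_lit 8, nat_lit 6179, nat_lit 8289, nat_lit 6179, nat_lit 8, nat_lit 6179, nat_lit 8]⟩) (.leaf ⟨nat_lit 1, nat_lit 10, nat_lit 10, nat_lit 0x295c6276b561, nat_lit 0x7b524819c1, nat_lit 0x16b98f1c5e2, [], [], []⟩)) (.leaf ⟨nat_lit 1, nat_lit 10, nat_lit 9, nat_lit 0x918c539ad, nat_lit 0x20d8164502, nat_lit 0x15294a3b185, [], [], []⟩)) (.node (.node (.leaf ⟨nat_lit 0, nat_lit 1, nat_lit 1, nat_lit 0, nat_lit 0x3524307acc2, nat_lit 0x31502456d, [], [], []⟩) (.leaf ⟨nat_lit 0, nat_lit 13, nat_lit 13, nat_lit 0, nat_lit 0x6ba0d6b570, nat_lit 0x2a16b5860c, [], [], []⟩)) (.leaf ⟨nat_lit 1, nat_lit 10, nat_lit 10, nat_lit 0x85442e69a02, nat_lit 0x399ab721c1, nat_lit 0x6292e5b4cb, [], [], []⟩)))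 (.node (.node (.node (.leaf ⟨nat_lit 0, nat_lit 1, nat_lit 1, nat_lit 0, nat_lit 0x30512a110, nat_lit 0x7b20f7bde4, [], [], []⟩) (.leaf ⟨nat_lit 1, nat_lit 11, nat_lit 10, nat_lit 0x132c6f7c1c1, nat_lit 0x11b20e4c187, nat_lit 0x1639a53b441, [], [], []⟩)) (.leaf ⟨nat_lit 1, nat_lit 10, nat_lit 10, nat_lit 0x1689c45ac31, nat_lit 0x36ad636b5c1, nat_lit 0x83c8c63d6c, [], [], []⟩)) (.node (.node (.leaf ⟨nat_lit 1, nat_lit 10, nat_lit 10, nat_lit 0x4aa13609, nat_lit 0x4162e0acb0, nat_lit 0x2cd17a141, [], [], []⟩) (.leaf ⟨nat_lit 1, nat_lit 9, nat_lit 14, nat_lit 0x1a258a461, nat_lit 0x591837c4a6, nat_lit 0x60c417a5f0, [], [], []⟩)) (.leaf ⟨nat_lit 1, nat_lit 10, nat_lit 10, nat_lit 0x8831645e9, nat_lit 0x58c24624, nat_lit 0x21ae046c206, [], [], []⟩)))) (.node (.node (.node (.node (.leaf ⟨nat_lit 0, nat_lit 1, nat_lit 1, nat_lit 0, nat_lit 0x8ba2873102,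 nat_lit 0x51d5123202, [], [], []⟩) (.leaf ⟨nat_lit 1, nat_lit 10, nat_lit 11, nat_lit 0xd6b85050a21, nat_lit 0x37c0d17c5a2, nat_lit 0x63de552225, [], [], []⟩)) (.leaf ⟨nat_lit 1, nat_lit 10, nat_lit 10, nat_lit 0x1c16354551, nat_lit 0x51d914b9a9, nat_lit 0x8ca45318b, [], [], []⟩)) (.node (.node (.leaf ⟨nat_lit 2, nat_lit 0, nat_lit 0, nat_lit 0x1954d5c08d, nat_lit 0, nat_lit 0, [], [], [nat_lit 13347, nat_lit 0xc1aa26, nat_lit 12]⟩) (.leaf ⟨nat_lit 1, nat_lit 10, nat_lit 14, nat_lit 0x8346a0a9d1, nat_lit 0x82c08b63182, nat_lit 0x8254f4c4e3, [], [], []⟩)) (.leaf ⟨nat_lit 1, nat_lit 10, nat_lit 10, nat_lit 0x87c5a570e02, nat_lit 0x98b56382ce1, nat_lit 0x7a94d73a01, [], [], []⟩))) (.node (.node (.node (.leaf ⟨nat_lit 0, nat_lit 1, nat_lit 1, nat_lit 0, nat_lit 0x298ed5c5ea, nat_lit 0x134ec1ada4, [], [], []⟩) (.leaf ⟨nat_lit 1, nat_lit 12, nat_lit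 10, nat_lit 0x6bde18b5a6, nat_lit 0x21c570835a1, nat_lit 0x3b9877c5e8, [], [], []⟩)) (.leaf ⟨nat_lit 1, nat_lit 10, nat_lit 10, nat_lit 0xc52f545e9, nat_lit 0xa10721f1, nat_lit 0x18b0a66144d, [], [], []⟩)) (.node (.leaf ⟨nat_lit 1, nat_lit 10, nat_lit 10, nat_lit 0x3e266392e, nat_lit 0x4462c7c48b, nat_lit 0xb0ac729ad, [], [], []⟩) (.leaf ⟨nat_lit 1, nat_lit 9, nat_lit 10, nat_lit 0x82dad1b8ed, nat_lit 0x5c02d790af, nat_lit 0x88ccb61605, [], [], []⟩))))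

noncomputable def F83 : GT Fa := .node (.node (.node (.node (.node (.leaf ⟨nat_lit 2, nat_lit 0, nat_lit 0, nat_lit 8289, nat_lit 0, nat_lit 0, [], [], [nat_lit 6179, nat_lit 8289, nat_lit 6179, nat_lit 8, nat_lit 6179, nat_lit 8, nat_lit 6179]⟩) (.leaf ⟨nat_lit 1, nat_lit 10, nat_lit 10, nat_lit 0x7158572a04, nat_lit 0x6b42b1c584, nat_lit 0x2a9316284d, [], [], []⟩)) (.leaf ⟨nat_lit 1, nat_lit 10, nat_lit 10, nat_lit 0x3c04d719c1, nat_lit 0x3df049148, nat_lit 0x23b63129969, [], [], []⟩)) (.node (.node (.leaf ⟨nat_lit 0, nat_lit 1, nat_lit 1, nat_lit 0, nat_lit 0x615af83c62, nat_lit 0xbe102c06e, [], [], []⟩) (.leaf ⟨nat_lit 0, nat_lit 13, nat_lit 13, nat_lit 0, nat_lit 0x2730ea8c581, nat_lit 0x17a5ef58dc2, [], [], []⟩)) (.leaf ⟨nat_lit 1, nat_lit 10, nat_lit 10, nat_lit 0x22445ed43221, nat_lit 0x4322f898d1, nat_lit 0xc809ed53c61, [], [],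 []⟩))) (.node (.node (.node (.leaf ⟨nat_lit 0, nat_lit 1, nat_lit 1, nat_lit 0, nat_lit 0xa50c130e2, nat_lit 0xc299a8, [], [], []⟩) (.leaf ⟨nat_lit 1, nat_lit 10, nat_lit 11, nat_lit 0x7c14a1c02e, nat_lit 0x19130735a3, nat_lit 0x5920c62c8c, [], [], []⟩)) (.leaf ⟨nat_lit 1, nat_lit 10, nat_lit 10, nat_lit 0x11e2353081, nat_lit 0x7ad6b5b98e, nat_lit 0x58df17348f, [], [], []⟩)) (.node (.node (.leaf ⟨nat_lit 1, nat_lit 10, nat_lit 10, nat_lit 0x135d079604, nat_lit 0x1631665b202, nat_lit 0x30462be01, [], [], []⟩) (.leaf ⟨nat_lit 1, nat_lit 10, nat_lit 14, nat_lit 0xb4c206729c2, nat_lit 0x6862e8918f, nat_lit 0x16420a2456e, [], [], []⟩)) (.leaf ⟨nat_lit 1, nat_lit 10, nat_lit 10, nat_lit 0xf640837b222, nat_lit 0xe6055043a21, nat_lit 0x506096f1c541, [], [], []⟩)))) (.node (.node (.node (.node (.leaf ⟨nat_lit 0, nat_lit 1, nat_lit 1, nat_lit 0, nat_lit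 0x10e0f83e08, nat_lit 0x2cce43e24, [], [], []⟩) (.leaf ⟨nat_lit 1, nat_lit 10, nat_lit 11, nat_lit 0x129416a18f, nat_lit 0x16410b5c082, nat_lit 0x7b54f3c091, [], [], []⟩)) (.leaf ⟨nat_lit 1, nat_lit 10, nat_lit 10, nat_lit 0x2d6e6c1ef, nat_lit 0xc18f1c525, nat_lit 0x2d439ae82422, [], [], []⟩)) (.node (.node (.leaf ⟨nat_lit 2, nat_lit 0, nat_lit 0, nat_lit 13, nat_lit 0, nat_lit 0, [], [], [nat_lit 0xc1aa26, nat_lit 12, nat_lit 0x4c20382cab]⟩) (.leaf ⟨nat_lit 1, nat_lit 10, nat_lit 14, nat_lit 0x2ad8f8b0e6, nat_lit 0x470e2c61222, nat_lit 0x162e5254a, [], [], []⟩)) (.leaf ⟨nat_lit 1, nat_lit 10, nat_lit 10, nat_lit 0x2e2b24165, nat_lit 0x48a9cb41043, nat_lit 0x412c8b9c4, [], [], []⟩))) (.node (.node (.node (.leaf ⟨nat_lit 0, nat_lit 1, nat_lit 1, nat_lit 0, nat_lit 0x2a88a32ce2, nat_lit 0xdef685a5, [], [], []⟩) (.leaf ⟨nat_lit 1, nat_lit 12,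 nat_lit 10, nat_lit 0xb0ca89ca1, nat_lit 0x2a62def545a2, nat_lit 0x1412a695a1, [], [], []⟩)) (.leaf ⟨nat_lit 1, nat_lit 10, nat_lit 10, nat_lit 0x2a0a82b5be21, nat_lit 0x4b14f699e1, nat_lit 0x1d4d72da6, [], [], []⟩)) (.node (.leaf ⟨nat_lit 1, nat_lit 9, nat_lit 10, nat_lit 0x3996e599ec, nat_lit 0x37ac6c88a21, nat_lit 0x344cc7322c, [], [], []⟩) (.leaf ⟨nat_lit 1, nat_lit 10, nat_lit 10, nat_lit 0x26a9ae5a562, nat_lit 0x15362b6c621, nat_lit 0x18396c19942, [], [], []⟩))))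

noncomputable def F84 : GT Fa := .node (.node (.node (.node (.node (.leaf ⟨nat_lit 2, nat_lit 0, nat_lit 0, nat_lit 6, nat_lit 0, nat_lit 0, [], [], [nat_lit 8289, nat_lit 6179, nat_lit 8, nat_lit 6179, nat_lit 8, nat_lit 6179, nat_lit 8]⟩) (.leaf ⟨nat_lit 1, nat_lit 10, nat_lit 10, nat_lit 0x11445d01ba21, nat_lit 0x8154f0a9eb, nat_lit 0x68c54e130a4, [], [], []⟩)) (.leaf ⟨nat_lit 1, nat_lit 10, nat_lit 10, nat_lit 0x1630f01b482, nat_lit 0x47c52e59e22, nat_lit 0x88712bc85, [], [], []⟩)) (.node (.node (.leaf ⟨nat_lit 0, nat_lit 1, nat_lit 1, nat_lit 0, nat_lit 0x25392a28621, nat_lit 0x825421c3, [], [], []⟩) (.leaf ⟨nat_lit 1, nat_lit 13, nat_lit 13, nat_lit 0x23dab0c5b0, nat_lit 0x14543811e4, nat_lit 0x6b5ec59609, [], [], []⟩)) (.leaf ⟨nat_lit 1, nat_lit 10, nat_lit 10, nat_lit 0x12b96e3b885, nat_lit 0x28954f23141, nat_lit 0x231e1329ca, [],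 [], []⟩))) (.node (.node (.node (.leaf ⟨nat_lit 0, nat_lit 1, nat_lit 1, nat_lit 0, nat_lit 0x3d44705a1, nat_lit 0xdef699c7, [], [], []⟩) (.leaf ⟨nat_lit 1, nat_lit 10, nat_lit 11, nat_lit 0x432248bdea, nat_lit 0x1322b2bc41, nat_lit 0x2545a41c4c1, [], [], []⟩)) (.leaf ⟨nat_lit 1, nat_lit 9, nat_lit 10, nat_lit 0x19e315c1ea, nat_lit 0x1404d819af, nat_lit 0x1128cc7116b, [], [], []⟩)) (.node (.node (.leaf ⟨nat_lit 1, nat_lit 10, nat_lit 10, nat_lit 0x4c4eb71161, nat_lit 0xbd6861491, nat_lit 0x34258bd71, [], [], []⟩) (.leaf ⟨nat_lit 1, nat_lit 10, nat_lit 14, nat_lit 0x2156f4b510, nat_lit 0xb567505af, nat_lit 0x920152603, [], [], []⟩)) (.leaf ⟨nat_lit 1, nat_lit 10, nat_lit 8, nat_lit 0x2318e5220c, nat_lit 0x32922a8ad21, nat_lit 0x7a9cc811e1, [], [], []⟩)))) (.node (.node (.node (.node (.leaf ⟨nat_lit 0, nat_lit 1, nat_lit 1, nat_lit 0, nat_lit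 0x3e0f29a09, nat_lit 0x9a2e29a2e, [], [], []⟩) (.leaf ⟨nat_lit 1, nat_lit 10, nat_lit 11, nat_lit 0x1b10a7344d, nat_lit 0xb744ea6ade1, nat_lit 0x110c5f12c161, [], [], []⟩)) (.leaf ⟨nat_lit 1, nat_lit 10, nat_lit 10, nat_lit 0x5bd2d7aa0a, nat_lit 0x8898e628e5, nat_lit 0x6322b61991, [], [], []⟩)) (.node (.node (.leaf ⟨nat_lit 2, nat_lit 0, nat_lit 0, nat_lit 0xef89d6f, nat_lit 0, nat_lit 0, [], [], [nat_lit 12, nat_lit 0x4c20382cab, nat_lit 13347]⟩) (.leaf ⟨nat_lit 1, nat_lit 10, nat_lit 14, nat_lit 0x221902bd50, nat_lit 0xb1c0ed82942, nat_lit 0x5c4cf529c5, [], [], []⟩)) (.leaf ⟨nat_lit 1, nat_lit 10, nat_lit 10, nat_lit 0xd345ae33da2, nat_lit 0x34ade56b941, nat_lit 0x2445ec51041, [], [], []⟩))) (.node (.node (.node (.leaf ⟨nat_lit 0, nat_lit 1, nat_lit 1, nat_lit 0, nat_lit 0x1bcca411ce, nat_lit 0x125af821f0, [], [], []⟩) (.leaf ⟨nat_lit 1,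 nat_lit 12, nat_lit 9, nat_lit 0x840a37bce2, nat_lit 0x12d68819a8, nat_lit 0x31eb7956c, [], [], []⟩)) (.leaf ⟨nat_lit 1, nat_lit 10, nat_lit 10, nat_lit 0x3715a462d62, nat_lit 0x2225105c1, nat_lit 0x2645705bc6a, [], [], []⟩)) (.node (.leaf ⟨nat_lit 1, nat_lit 10, nat_lit 9, nat_lit 0x2cd07ada1, nat_lit 0xb0307c5c6, nat_lit 0x150549430a3, [], [], []⟩) (.leaf ⟨nat_lit 1, nat_lit 10, nat_lit 10, nat_lit 0x535eb228ca, nat_lit 0x12bc8b5b882, nat_lit 0x68d6c0c584, [], [], []⟩))))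

noncomputable def F85 : GT Fa := .node (.node (.node (.node (.node (.leaf ⟨nat_lit 2, nat_lit 0, nat_lit 0, nat_lit 8, nat_lit 0, nat_lit 0, [], [], [nat_lit 6179, nat_lit 8, nat_lit 6179, nat_lit 8, nat_lit 6179, nat_lit 8, nat_lit 6179]⟩) (.leaf ⟨nat_lit 1, nat_lit 10, nat_lit 10, nat_lit 0x1291a9821ce, nat_lit 0x29ad58a24, nat_lit 0x6386b230a1, [], [], []⟩)) (.leaf ⟨nat_lit 1, nat_lit 10, nat_lit 10, nat_lit 0x585ec82a25, nat_lit 0x158e721ea, nat_lit 0x3b1706bd8a, [], [], []⟩)) (.node (.node (.leaf ⟨nat_lit 0, nat_lit 1, nat_lit 1, nat_lit 0, nat_lit 0x319062602, nat_lit 0x30ad1110b, [], [], []⟩) (.leaf ⟨nat_lit 1, nat_lit 13, nat_lit 10, nat_lit 0x615a5745ad, nat_lit 0x59d8f639c4, nat_lit 0xa728cc71c61, [], [], []⟩)) (.leaf ⟨nat_lit 1, nat_lit 10, nat_lit 10, nat_lit 0xb9af82422, nat_lit 0x895a562a2d, nat_lit 0x59de569822, [], [], []⟩)))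 (.node (.node (.node (.leaf ⟨nat_lit 0, nat_lit 1, nat_lit 1, nat_lit 0, nat_lit 0x30c6298a2, nat_lit 0x30a45b043, [], [], []⟩) (.leaf ⟨nat_lit 1, nat_lit 10, nat_lit 11, nat_lit 0x145ed739cc, nat_lit 0xf2bde269181, nat_lit 0x112bd4f595c2, [], [], []⟩)) (.leaf ⟨nat_lit 1, nat_lit 10, nat_lit 10, nat_lit 0xa221699ad, nat_lit 0x2320161d88, nat_lit 0x644c629225, [], [], []⟩)) (.node (.node (.leaf ⟨nat_lit 1, nat_lit 10, nat_lit 10, nat_lit 0x1312c0e4, nat_lit 0x28836260d, nat_lit 0x1bcab2b4e3, [], [], []⟩) (.leaf ⟨nat_lit 1, nat_lit 14, nat_lit 14, nat_lit 0x299665be25, nat_lit 0x5b86d1c5aa, nat_lit 0x269d655ba07, [], [], []⟩)) (.leaf ⟨nat_lit 1, nat_lit 10, nat_lit 10, nat_lit 0x111af1bda7, nat_lit 0x62d3060981, nat_lit 0x32d0e7106e, [], [], []⟩)))) (.node (.node (.node (.node (.leaf ⟨nat_lit 0, nat_lit 1, nat_lit 1, nat_lit 0, nat_lit 0x142dc953202,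 nat_lit 0x623608b1, [], [], []⟩) (.leaf ⟨nat_lit 1, nat_lit 9, nat_lit 11, nat_lit 0x22c1eb4a082, nat_lit 0x1154483146, nat_lit 0x2412b8a9ec, [], [], []⟩)) (.leaf ⟨nat_lit 1, nat_lit 10, nat_lit 9, nat_lit 0x20d87628e2, nat_lit 0x672a276aa01, nat_lit 0x454a33190, [], [], []⟩)) (.node (.node (.leaf ⟨nat_lit 1, nat_lit 7, nat_lit 7, nat_lit 0x3196d7148e, nat_lit 0x43d2d81c81, nat_lit 0x12dce4b964, [], [], []⟩) (.leaf ⟨nat_lit 1, nat_lit 8, nat_lit 14, nat_lit 0x128af5acca, nat_lit 0xb0c4717aa02, nat_lit 0x23d4a73543, [], [], []⟩)) (.leaf ⟨nat_lit 1, nat_lit 10, nat_lit 10, nat_lit 0x18307c4e1, nat_lit 0x324ae689a2, nat_lit 0x1d511c1c5, [], [], []⟩))) (.node (.node (.node (.leaf ⟨nat_lit 0, nat_lit 1, nat_lit 1, nat_lit 0, nat_lit 0x88e2d145c1, nat_lit 0x1194e539a9, [], [], []⟩) (.leaf ⟨nat_lit 1, nat_lit 10, nat_lit 12, nat_lit 0x5c5248a1aa,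 nat_lit 0x11b9716a9c2, nat_lit 0x19487316b, [], [], []⟩)) (.leaf ⟨nat_lit 1, nat_lit 10, nat_lit 9, nat_lit 0x2348b589a3, nat_lit 0x122dab83441, nat_lit 0x6d538ac, [], [], []⟩)) (.node (.leaf ⟨nat_lit 1, nat_lit 9, nat_lit 10, nat_lit 0x261a2e745e1, nat_lit 0x3822027a841, nat_lit 0x35a65b50c, [], [], []⟩) (.leaf ⟨nat_lit 1, nat_lit 10, nat_lit 10, nat_lit 0x21d4d5c111, nat_lit 0xbdad519e7, nat_lit 0x6118f691ab, [], [], []⟩))))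

noncomputable def F86 : GT Fa := .node (.node (.node (.node (.node (.leaf ⟨nat_lit 2, nat_lit 0, nat_lit 0, nat_lit 8, nat_lit 0, nat_lit 0, [], [], [nat_lit 6, nat_lit 8227, nat_lit 6, nat_lit 8227, nat_lit 6, nat_lit 8227, nat_lit 1126]⟩) (.leaf ⟨nat_lit 1, nat_lit 10, nat_lit 10, nat_lit 0x10cad5390e, nat_lit 0x235f03356b, nat_lit 0x959162185, [], [], []⟩)) (.leaf ⟨nat_lit 1, nat_lit 10, nat_lit 9, nat_lit 0x23acee1c561, nat_lit 0x1a56f5c202, nat_lit 0x24b5af7c42c, [], [], []⟩)) (.node (.node (.leaf ⟨nat_lit 0, nat_lit 1, nat_lit 1, nat_lit 0, nat_lit 0x304f415c5, nat_lit 0x129ca121ce, [], [], []⟩) (.leaf ⟨nat_lit 1, nat_lit 12, nat_lit 13, nat_lit 0x12211081982, nat_lit 0x1a20e23cb0, nat_lit 0x5a60c7b4a2, [], [], []⟩)) (.leaf ⟨nat_lit 1, nat_lit 10, nat_lit 10, nat_lit 0x21b1f17bce2, nat_lit 0x4321078a28, nat_lit 0x16a9ef2b143, [], [],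 []⟩))) (.node (.node (.node (.leaf ⟨nat_lit 0, nat_lit 1, nat_lit 1, nat_lit 0, nat_lit 0x412ca6, nat_lit 0xbded41dc3, [], [], []⟩) (.leaf ⟨nat_lit 1, nat_lit 11, nat_lit 8, nat_lit 0x245c70c4ce, nat_lit 0x1a63318b, nat_lit 0x5b13446f, [], [], []⟩)) (.leaf ⟨nat_lit 1, nat_lit 10, nat_lit 10, nat_lit 0x68a99054101, nat_lit 0x1446f50c30, nat_lit 0x18b4248b041, [], [], []⟩)) (.node (.leaf ⟨nat_lit 1, nat_lit 10, nat_lit 10, nat_lit 0x8f8a82e, nat_lit 0x2a2c531d1, nat_lit 0x21bd30735c3, [], [], []⟩) (.leaf ⟨nat_lit 1, nat_lit 10, nat_lit 10, nat_lit 0x4b50d728e1, nat_lit 0xb1b2036bd41, nat_lit 0x1328cf42945, [], [], []⟩)))) (.node (.node (.node (.node (.leaf ⟨nat_lit 0, nat_lit 1, nat_lit 1, nat_lit 0, nat_lit 0xb12c125, nat_lit 0x1615a9, [], [], []⟩) (.leaf ⟨nat_lit 1, nat_lit 10, nat_lit 11, nat_lit 0xa4bd6e81ca2, nat_lit 0x8418a7c1a1, nat_lit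 0x910f2bca1, [], [], []⟩)) (.leaf ⟨nat_lit 1, nat_lit 10, nat_lit 10, nat_lit 0x7c0f070d84, nat_lit 0x244ef6ad61, nat_lit 0x21bda18b0a1, [], [], []⟩)) (.node (.node (.leaf ⟨nat_lit 1, nat_lit 7, nat_lit 7, nat_lit 0x8b8c5815a2, nat_lit 0xb183140c2, nat_lit 0x31509, [], [], []⟩) (.leaf ⟨nat_lit 1, nat_lit 9, nat_lit 14, nat_lit 0x20ad4b043, nat_lit 0x4c0ab0b461, nat_lit 0x1260258dcd, [], [], []⟩)) (.leaf ⟨nat_lit 1, nat_lit 10, nat_lit 10, nat_lit 0x83c5131621, nat_lit 0xc59154171, nat_lit 0x1122758631, [], [], []⟩))) (.node (.node (.node (.leaf ⟨nat_lit 0, nat_lit 1, nat_lit 1, nat_lit 0, nat_lit 0xb19062602, nat_lit 0x1de5799ae, [], [], []⟩) (.leaf ⟨nat_lit 1, nat_lit 10, nat_lit 12, nat_lit 0x1113de9528c2, nat_lit 0x35cb63c8f, nat_lit 0x6c0e663d49, [], [], []⟩)) (.leaf ⟨nat_lit 1, nat_lit 10, nat_lit 10, nat_lit 0x962a3be22, nat_lit 0x791717c168,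 nat_lit 0x16b8d07412e, [], [], []⟩)) (.node (.leaf ⟨nat_lit 1, nat_lit 10, nat_lit 10, nat_lit 0x594d06ad0c, nat_lit 0x59012ce2, nat_lit 0x532222362d, [], [], []⟩) (.leaf ⟨nat_lit 1, nat_lit 10, nat_lit 10, nat_lit 0x13420353cc1, nat_lit 0x2c58550a22, nat_lit 0x8a92f23e0a, [], [], []⟩))))

noncomputable def F87 : GT Fa := .node (.node (.node (.node (.node (.leaf ⟨nat_lit 2, nat_lit 0, nat_lit 0, nat_lit 6241, nat_lit 0, nat_lit 0, [], [], [nat_lit 8227, nat_lit 6, nat_lit 8227, nat_lit 6, nat_lit 8227, nat_lit 1126, nat_lit 8227]⟩) (.leaf ⟨nat_lit 1, nat_lit 10, nat_lit 10, nat_lit 0x32dea74165, nat_lit 0x1220942e2c, nat_lit 0x6329f15b841, [], [], []⟩)) (.leaf ⟨nat_lit 1, nat_lit 10, nat_lit 10, nat_lit 0x96321034541, nat_lit 0x25ac6c8a443, nat_lit 0x17a9878b104, [], [], []⟩)) (.node (.node (.leaf ⟨nat_lit 0, nat_lit 1, nat_lit 1, nat_lit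 0, nat_lit 0xb18aa2d, nat_lit 0x158582e10, [], [], []⟩) (.leaf ⟨nat_lit 1, nat_lit 12, nat_lit 13, nat_lit 0x1416d2ac62, nat_lit 0x95e7644b0, nat_lit 0x8c5a48188e, [], [], []⟩)) (.leaf ⟨nat_lit 1, nat_lit 10, nat_lit 10, nat_lit 0x871850141a1, nat_lit 0x139c38b184, nat_lit 0x122363162, [], [], []⟩))) (.node (.node (.node (.leaf ⟨nat_lit 0, nat_lit 1, nat_lit 1, nat_lit 0, nat_lit 0xcf2b901, nat_lit 0x66795c8, [], [], []⟩) (.leaf ⟨nat_lit 1, nat_lit 11, nat_lit 10, nat_lit 0x3ded22a2e, nat_lit 0x17bd3071962, nat_lit 0x26ad8e24481, [], [], []⟩)) (.leaf ⟨nat_lit 1, nat_lit 9, nat_lit 10, nat_lit 0x16c12a2b5a2, nat_lit 0x8162d7b0a4, nat_lit 0x8b56d09c41, [], [], []⟩)) (.node (.leaf ⟨nat_lit 1, nat_lit 10, nat_lit 7, nat_lit 0x129b078d47, nat_lit 0xc795e9640c2, nat_lit 0x97071951, [], [], []⟩) (.leaf ⟨nat_lit 1, nat_lit 8, nat_lit 10, nat_lit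 0x310b589ea, nat_lit 0x12414f63ca1, nat_lit 0x81d50719e9, [], [], []⟩)))) (.node (.node (.node (.node (.leaf ⟨nat_lit 0, nat_lit 1, nat_lit 1, nat_lit 0, nat_lit 0x112c125, nat_lit 0x2c2912b, [], [], []⟩) (.leaf ⟨nat_lit 1, nat_lit 10, nat_lit 11, nat_lit 0xc1ce71cd1, nat_lit 0x4b96663221, nat_lit 0x22a9ec621ea, [], [], []⟩)) (.leaf ⟨nat_lit 1, nat_lit 10, nat_lit 10, nat_lit 0x272d9031187, nat_lit 0x334c26c02c, nat_lit 0x4c62a72a21, [], [], []⟩)) (.node (.node (.leaf ⟨nat_lit 1, nat_lit 7, nat_lit 7, nat_lit 0x888f2b4cd, nat_lit 0x23c08d23982, nat_lit 0x8257b606, [], [], []⟩) (.leaf ⟨nat_lit 1, nat_lit 9, nat_lit 14, nat_lit 0x53d2d1b4a1, nat_lit 0x8b42a8bd2c, nat_lit 0x25b60b74470, [], [], []⟩)) (.leaf ⟨nat_lit 1, nat_lit 10, nat_lit 10, nat_lit 0x181a2d5b062, nat_lit 0x521895b96c, nat_lit 0x1219189d41, [], [], []⟩))) (.node (.node (.node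 (.leaf ⟨nat_lit 0, nat_lit 1, nat_lit 1, nat_lit 0, nat_lit 0x22542462, nat_lit 0x10cc5745c8, [], [], []⟩) (.leaf ⟨nat_lit 1, nat_lit 10, nat_lit 12, nat_lit 0x3458e22a01, nat_lit 0x15262e72e21, nat_lit 0xc8320973941, [], [], []⟩)) (.leaf ⟨nat_lit 1, nat_lit 10, nat_lit 10, nat_lit 0x6b55073227, nat_lit 0x17118e5ac22, nat_lit 0x26a5ec29204, [], [], []⟩)) (.node (.leaf ⟨nat_lit 1, nat_lit 10, nat_lit 10, nat_lit 0x3b55142882, nat_lit 0x6841c953a21, nat_lit 0x798ab2a9e5, [], [], []⟩) (.leaf ⟨nat_lit 1, nat_lit 10, nat_lit 10, nat_lit 0x4288c72d88, nat_lit 0x29a5605b0, nat_lit 0xc891e17bd03, [], [], []⟩))))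

noncomputable def F88 : GT Fa := .node (.node (.node (.node (.node (.leaf ⟨nat_lit 2, nat_lit 0, nat_lit 0, nat_lit 8, nat_lit 0, nat_lit 0, [], [], [nat_lit 6, nat_lit 8227, nat_lit 6, nat_lit 8227, nat_lit 1126, nat_lit 8227, nat_lit 6]⟩) (.leaf ⟨nat_lit 1, nat_lit 10, nat_lit 10, nat_lit 0x91e182601, nat_lit 0x2191eb58621, nat_lit 0x3141ae83441, [], [], []⟩)) (.leaf ⟨nat_lit 1, nat_lit 8, nat_lit 10, nat_lit 0x3cef545a5, nat_lit 0x30f1244ae, nat_lit 0x34b163e10, [], [], []⟩)) (.node (.node (.leaf ⟨nat_lit 0, nat_lit 1, nat_lit 1, nat_lit 0, nat_lit 0x131d15b843, nat_lit 0x1827a0ae, [], [], []⟩) (.leaf ⟨nat_lit 1, nat_lit 13, nat_lit 12, nat_lit 0x2a1ec3be24, nat_lit 0x144901b0e2, nat_lit 0x80d687a864, [], [], []⟩)) (.leaf ⟨nat_lit 1, nat_lit 10, nat_lit 10, nat_lit 0x29a782a0d, nat_lit 0x53d8153c61, nat_lit 0x82c235c4a4, [], [], []⟩)))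 (.node (.node (.node (.leaf ⟨nat_lit 0, nat_lit 1, nat_lit 1, nat_lit 0, nat_lit 0x158961627, nat_lit 0x446c121a2, [], [], []⟩) (.leaf ⟨nat_lit 1, nat_lit 10, nat_lit 11, nat_lit 0x341862b8ce, nat_lit 0x7959189d8e, nat_lit 0x22b6257bc22, [], [], []⟩)) (.leaf ⟨nat_lit 1, nat_lit 10, nat_lit 10, nat_lit 0x8ae0f28dc5, nat_lit 0x10e1061882, nat_lit 0x6a9ca53051, [], [], []⟩)) (.node (.leaf ⟨nat_lit 1, nat_lit 10, nat_lit 7, nat_lit 0x1731ed30dc2, nat_lit 0x3291e482c62, nat_lit 0x1a2e315a7, [], [], []⟩) (.leaf ⟨nat_lit 1, nat_lit 10, nat_lit 10, nat_lit 0x545a71b9aa, nat_lit 0xa43e0f8bd21, nat_lit 0x534ad709a8, [], [], []⟩)))) (.node (.node (.node (.node (.leaf ⟨nat_lit 0, nat_lit 1, nat_lit 1, nat_lit 0, nat_lit 0x158262122, nat_lit 0x2c19606, [], [], []⟩) (.leaf ⟨nat_lit 1, nat_lit 10, nat_lit 11, nat_lit 0x27c16b5b562, nat_lit 0x57b201538a2,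 nat_lit 0x15ad2c72ce1, [], [], []⟩)) (.leaf ⟨nat_lit 1, nat_lit 10, nat_lit 10, nat_lit 0x34c2020c141, nat_lit 0x360b3adcb, nat_lit 0x11b18c8b8a2, [], [], []⟩)) (.node (.node (.leaf ⟨nat_lit 1, nat_lit 7, nat_lit 7, nat_lit 0x18952162, nat_lit 0x36bdab0ac81, nat_lit 0x11b1eb6c5a5, [], [], []⟩) (.leaf ⟨nat_lit 1, nat_lit 14, nat_lit 10, nat_lit 0x99836b82e, nat_lit 0x8c4ab7a8c1, nat_lit 0x15b5ea640c1, [], [], []⟩)) (.leaf ⟨nat_lit 1, nat_lit 10, nat_lit 10, nat_lit 0x3262573511, nat_lit 0x1c20e89d8f, nat_lit 0x88cad6b451, [], [], []⟩))) (.node (.node (.node (.leaf ⟨nat_lit 0, nat_lit 1, nat_lit 1, nat_lit 0, nat_lit 0x44a848c41, nat_lit 0x1320c4c0cd, [], [], []⟩) (.leaf ⟨nat_lit 1, nat_lit 7, nat_lit 12, nat_lit 0x2a98512dc2, nat_lit 0x2c04b1b962, nat_lit 0x6404a721e3, [], [], []⟩)) (.leaf ⟨nat_lit 1, nat_lit 10, nat_lit 9, nat_lit 0x6214c64582,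 nat_lit 0xa7bc7139a22, nat_lit 0x22be295420b, [], [], []⟩)) (.node (.leaf ⟨nat_lit 1, nat_lit 10, nat_lit 10, nat_lit 0x899b032d22, nat_lit 0x56a5ad43a22, nat_lit 0x2d5bde3699a1, [], [], []⟩) (.leaf ⟨nat_lit 1, nat_lit 9, nat_lit 10, nat_lit 0xce579507, nat_lit 0xb22c1c122, nat_lit 0x740a68b082, [], [], []⟩))))

noncomputable def F89 : GT Fa := .node (.node (.node (.node (.node (.leaf ⟨nat_lit 2, nat_lit 0, nat_lit 0, nat_lit 6241, nat_lit 0, nat_lit 0, [], [], [nat_lit 8227, nat_lit 6, nat_lit 8227, nat_lit 1126, nat_lit 8227, nat_lit 6, nat_lit 8227]⟩) (.leaf ⟨nat_lit 1, nat_lit 10, nat_lit 10, nat_lit 0xa98c49a31, nat_lit 0x11257160981, nat_lit 0x360a314cd, [], [], []⟩)) (.leaf ⟨nat_lit 1, nat_lit 10, nat_lit 10, nat_lit 0x5bc8d50a0e, nat_lit 0xe815e4640c1, nat_lit 0x151dae641c5, [], [], []⟩)) (.node (.node (.leaf ⟨nat_lit 0, nat_lit 1,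 nat_lit 1, nat_lit 0, nat_lit 0x25f078862, nat_lit 0x3ccc71dc6, [], [], []⟩) (.leaf ⟨nat_lit 1, nat_lit 13, nat_lit 12, nat_lit 0x2304f3ae0e, nat_lit 0x57a10c73602, nat_lit 0x2734d1444ae, [], [], []⟩)) (.leaf ⟨nat_lit 1, nat_lit 10, nat_lit 10, nat_lit 0x3145cb5a1a8, nat_lit 0x8a8b0438af, nat_lit 0x539ca73204, [], [], []⟩))) (.node (.node (.node (.leaf ⟨nat_lit 0, nat_lit 1, nat_lit 1, nat_lit 0, nat_lit 0x98a26a182, nat_lit 0x1832c0c7, [], [], []⟩) (.leaf ⟨nat_lit 1, nat_lit 11, nat_lit 11, nat_lit 0x110d818a5e2, nat_lit 0xb18e599af, nat_lit 0x21c04963ca1, [], [], []⟩)) (.leaf ⟨nat_lit 1, nat_lit 10, nat_lit 10, nat_lit 0x7a16378e2f, nat_lit 0xb9707b528, nat_lit 0x3c1b188541, [], [], []⟩)) (.node (.leaf ⟨nat_lit 1, nat_lit 10, nat_lit 10, nat_lit 0x56920773a01, nat_lit 0x129c2625eb, nat_lit 0x445c474182, [], [], []⟩) (.leaf ⟨nat_lit 1, nat_lit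 10, nat_lit 10, nat_lit 0x52b68dab, nat_lit 0x7a9ea7a143, nat_lit 0x2ac718b9a8, [], [], []⟩)))) (.node (.node (.node (.node (.leaf ⟨nat_lit 0, nat_lit 1, nat_lit 1, nat_lit 0, nat_lit 0x609856a501, nat_lit 0xc452250b, [], [], []⟩) (.leaf ⟨nat_lit 1, nat_lit 11, nat_lit 10, nat_lit 0x21af899c4, nat_lit 0xe82ded2c441, nat_lit 0x9e36acec, [], [], []⟩)) (.leaf ⟨nat_lit 1, nat_lit 10, nat_lit 9, nat_lit 0x882de863d82, nat_lit 0x41c572e28, nat_lit 0x1105e88b542, [], [], []⟩)) (.node (.node (.leaf ⟨nat_lit 1, nat_lit 7, nat_lit 7, nat_lit 0x131d120982, nat_lit 0x5b9a88c525, nat_lit 0xb8905360e, [], [], []⟩) (.leaf ⟨nat_lit 1, nat_lit 14, nat_lit 10, nat_lit 0x4314a745ad, nat_lit 0x2a5ae3aa26, nat_lit 0x16c1e483d49, [], [], []⟩)) (.leaf ⟨nat_lit 1, nat_lit 10, nat_lit 10, nat_lit 0x572d6f6b521, nat_lit 0x17219080dc2, nat_lit 0x5b0ab71d43, [], [],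 []⟩))) (.node (.node (.node (.leaf ⟨nat_lit 0, nat_lit 1, nat_lit 1, nat_lit 0, nat_lit 0x162e4c50e, nat_lit 0x51062745c8, [], [], []⟩) (.leaf ⟨nat_lit 1, nat_lit 12, nat_lit 10, nat_lit 0x914c50dca, nat_lit 0xb0913c570, nat_lit 0x26958f325e5, [], [], []⟩)) (.leaf ⟨nat_lit 1, nat_lit 10, nat_lit 10, nat_lit 0x432082320a, nat_lit 0x20da96b8e6, nat_lit 0x22bd63838e1, [], [], []⟩)) (.node (.leaf ⟨nat_lit 1, nat_lit 10, nat_lit 9, nat_lit 0x2394e6b4ac, nat_lit 0xb8a98313c61, nat_lit 0x41635adad, [], [], []⟩) (.leaf ⟨nat_lit 1, nat_lit 10, nat_lit 10, nat_lit 0x125055c582, nat_lit 0x662dca521a1, nat_lit 0x44ac4aa07, [], [], []⟩))))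

noncomputable def F90 : GT Fa := .node (.node (.node (.node (.node (.leaf ⟨nat_lit 2, nat_lit 0, nat_lit 0, nat_lit 8, nat_lit 0, nat_lit 0, [], [], [nat_lit 6, nat_lit 8227, nat_lit 1126, nat_lit 8227, nat_lit 6, nat_lit 8227, nat_lit 6]⟩) (.leaf ⟨nat_lit 1, nat_lit 10, nat_lit 10, nat_lit 0x7348c429a1, nat_lit 0x106b90a83e22, nat_lit 0x189a0b8b5cb, [], [], []⟩)) (.leaf ⟨nat_lit 1, nat_lit 9, nat_lit 10, nat_lit 0x222257adc1, nat_lit 0xe2a9eb43501, nat_lit 0x1220f51dc2, [], [], []⟩)) (.node (.node (.leaf ⟨nat_lit 0, nat_lit 1, nat_lit 1, nat_lit 0, nat_lit 0x2283ba2e, nat_lit 0x44a8745c7, [], [], []⟩) (.leaf ⟨nat_lit 1, nat_lit 13, nat_lit 12, nat_lit 0x1b870735c5, nat_lit 0x4404372882, nat_lit 0x515ea7c18b, [], [], []⟩)) (.leaf ⟨nat_lit 1, nat_lit 10, nat_lit 10, nat_lit 0x80a0e51a02, nat_lit 0x21601705c1, nat_lit 0x19a33b5eb, [], [],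 []⟩))) (.node (.node (.node (.leaf ⟨nat_lit 0, nat_lit 1, nat_lit 1, nat_lit 0, nat_lit 0x282c8a745a2, nat_lit 0x115902b20d, [], [], []⟩) (.leaf ⟨nat_lit 1, nat_lit 7, nat_lit 12, nat_lit 527, nat_lit 0, nat_lit 0, [], [], []⟩)) (.leaf ⟨nat_lit 1, nat_lit 9, nat_lit 10, nat_lit 0x996e590a2, nat_lit 0x660c2c4b9a2, nat_lit 0x2c06e6b48c, [], [], []⟩)) (.node (.leaf ⟨nat_lit 1, nat_lit 10, nat_lit 10, nat_lit 0x1bccc7c48d, nat_lit 0x515825bd05, nat_lit 0x257079981, [], [], []⟩) (.leaf ⟨nat_lit 1, nat_lit 10, nat_lit 10, nat_lit 0x5505c772e02, nat_lit 0x379cb18b202, nat_lit 0x1bd6c14565, [], [], []⟩)))) (.node (.node (.node (.node (.leaf ⟨nat_lit 0, nat_lit 1, nat_lit 1, nat_lit 0, nat_lit 0x1e572461, nat_lit 0x22951970, [], [], []⟩) (.leaf ⟨nat_lit 1, nat_lit 11, nat_lit 10, nat_lit 0x5220d53062, nat_lit 0x5b5ef30a02, nat_lit 0x728ce59e10, [],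 [], []⟩)) (.leaf ⟨nat_lit 1, nat_lit 10, nat_lit 10, nat_lit 0x35c1c6535a2, nat_lit 0xd2420d78c22, nat_lit 0xb04b4c5cb, [], [], []⟩)) (.node (.node (.leaf ⟨nat_lit 1, nat_lit 7, nat_lit 7, nat_lit 0x154e61629, nat_lit 0x150f5b461, nat_lit 0x1330b0590ae, [], [], []⟩) (.leaf ⟨nat_lit 1, nat_lit 14, nat_lit 9, nat_lit 0x58dc75c58b, nat_lit 0x78546629ae, nat_lit 0xb02f8b531, [], [], []⟩)) (.leaf ⟨nat_lit 1, nat_lit 10, nat_lit 10, nat_lit 0x5b98a609aa, nat_lit 0xa5382b62142, nat_lit 0x5995064162, [], [], []⟩))) (.node (.node (.node (.leaf ⟨nat_lit 0, nat_lit 1, nat_lit 1, nat_lit 0, nat_lit 0x25e1540a4, nat_lit 0x319882b505, [], [], []⟩) (.leaf ⟨nat_lit 1, nat_lit 10, nat_lit 12, nat_lit 0x2a5eb72a23, nat_lit 0x5b5a90b602, nat_lit 0x9317b165, [], [], []⟩)) (.leaf ⟨nat_lit 1, nat_lit 10, nat_lit 10, nat_lit 0x5bc8c711a5, nat_lit 0x445b07b48f,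 nat_lit 0x5402e6a86c, [], [], []⟩)) (.node (.leaf ⟨nat_lit 1, nat_lit 10, nat_lit 10, nat_lit 0x1218ec1c481, nat_lit 0x8962c7454e, nat_lit 0x12b1cd2ada9, [], [], []⟩) (.leaf ⟨nat_lit 1, nat_lit 10, nat_lit 10, nat_lit 0x61e2a5396b, nat_lit 0x6c08c81222, nat_lit 0x2609ea1314e, [], [], []⟩))))

noncomputable def F91 : GT Fa := .node (.node (.node (.node (.node (.leaf ⟨nat_lit 2, nat_lit 0, nat_lit 0, nat_lit 6241, nat_lit 0, nat_lit 0, [], [], [nat_lit 8227, nat_lit 1126, nat_lit 8227, nat_lit 6, nat_lit 8227, nat_lit 6, nat_lit 8227]⟩) (.leaf ⟨nat_lit 1, nat_lit 10, nat_lit 10, nat_lit 0xac91630c7, nat_lit 0x78415042422, nat_lit 0x2591917106e, [], [], []⟩)) (.leaf ⟨nat_lit 1, nat_lit 10, nat_lit 10, nat_lit 0x27a22c1c481, nat_lit 0x699a6739a2, nat_lit 0x64169539c6, [], [], []⟩)) (.node (.node (.leaf ⟨nat_lit 0, nat_lit 1, nat_lit 1, nat_lit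 0, nat_lit 0x1ad2c7a82c, nat_lit 0x8a968d26, [], [], []⟩) (.leaf ⟨nat_lit 1, nat_lit 9, nat_lit 14, nat_lit 4, nat_lit 0, nat_lit 0, [], [], []⟩)) (.leaf ⟨nat_lit 1, nat_lit 10, nat_lit 10, nat_lit 0x22be242ac43, nat_lit 0xbe086a9eb, nat_lit 0x718b051583, [], [], []⟩))) (.node (.node (.node (.leaf ⟨nat_lit 0, nat_lit 1, nat_lit 1, nat_lit 0, nat_lit 0x13d6f190a2, nat_lit 0x1106e3bd62, [], [], []⟩) (.leaf ⟨nat_lit 0, nat_lit 12, nat_lit 12, nat_lit 0, nat_lit 0x28a18b14e, nat_lit 0x199ed6a871, [], [], []⟩)) (.leaf ⟨nat_lit 1, nat_lit 9, nat_lit 10, nat_lit 0x4889af8b4c1, nat_lit 0x3525b079e02, nat_lit 0x728cf1b5ec, [], [], []⟩)) (.node (.leaf ⟨nat_lit 1, nat_lit 9, nat_lit 10, nat_lit 0x1a18e2b5ec, nat_lit 0x76416e59142, nat_lit 0xbd837b54c, [], [], []⟩) (.leaf ⟨nat_lit 1, nat_lit 10, nat_lit 10, nat_lit 0x3a1cb439b1, nat_lit 0x689c8e53e02,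 nat_lit 0x5259043561, [], [], []⟩)))) (.node (.node (.node (.node (.leaf ⟨nat_lit 0, nat_lit 1, nat_lit 1, nat_lit 0, nat_lit 0x186540a4, nat_lit 0x4467415a6, [], [], []⟩) (.leaf ⟨nat_lit 1, nat_lit 10, nat_lit 11, nat_lit 0x159ded72e0e, nat_lit 0x6992d6c16b, nat_lit 0x6a58e5b188, [], [], []⟩)) (.leaf ⟨nat_lit 1, nat_lit 10, nat_lit 10, nat_lit 0x446c63d0d, nat_lit 0xc1316b5c5e1, nat_lit 0x32dc47b1e1, [], [], []⟩)) (.node (.node (.leaf ⟨nat_lit 1, nat_lit 7, nat_lit 7, nat_lit 0x92036a0e1, nat_lit 0x54e40982, nat_lit 0x570585a4, [], [], []⟩) (.leaf ⟨nat_lit 1, nat_lit 10, nat_lit 14, nat_lit 0x38647960d, nat_lit 0x106e521ce, nat_lit 0xe535cd4b4e1, [], [], []⟩)) (.leaf ⟨nat_lit 1, nat_lit 10, nat_lit 10, nat_lit 0x215ed2b561, nat_lit 0x55392f8b5c2, nat_lit 0x5bd6b23545, [], [], []⟩))) (.node (.node (.node (.leaf ⟨nat_lit 0, nat_lit 1, nat_lit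 1, nat_lit 0, nat_lit 0x1b03123d62, nat_lit 0xbe2a8b62e, [], [], []⟩) (.leaf ⟨nat_lit 1, nat_lit 10, nat_lit 12, nat_lit 0x15b111645b0, nat_lit 0x7c210529e7, nat_lit 0x263a2c7348b, [], [], []⟩)) (.leaf ⟨nat_lit 1, nat_lit 10, nat_lit 10, nat_lit 0x81a218a622, nat_lit 0xd71d8b140a2, nat_lit 0x22bda68ade5, [], [], []⟩)) (.node (.leaf ⟨nat_lit 1, nat_lit 10, nat_lit 10, nat_lit 0x338ad729c7, nat_lit 0x509ce18a0b, nat_lit 0x6314c530b0, [], [], []⟩) (.leaf ⟨nat_lit 1, nat_lit 10, nat_lit 10, nat_lit 0x17b4ce33d61, nat_lit 0x795e78b88e, nat_lit 0x1298c2b631, [], [], []⟩))))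

noncomputable def F92 : GT Fa := .node (.node (.node (.node (.node (.leaf ⟨nat_lit 2, nat_lit 0, nat_lit 0, nat_lit 8, nat_lit 0, nat_lit 0, [], [], [nat_lit 1126, nat_lit 8227, nat_lit 6, nat_lit 8227, nat_lit 6, nat_lit 8227, nat_lit 6]⟩) (.leaf ⟨nat_lit 1, nat_lit 10, nat_lit 10, nat_lit 0x182d2d5b8c2, nat_lit 0x8250b83989, nat_lit 0x535ad4ad82, [], [], []⟩)) (.leaf ⟨nat_lit 1, nat_lit 10, nat_lit 10, nat_lit 0xf3a8905b082, nat_lit 0x6b6102b14c, nat_lit 0x12a17163165, [], [], []⟩)) (.node (.node (.leaf ⟨nat_lit 0, nat_lit 1, nat_lit 1, nat_lit 0, nat_lit 0x42dc953202, nat_lit 0x223608b1, [], [], []⟩) (.leaf ⟨nat_lit 0, nat_lit 14, nat_lit 14, nat_lit 0, nat_lit 0x54a0c56e, nat_lit 0xb0b5f03c0c1, [], [], []⟩)) (.leaf ⟨nat_lit 1, nat_lit 10, nat_lit 10, nat_lit 0x631e5545cc, nat_lit 0x6446c81203, nat_lit 0x35a53ade2, [], [], []⟩))) (.node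 (.node (.node (.leaf ⟨nat_lit 0, nat_lit 1, nat_lit 1, nat_lit 0, nat_lit 0x1b19062602, nat_lit 0x25f1229cd, [], [], []⟩) (.leaf ⟨nat_lit 0, nat_lit 12, nat_lit 12, nat_lit 0, nat_lit 0x41c61b941, nat_lit 0x1448f79a21, [], [], []⟩)) (.leaf ⟨nat_lit 1, nat_lit 10, nat_lit 10, nat_lit 0x4b5f053c4f, nat_lit 0x2a2c205b1, nat_lit 0xb5ed82c30, [], [], []⟩)) (.node (.leaf ⟨nat_lit 1, nat_lit 8, nat_lit 10, nat_lit 0x131cb395a1, nat_lit 0x452542da6, nat_lit 0x44370868, [], [], []⟩) (.leaf ⟨nat_lit 1, nat_lit 10, nat_lit 10, nat_lit 0x6aa215bc43, nat_lit 0x8a104a9ea, nat_lit 0x11b5665348d, [], [], []⟩)))) (.node (.node (.node (.node (.leaf ⟨nat_lit 0, nat_lit 1, nat_lit 1, nat_lit 0, nat_lit 0x2d0c7a82c, nat_lit 0x452250b, [], [], []⟩) (.leaf ⟨nat_lit 1, nat_lit 11, nat_lit 10, nat_lit 0x4a12d6bda6, nat_lit 0x7257023422, nat_lit 0x40eb8ac91, [], [],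 []⟩)) (.leaf ⟨nat_lit 1, nat_lit 10, nat_lit 9, nat_lit 0x2b1c45b5af, nat_lit 0x30f16b92e, nat_lit 0x131506152c, [], [], []⟩)) (.node (.node (.leaf ⟨nat_lit 1, nat_lit 7, nat_lit 7, nat_lit 0x3ced7442b, nat_lit 0x1b5e582d2e, nat_lit 0x12e2b195e2, [], [], []⟩) (.leaf ⟨nat_lit 1, nat_lit 14, nat_lit 11, nat_lit 0x5c1eb7a42c, nat_lit 0x1b5cc8b0c7, nat_lit 0x13a2d71e25, [], [], []⟩)) (.leaf ⟨nat_lit 1, nat_lit 10, nat_lit 10, nat_lit 0x1839ce4c1a1, nat_lit 0x538b1734c1, nat_lit 0xe219ea6ba01, [], [], []⟩))) (.node (.node (.node (.leaf ⟨nat_lit 0, nat_lit 1, nat_lit 1, nat_lit 0, nat_lit 0x18c2c4e6, nat_lit 0x30622c0c5, [], [], []⟩) (.leaf ⟨nat_lit 1, nat_lit 12, nat_lit 10, nat_lit 0x290581602, nat_lit 0xc2c18550d82, nat_lit 0x6a5ed828b0, [], [], []⟩)) (.leaf ⟨nat_lit 1, nat_lit 10, nat_lit 10, nat_lit 0x218d16c0e2, nat_lit 0x18119080da1, nat_lit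 0x595ae72ca8, [], [], []⟩)) (.node (.leaf ⟨nat_lit 1, nat_lit 9, nat_lit 10, nat_lit 0x6855023461, nat_lit 0x42ad8e0c581, nat_lit 0x80e0d72cf0, [], [], []⟩) (.leaf ⟨nat_lit 1, nat_lit 10, nat_lit 8, nat_lit 0x2c0f053c4f, nat_lit 0x25736315ad62, nat_lit 0x20bd8552621, [], [], []⟩))))

noncomputable def F93 : GT Fa := .node (.node (.node (.node (.node (.leaf ⟨nat_lit 2, nat_lit 0, nat_lit 0, nat_lit 6, nat_lit 0, nat_lit 0, [], [], [nat_lit 8227, nat_lit 6, nat_lit 8227, nat_lit 6, nat_lit 8227, nat_lit 6, nat_lit 8227]⟩) (.leaf ⟨nat_lit 1, nat_lit 10, nat_lit 10, nat_lit 0x2996f64582, nat_lit 0xa0f16420c, nat_lit 0x7aa0f435c5, [], [], []⟩)) (.leaf ⟨nat_lit 1, nat_lit 10, nat_lit 10, nat_lit 0x2bcb04b443, nat_lit 0x933d64534c1, nat_lit 0x242918c88441, [], [], []⟩)) (.node (.node (.leaf ⟨nat_lit 0, nat_lit 1, nat_lit 1, nat_lit 0, nat_lit 0x7860b34062,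 nat_lit 0x9def335c5, [], [], []⟩) (.leaf ⟨nat_lit 0, nat_lit 14, nat_lit 14, nat_lit 0, nat_lit 0x63d65539a1, nat_lit 0x3d2a42e06, [], [], []⟩)) (.leaf ⟨nat_lit 1, nat_lit 10, nat_lit 10, nat_lit 0x47360c7a590, nat_lit 0x16906d6a202, nat_lit 0x18b90d2406a, [], [], []⟩))) (.node (.node (.node (.leaf ⟨nat_lit 0, nat_lit 1, nat_lit 1, nat_lit 0, nat_lit 0x330cc83202, nat_lit 0x302571582, [], [], []⟩) (.leaf ⟨nat_lit 1, nat_lit 12, nat_lit 10, nat_lit 0x20d8a718c2, nat_lit 0x6b4cb1b8e3, nat_lit 0x23d6b2c167, [], [], []⟩)) (.leaf ⟨nat_lit 1, nat_lit 10, nat_lit 10, nat_lit 0x38ec141ec, nat_lit 0x20c62a42222, nat_lit 0x442c1ae68601, [], [], []⟩)) (.node (.leaf ⟨nat_lit 1, nat_lit 10, nat_lit 10, nat_lit 0x70d6e12e07, nat_lit 0x18cf6456d, nat_lit 0x3292f23d61, [], [], []⟩) (.leaf ⟨nat_lit 1, nat_lit 10, nat_lit 10, nat_lit 0x444ca82a24, nat_lit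 0xb5a1cd34062, nat_lit 0x15054462, [], [], []⟩)))) (.node (.node (.node (.node (.leaf ⟨nat_lit 0, nat_lit 1, nat_lit 1, nat_lit 0, nat_lit 0x795c9, nat_lit 0x62361625, [], [], []⟩) (.leaf ⟨nat_lit 1, nat_lit 10, nat_lit 11, nat_lit 0x585ab69da3, nat_lit 0x6b8cd70562, nat_lit 0xd6472a09, [], [], []⟩)) (.leaf ⟨nat_lit 1, nat_lit 10, nat_lit 10, nat_lit 0x457c5cb5c0c1, nat_lit 0x65ae0d539a2, nat_lit 0x60d85444e1, [], [], []⟩)) (.node (.node (.leaf ⟨nat_lit 1, nat_lit 7, nat_lit 7, nat_lit 0x1e5145a4, nat_lit 0x25f052a06, nat_lit 0x444443c1c1, [], [], []⟩) (.leaf ⟨nat_lit 1, nat_lit 14, nat_lit 10, nat_lit 0x44ea79163, nat_lit 0x1a5ef83db1, nat_lit 0x31254e544e1, [], [], []⟩)) (.leaf ⟨nat_lit 1, nat_lit 10, nat_lit 10, nat_lit 0x8a14f28a0c, nat_lit 0x329af32dce, nat_lit 0x3b60552948, [], [], []⟩))) (.node (.node (.node (.leaf ⟨nat_lit 0, nat_lit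 1, nat_lit 1, nat_lit 0, nat_lit 0x3e247ad02, nat_lit 0x6277450e, [], [], []⟩) (.leaf ⟨nat_lit 1, nat_lit 12, nat_lit 10, nat_lit 0x8c48f7c5ea, nat_lit 0x5637a8e5, nat_lit 0x141466410e, [], [], []⟩)) (.leaf ⟨nat_lit 1, nat_lit 10, nat_lit 10, nat_lit 0xb78d4f5ac43, nat_lit 0x232b12f81941, nat_lit 0x32e0353945, [], [], []⟩)) (.node (.leaf ⟨nat_lit 1, nat_lit 10, nat_lit 10, nat_lit 0x24410b80561, nat_lit 0xd829cd3b601, nat_lit 0x8aded22943, [], [], []⟩) (.leaf ⟨nat_lit 1, nat_lit 10, nat_lit 10, nat_lit 0x8903073622, nat_lit 0x256bd4e59d01, nat_lit 0x8bdec7ac50, [], [], []⟩))))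

noncomputable def F94 : GT Fa := .node (.node (.node (.node (.node (.leaf ⟨nat_lit 2, nat_lit 0, nat_lit 0, nat_lit 0x472227, nat_lit 0, nat_lit 0, [], [], [nat_lit 0x318c4, nat_lit 0x318c4, nat_lit 0x4a22b69142]⟩) (.leaf ⟨nat_lit 1, nat_lit 10, nat_lit 10, nat_lit 0x599f11c562, nat_lit 0x25e628daa, nat_lit 0x41cb8302d, [], [], []⟩)) (.leaf ⟨nat_lit 1, nat_lit 7, nat_lit 10, nat_lit 0x299cb62de3, nat_lit 0xb54a78968, nat_lit 0xd529e98c502, [], [], []⟩)) (.node (.node (.leaf ⟨nat_lit 0, nat_lit 1, nat_lit 1, nat_lit 0, nat_lit 0x33d8e3b8a1, nat_lit 0x30457952e, [], [], []⟩) (.leaf ⟨nat_lit 1, nat_lit 9, nat_lit 14, nat_lit 0x21b94e13102, nat_lit 0xb17244d, nat_lit 0x3c56f3a88c, [], [], []⟩)) (.leaf ⟨nat_lit 1, nat_lit 10, nat_lit 10, nat_lit 0xe62d695ade1, nat_lit 0xc611514c5a1, nat_lit 0x260d8c13181, [], [], []⟩))) (.node (.node (.node (.leaf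 ⟨nat_lit 0, nat_lit 1, nat_lit 1, nat_lit 0, nat_lit 0x10e107402b, nat_lit 0x30ad118ed, [], [], []⟩) (.leaf ⟨nat_lit 1, nat_lit 12, nat_lit 10, nat_lit 0x19cae70561, nat_lit 0xb0a62a629e2, nat_lit 0x6b96b6acce, [], [], []⟩)) (.leaf ⟨nat_lit 1, nat_lit 8, nat_lit 10, nat_lit 0xa60c8b0ad, nat_lit 0x77adc91b5c1, nat_lit 0x28410d831c1, [], [], []⟩)) (.node (.leaf ⟨nat_lit 1, nat_lit 9, nat_lit 10, nat_lit 0x4be0b7accd, nat_lit 0x21d513b18c, nat_lit 0x23b0ee2ad61, [], [], []⟩) (.leaf ⟨nat_lit 1, nat_lit 10, nat_lit 10, nat_lit 0xada40c542, nat_lit 0x22225305a2, nat_lit 0x259e0f5c142, [], [], []⟩)))) (.node (.node (.node (.node (.leaf ⟨nat_lit 0, nat_lit 1, nat_lit 1, nat_lit 0, nat_lit 0xb0a279822, nat_lit 0x49a25440c3, [], [], []⟩) (.leaf ⟨nat_lit 1, nat_lit 10, nat_lit 11, nat_lit 0x62b5ca0a9e2, nat_lit 0x86263d28, nat_lit 0x113d6f51de3, [],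 [], []⟩)) (.leaf ⟨nat_lit 1, nat_lit 10, nat_lit 10, nat_lit 0x73571298ee, nat_lit 0x1e0e3354f, nat_lit 0x599656ad02, [], [], []⟩)) (.node (.node (.leaf ⟨nat_lit 1, nat_lit 7, nat_lit 7, nat_lit 0x2b0b159e03, nat_lit 0x881838e6, nat_lit 0x68a0b7452f, [], [], []⟩) (.leaf ⟨nat_lit 1, nat_lit 14, nat_lit 10, nat_lit 0x4814918b9a2, nat_lit 0x21c16d7c162, nat_lit 0x3c6c53982, [], [], []⟩)) (.leaf ⟨nat_lit 1, nat_lit 10, nat_lit 10, nat_lit 0x110b54c5ad01, nat_lit 0x181dca1b961, nat_lit 0x22b8ad74186, [], [], []⟩))) (.node (.node (.node (.leaf ⟨nat_lit 0, nat_lit 1, nat_lit 1, nat_lit 0, nat_lit 0x958262122, nat_lit 0xc19606, [], [], []⟩) (.leaf ⟨nat_lit 1, nat_lit 9, nat_lit 12, nat_lit 0x11e6614c1, nat_lit 0x20e4b96d, nat_lit 0x116416e54162, [], [], []⟩)) (.leaf ⟨nat_lit 1, nat_lit 10, nat_lit 10, nat_lit 0x58a94f811e1, nat_lit 0x1b20b2b8ca,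 nat_lit 0x591713bd51, [], [], []⟩)) (.node (.leaf ⟨nat_lit 1, nat_lit 10, nat_lit 10, nat_lit 0x64148545af, nat_lit 0x141cb798a6, nat_lit 0x15392f41591, [], [], []⟩) (.leaf ⟨nat_lit 1, nat_lit 10, nat_lit 9, nat_lit 0x117ac7073521, nat_lit 0x53d718a1cb, nat_lit 0x31d706a1cd, [], [], []⟩))))

noncomputable def F95 : GT Fa := .node (.node (.node (.node (.node (.leaf ⟨nat_lit 2, nat_lit 0, nat_lit 0, nat_lit 0x472227, nat_lit 0, nat_lit 0, [], [], [nat_lit 0x318c4, nat_lit 0x4a22b69142, nat_lit 0x318c4]⟩) (.leaf ⟨nat_lit 1, nat_lit 10, nat_lit 10, nat_lit 0xc0b48b0b9a2, nat_lit 0x1312c8a8e6, nat_lit 0x129ad6b921, [], [], []⟩)) (.leaf ⟨nat_lit 1, nat_lit 10, nat_lit 10, nat_lit 0x88194c8ace1, nat_lit 0x106c4ea73882, nat_lit 0x8317bc62, [], [], []⟩)) (.node (.node (.leaf ⟨nat_lit 0, nat_lit 1, nat_lit 1, nat_lit 0, nat_lit 0x283079d6d, nat_lit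 0x21ec738e6, [], [], []⟩) (.leaf ⟨nat_lit 1, nat_lit 14, nat_lit 10, nat_lit 0x17a88f62622, nat_lit 0xe216acf0, nat_lit 0x18308e60d82, [], [], []⟩)) (.leaf ⟨nat_lit 1, nat_lit 10, nat_lit 10, nat_lit 0x172cb18920b, nat_lit 0x133d8e8b5e1, nat_lit 0x9e0a8b5ed, [], [], []⟩))) (.node (.node (.node (.leaf ⟨nat_lit 0, nat_lit 1, nat_lit 1, nat_lit 0, nat_lit 0x18ed5c5ea, nat_lit 0x135312a603, [], [], []⟩) (.leaf ⟨nat_lit 1, nat_lit 12, nat_lit 10, nat_lit 0x82c8b59961, nat_lit 0x241b16a991, nat_lit 0x196b240ac, [], [], []⟩)) (.leaf ⟨nat_lit 1, nat_lit 10, nat_lit 10, nat_lit 0x291cb0ac4d, nat_lit 0x2b5a673624, nat_lit 0x14bcca8adcb, [], [], []⟩)) (.node (.leaf ⟨nat_lit 1, nat_lit 10, nat_lit 8, nat_lit 0x446a81c83, nat_lit 0x12db1445cb, nat_lit 0x6c4c045, [], [], []⟩) (.leaf ⟨nat_lit 1, nat_lit 10, nat_lit 10, nat_lit 0x446c8c58a, nat_lit 0x882e63a22,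 nat_lit 0x270d8a1298a, [], [], []⟩)))) (.node (.node (.node (.node (.leaf ⟨nat_lit 0, nat_lit 1, nat_lit 1, nat_lit 0, nat_lit 0xa66150d, nat_lit 0x253889838c1, [], [], []⟩) (.leaf ⟨nat_lit 1, nat_lit 11, nat_lit 10, nat_lit 0x38c48e5ace2, nat_lit 0x35154e23101, nat_lit 0x2b8ed0b90d, [], [], []⟩)) (.leaf ⟨nat_lit 1, nat_lit 10, nat_lit 10, nat_lit 0x22b4cf631c2, nat_lit 0x35b96c8a882, nat_lit 0x25ae0653061, [], [], []⟩)) (.node (.node (.leaf ⟨nat_lit 1, nat_lit 7, nat_lit 7, nat_lit 0xe2bcae8a9c2, nat_lit 0x101160a3c561, nat_lit 0x5c1f152a02, [], [], []⟩) (.leaf ⟨nat_lit 1, nat_lit 10, nat_lit 14, nat_lit 0x46254a1b8a1, nat_lit 0x1bcad2aca2, nat_lit 0x31a2a639af, [], [], []⟩)) (.leaf ⟨nat_lit 1, nat_lit 10, nat_lit 10, nat_lit 0x2def31c91, nat_lit 0xe8a9eb3b9c1, nat_lit 0x7994480544, [], [], []⟩))) (.node (.node (.node (.leaf ⟨nat_lit 0,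 nat_lit 1, nat_lit 1, nat_lit 0, nat_lit 0x111c383e24, nat_lit 0x3e102c06e, [], [], []⟩) (.leaf ⟨nat_lit 1, nat_lit 12, nat_lit 11, nat_lit 0x699906aa2c, nat_lit 0x2345ef82201, nat_lit 0xb9af499ef, [], [], []⟩)) (.leaf ⟨nat_lit 1, nat_lit 9, nat_lit 10, nat_lit 0x4ad2a7c5b0, nat_lit 0x13322e54461, nat_lit 0x19ef8a850, [], [], []⟩)) (.node (.leaf ⟨nat_lit 1, nat_lit 8, nat_lit 10, nat_lit 0x43a2e59e26, nat_lit 0x3441d13b4e2, nat_lit 0x16394c2398b, [], [], []⟩) (.leaf ⟨nat_lit 1, nat_lit 10, nat_lit 10, nat_lit 0x1158b6c181, nat_lit 0xb6adca825c2, nat_lit 0x24b08d7ac81, [], [], []⟩))))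

noncomputable def F96 : GT Fa := .node (.node (.node (.node (.node (.leaf ⟨nat_lit 2, nat_lit 0, nat_lit 0, nat_lit 0x472227, nat_lit 0, nat_lit 0, [], [], [nat_lit 0x4a22b69142, nat_lit 0x318c4, nat_lit 0x318c4]⟩) (.leaf ⟨nat_lit 1, nat_lit 10, nat_lit 10, nat_lit 0x52319074501, nat_lit 0x5c5d0538a3, nat_lit 0xc4e621ea, [], [], []⟩)) (.leaf ⟨nat_lit 1, nat_lit 10, nat_lit 10, nat_lit 0x2231c369961, nat_lit 0x160b2382e, nat_lit 0x11a43c5cd, [], [], []⟩)) (.node (.node (.leaf ⟨nat_lit 0, nat_lit 1, nat_lit 1, nat_lit 0, nat_lit 0xb05149862, nat_lit 0x21e1130e2, [], [], []⟩) (.leaf ⟨nat_lit 0, nat_lit 14, nat_lit 14, nat_lit 0, nat_lit 0x2c10a8acf0, nat_lit 0xa1f11ada1, [], [], []⟩)) (.leaf ⟨nat_lit 1, nat_lit 10, nat_lit 9, nat_lit 0x1139ad5ac62, nat_lit 0x1080e0c745a1, nat_lit 0x3201344a1, [], [], []⟩))) (.node (.node (.node (.leaf ⟨nat_lit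 0, nat_lit 1, nat_lit 1, nat_lit 0, nat_lit 0x8b8ef83102, nat_lit 0xbe0778cc2, [], [], []⟩) (.leaf ⟨nat_lit 1, nat_lit 12, nat_lit 10, nat_lit 0x509698c462, nat_lit 0x2b1cc32911, nat_lit 0x595913b0ad, [], [], []⟩)) (.leaf ⟨nat_lit 1, nat_lit 10, nat_lit 10, nat_lit 0x59571730ec, nat_lit 0x2c6272bceb, nat_lit 0x1828ed23db1, [], [], []⟩)) (.node (.leaf ⟨nat_lit 1, nat_lit 10, nat_lit 10, nat_lit 0x3245686a142, nat_lit 0x308a3c4e2, nat_lit 0x4ef34182, [], [], []⟩) (.leaf ⟨nat_lit 1, nat_lit 10, nat_lit 10, nat_lit 0x35bd2f6bd82, nat_lit 0x12b98c79c6c, nat_lit 0x2df188a22, [], [], []⟩)))) (.node (.node (.node (.node (.leaf ⟨nat_lit 0, nat_lit 1, nat_lit 1, nat_lit 0, nat_lit 0x3e077c182, nat_lit 0xa5ef4b5c5, [], [], []⟩) (.leaf ⟨nat_lit 1, nat_lit 10, nat_lit 11, nat_lit 0x122e0f841a7, nat_lit 0xe6b8c28c621, nat_lit 0x11b00ad67, [], [], []⟩))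 (.leaf ⟨nat_lit 1, nat_lit 10, nat_lit 10, nat_lit 0x7c148540c2, nat_lit 0x2c2106258c, nat_lit 0x1d916a585, [], [], []⟩)) (.node (.node (.leaf ⟨nat_lit 1, nat_lit 1, nat_lit 8, nat_lit 130, nat_lit 0, nat_lit 0, [], [], []⟩) (.leaf ⟨nat_lit 1, nat_lit 14, nat_lit 10, nat_lit 0xcd30da1, nat_lit 0x3b2058396b, nat_lit 0x1cd4bcc5, [], [], []⟩)) (.leaf ⟨nat_lit 1, nat_lit 10, nat_lit 10, nat_lit 0x5b131535a1, nat_lit 0x2c2d5420e, nat_lit 0x7c0cc8b224, [], [], []⟩))) (.node (.node (.node (.leaf ⟨nat_lit 0, nat_lit 1, nat_lit 1, nat_lit 0, nat_lit 0x524307acc2, nat_lit 0x121eb88561, [], [], []⟩) (.leaf ⟨nat_lit 1, nat_lit 10, nat_lit 12, nat_lit 0xb3318e145c1, nat_lit 0x5394379206, nat_lit 0x53a2e3390f, [], [], []⟩)) (.leaf ⟨nat_lit 1, nat_lit 10, nat_lit 10, nat_lit 0x688e478d4a, nat_lit 0x123a2a39181, nat_lit 0x809ae61c6d, [], [], []⟩)) (.node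 (.leaf ⟨nat_lit 1, nat_lit 7, nat_lit 10, nat_lit 0x45856b629a1, nat_lit 0x335a3734a3, nat_lit 0x119db061224, [], [], []⟩) (.leaf ⟨nat_lit 1, nat_lit 10, nat_lit 10, nat_lit 0x37208f80c83, nat_lit 0x32a3172083, nat_lit 0x1adef2c44d, [], [], []⟩))))

noncomputable def F97 : GT Fa := .node (.node (.node (.node (.node (.leaf ⟨nat_lit 2, nat_lit 0, nat_lit 0, nat_lit 0x1deb6bc91, nat_lit 0, nat_lit 0, [], [], [nat_lit 0x318c4, nat_lit 0x318c4, nat_lit 0x318c4]⟩) (.leaf ⟨nat_lit 1, nat_lit 9, nat_lit 10, nat_lit 0x5418a499c4, nat_lit 0xf5c0d038e02, nat_lit 0x5354f53d44, [], [], []⟩)) (.leaf ⟨nat_lit 1, nat_lit 9, nat_lit 10, nat_lit 0x1c1cd1c209, nat_lit 0x8731f151e01, nat_lit 0x1685f1619e9, [], [], []⟩)) (.node (.node (.leaf ⟨nat_lit 0, nat_lit 1, nat_lit 1, nat_lit 0, nat_lit 0x86e2b06e, nat_lit 0x12f83c62, [], [], []⟩) (.leaf ⟨nat_lit 1, nat_lit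 10, nat_lit 14, nat_lit 0x8579422, nat_lit 0x1c56b81051, nat_lit 0x1390b814ee, [], [], []⟩)) (.leaf ⟨nat_lit 1, nat_lit 10, nat_lit 10, nat_lit 0x31cd5a624, nat_lit 0x435c3230e2, nat_lit 0x258d6f6bd02, [], [], []⟩))) (.node (.node (.node (.leaf ⟨nat_lit 0, nat_lit 1, nat_lit 1, nat_lit 0, nat_lit 0x45500ad66, nat_lit 0x884d168dc3, [], [], []⟩) (.leaf ⟨nat_lit 1, nat_lit 9, nat_lit 12, nat_lit 0x5860461a02, nat_lit 0x2c2e338f1, nat_lit 0x17b1e36a943, [], [], []⟩)) (.leaf ⟨nat_lit 1, nat_lit 10, nat_lit 10, nat_lit 0x3c20d4282d, nat_lit 0xc52a7aa21, nat_lit 0x16962c835a2, [], [], []⟩)) (.node (.leaf ⟨nat_lit 1, nat_lit 10, nat_lit 10, nat_lit 0x5aa3c050, nat_lit 0x830903c081, nat_lit 0x2216256bd41, [], [], []⟩) (.leaf ⟨nat_lit 1, nat_lit 9, nat_lit 10, nat_lit 0x12e2b4adef, nat_lit 0x5c4ea7292c, nat_lit 0x27b02b22c81, [], [], []⟩)))) (.node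 (.node (.node (.node (.leaf ⟨nat_lit 0, nat_lit 1, nat_lit 1, nat_lit 0, nat_lit 0x2be077c182, nat_lit 0x52f7a5ae, [], [], []⟩) (.leaf ⟨nat_lit 1, nat_lit 11, nat_lit 10, nat_lit 0x1715118ac2c, nat_lit 0x53d6613e2c, nat_lit 0x21915258a, [], [], []⟩)) (.leaf ⟨nat_lit 1, nat_lit 10, nat_lit 10, nat_lit 0x2360c51946, nat_lit 0x44ca889a4, nat_lit 0x4462f2b84c, [], [], []⟩)) (.node (.node (.leaf ⟨nat_lit 0, nat_lit 8, nat_lit 8, nat_lit 0, nat_lit 0xd1b125, nat_lit 0x104f07c0a1, [], [], []⟩) (.leaf ⟨nat_lit 1, nat_lit 14, nat_lit 10, nat_lit 0x61150715c5, nat_lit 0x7348a63941, nat_lit 0x15ef83602, [], [], []⟩)) (.leaf ⟨nat_lit 1, nat_lit 10, nat_lit 9, nat_lit 0x13294f8b9c2, nat_lit 0x6203162c41, nat_lit 0x18410e829e1, [], [], []⟩))) (.node (.node (.node (.leaf ⟨nat_lit 0, nat_lit 1, nat_lit 1, nat_lit 0, nat_lit 0x10624891c6, nat_lit 0xc83230ad,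 [], [], []⟩) (.leaf ⟨nat_lit 1, nat_lit 9, nat_lit 12, nat_lit 0x3c0b17354c, nat_lit 0x4c62f6a86d, nat_lit 0x70d8364108, [], [], []⟩)) (.leaf ⟨nat_lit 1, nat_lit 10, nat_lit 10, nat_lit 0x5942b2b5e1, nat_lit 0x7346e12c4c, nat_lit 0x68e0f43de4, [], [], []⟩)) (.node (.leaf ⟨nat_lit 1, nat_lit 10, nat_lit 10, nat_lit 0x231ce3aa28, nat_lit 0xd73231619c1, nat_lit 0x3b10f2c201, [], [], []⟩) (.leaf ⟨nat_lit 1, nat_lit 10, nat_lit 10, nat_lit 0x142e2288871, nat_lit 0x8848a244ef, nat_lit 0x6a8ed53922, [], [], []⟩))))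

noncomputable def F98 : GT Fa := .node (.node (.node (.node (.node (.leaf ⟨nat_lit 2, nat_lit 0, nat_lit 0, nat_lit 0x318c4, nat_lit 0, nat_lit 0, [], [], [nat_lit 0x472227, nat_lit 0x472227, nat_lit 0x8b124811c2]⟩) (.leaf ⟨nat_lit 1, nat_lit 10, nat_lit 10, nat_lit 0x2435c71bdaf, nat_lit 0x22276c02a, nat_lit 0x14907b151, [], [], []⟩)) (.leaf ⟨nat_lit 1, nat_lit 10, nat_lit 10, nat_lit 0x434ab83147, nat_lit 0x6add17c549, nat_lit 0x7152f535ab, [], [], []⟩)) (.node (.node (.leaf ⟨nat_lit 0, nat_lit 1, nat_lit 1, nat_lit 0, nat_lit 0x1bde822d0e, nat_lit 0x104645c4ce, [], [], []⟩) (.leaf ⟨nat_lit 1, nat_lit 11, nat_lit 14, nat_lit 0x22a9ea425a1, nat_lit 0xdea61da6, nat_lit 0x2cec821a4, [], [], []⟩)) (.leaf ⟨nat_lit 1, nat_lit 10, nat_lit 10, nat_lit 0x2534e26b561, nat_lit 0x970e2a54622, nat_lit 0x28957132d91, [], [], []⟩))) (.node (.node (.node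 (.leaf ⟨nat_lit 0, nat_lit 1, nat_lit 1, nat_lit 0, nat_lit 0x18262122, nat_lit 0x5832c0c5, [], [], []⟩) (.leaf ⟨nat_lit 1, nat_lit 12, nat_lit 10, nat_lit 0x1a07838ee, nat_lit 0x2b9717942e, nat_lit 0x86c4bc8c, [], [], []⟩)) (.leaf ⟨nat_lit 1, nat_lit 10, nat_lit 10, nat_lit 0x272dcd6be22, nat_lit 0x44c1c532c82, nat_lit 0x21b18f82565, [], [], []⟩)) (.node (.leaf ⟨nat_lit 1, nat_lit 10, nat_lit 9, nat_lit 0x4b4ab0b4a1, nat_lit 0x43e26699c7, nat_lit 0xb42e509aa, [], [], []⟩) (.leaf ⟨nat_lit 1, nat_lit 10, nat_lit 10, nat_lit 0x629cb62d2e, nat_lit 0x1a94a441ed, nat_lit 0xc18263d63, [], [], []⟩)))) (.node (.node (.node (.node (.leaf ⟨nat_lit 0, nat_lit 1, nat_lit 1, nat_lit 0, nat_lit 0x3ca8709a6, nat_lit 0x139c38c62e, [], [], []⟩) (.leaf ⟨nat_lit 1, nat_lit 10, nat_lit 11, nat_lit 0x80da469e01, nat_lit 0x1111821b981, nat_lit 0x4c53b9d1, [],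 [], []⟩)) (.leaf ⟨nat_lit 1, nat_lit 10, nat_lit 10, nat_lit 0x8b1cd341c4, nat_lit 0x6a890729ec, nat_lit 0x27a54e1a201, [], [], []⟩)) (.node (.node (.leaf ⟨nat_lit 0, nat_lit 8, nat_lit 8, nat_lit 0, nat_lit 9, nat_lit 7, [], [], []⟩) (.leaf ⟨nat_lit 1, nat_lit 14, nat_lit 10, nat_lit 0x441cd228c1, nat_lit 0x3ba0b8b46d, nat_lit 0x229d06a608, [], [], []⟩)) (.leaf ⟨nat_lit 1, nat_lit 10, nat_lit 10, nat_lit 0x13360184182, nat_lit 0x6c56f0a981, nat_lit 0x1534ae73501, [], [], []⟩))) (.node (.node (.node (.leaf ⟨nat_lit 0, nat_lit 1, nat_lit 1, nat_lit 0, nat_lit 0x1c5c78b982, nat_lit 0x60a314c203, [], [], []⟩) (.leaf ⟨nat_lit 1, nat_lit 10, nat_lit 12, nat_lit 0x18bd642b0cc, nat_lit 0x6519b07b462, nat_lit 0x2263e3121441, [], [], []⟩)) (.leaf ⟨nat_lit 1, nat_lit 10, nat_lit 9, nat_lit 0x83cd06a541, nat_lit 0x2234ed338a1, nat_lit 0x1b1ef3aa05,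 [], [], []⟩)) (.node (.leaf ⟨nat_lit 1, nat_lit 10, nat_lit 9, nat_lit 0x263c6d735e1, nat_lit 0x4189af5c1a1, nat_lit 0x28c4907aa2a, [], [], []⟩) (.leaf ⟨nat_lit 1, nat_lit 10, nat_lit 10, nat_lit 0x1adaf644a8, nat_lit 0x3aa03641e6, nat_lit 0x638ee818a1, [], [], []⟩))))

noncomputable def F99 : GT Fa := .node (.node (.node (.node (.node (.leaf ⟨nat_lit 2, nat_lit 0, nat_lit 0, nat_lit 0x318c4, nat_lit 0, nat_lit 0, [], [], [nat_lit 0x472227, nat_lit 0x8b124811c2, nat_lit 0x472227]⟩) (.leaf ⟨nat_lit 1, nat_lit 10, nat_lit 10, nat_lit 0x5414c72d85, nat_lit 0x1d7054585, nat_lit 0x44ae529c3, [], [], []⟩)) (.leaf ⟨nat_lit 1, nat_lit 10, nat_lit 7, nat_lit 0x60c90839c9, nat_lit 0x7162a50567, nat_lit 0x141e11454d, [], [], []⟩)) (.node (.node (.leaf ⟨nat_lit 0, nat_lit 1, nat_lit 1, nat_lit 0, nat_lit 0x199ec71dc5, nat_lit 0x621501b164, [], [], []⟩)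 (.leaf ⟨nat_lit 1, nat_lit 10, nat_lit 14, nat_lit 0x7c1875b102, nat_lit 0x641e762e2d, nat_lit 0x254a505cd, [], [], []⟩)) (.leaf ⟨nat_lit 1, nat_lit 10, nat_lit 10, nat_lit 0x85c58f8b561, nat_lit 0x1be2159d42, nat_lit 0xa88e2a805a2, [], [], []⟩))) (.node (.node (.node (.leaf ⟨nat_lit 0, nat_lit 1, nat_lit 1, nat_lit 0, nat_lit 0x11f13be24, nat_lit 0x1f04bd10, [], [], []⟩) (.leaf ⟨nat_lit 1, nat_lit 10, nat_lit 12, nat_lit 0x1b62b80a07, nat_lit 0x2b5af519e9, nat_lit 0x25c20970c83, [], [], []⟩)) (.leaf ⟨nat_lit 1, nat_lit 10, nat_lit 10, nat_lit 0x16adf00b541, nat_lit 0x34a362d90, nat_lit 0x272a3173222, [], [], []⟩)) (.node (.leaf ⟨nat_lit 1, nat_lit 10, nat_lit 10, nat_lit 0xa5b17b601, nat_lit 0x13d705bce6, nat_lit 0x219b053902, [], [], []⟩) (.leaf ⟨nat_lit 1, nat_lit 10, nat_lit 10, nat_lit 0xb10ad0a, nat_lit 0xd7385079221, nat_lit 0x27a82c2bde2,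 [], [], []⟩)))) (.node (.node (.node (.node (.leaf ⟨nat_lit 0, nat_lit 1, nat_lit 1, nat_lit 0, nat_lit 0x5310b1b5f1, nat_lit 0x15f02c4ae, [], [], []⟩) (.leaf ⟨nat_lit 1, nat_lit 7, nat_lit 11, nat_lit 0x8ab2382a, nat_lit 0x253609795a2, nat_lit 0xb96e2b964, [], [], []⟩)) (.leaf ⟨nat_lit 1, nat_lit 10, nat_lit 10, nat_lit 0x2acae43061, nat_lit 0x1178e0a821c2, nat_lit 0xbd4c8994a, [], [], []⟩)) (.node (.node (.leaf ⟨nat_lit 0, nat_lit 8, nat_lit 8, nat_lit 0, nat_lit 0x6794d0, nat_lit 0x71415c8, [], [], []⟩) (.leaf ⟨nat_lit 1, nat_lit 14, nat_lit 12, nat_lit 0x12d6381dc1, nat_lit 0x45318684022, nat_lit 0x315c57c5e9, [], [], []⟩)) (.leaf ⟨nat_lit 1, nat_lit 10, nat_lit 10, nat_lit 0x14628641c6, nat_lit 0x1ca6711e1, nat_lit 0x5096f3c210, [], [], []⟩))) (.node (.node (.node (.leaf ⟨nat_lit 0, nat_lit 1, nat_lit 1, nat_lit 0, nat_lit 0x2dc85194e,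 nat_lit 0xa5f078ca2, [], [], []⟩) (.leaf ⟨nat_lit 1, nat_lit 12, nat_lit 12, nat_lit 0x7a2255c5a5, nat_lit 0x47ada572043, nat_lit 0x11b02304d, [], [], []⟩)) (.leaf ⟨nat_lit 1, nat_lit 10, nat_lit 10, nat_lit 0x5c62e6c56e, nat_lit 0x6ac2b7bcb0, nat_lit 0x13148889d0, [], [], []⟩)) (.node (.leaf ⟨nat_lit 1, nat_lit 10, nat_lit 10, nat_lit 0x499912b5a6, nat_lit 0x3446248b541, nat_lit 0x2b7449163c62, [], [], []⟩) (.leaf ⟨nat_lit 1, nat_lit 10, nat_lit 10, nat_lit 0xd59dcd8bd02, nat_lit 0xc431ed209e1, nat_lit 0xc1c38c46d, [], [], []⟩))))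

noncomputable def F100 : GT Fa := .node (.node (.node (.node (.node (.leaf ⟨nat_lit 2, nat_lit 0, nat_lit 0, nat_lit 0x318c4, nat_lit 0, nat_lit 0, [], [], [nat_lit 0x8b124811c2, nat_lit 0x472227, nat_lit 0x472227]⟩) (.leaf ⟨nat_lit 1, nat_lit 10, nat_lit 10, nat_lit 0xb4b8ab5c101, nat_lit 0x245a5840c7, nat_lit 0x482d7123461, [], [], []⟩)) (.leaf ⟨nat_lit 1, nat_lit 10, nat_lit 10, nat_lit 0x5b983130d1, nat_lit 0xa5b074102, nat_lit 0x7998564565, [], [], []⟩)) (.node (.node (.leaf ⟨nat_lit 0, nat_lit 1, nat_lit 1, nat_lit 0, nat_lit 0x1bcec71dc6, nat_lit 0x140432aa2d, [], [], []⟩) (.leaf ⟨nat_lit 1, nat_lit 10, nat_lit 14, nat_lit 0x22daa22d6f, nat_lit 0x48acb053081, nat_lit 0x1544a48a1e2, [], [], []⟩)) (.leaf ⟨nat_lit 1, nat_lit 10, nat_lit 10, nat_lit 0x43db034146, nat_lit 0x818cd8bd8f, nat_lit 0x13bdaa811ea, [], [], []⟩))) (.node (.node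 (.node (.leaf ⟨nat_lit 0, nat_lit 1, nat_lit 1, nat_lit 0, nat_lit 0x18c414cf, nat_lit 0x1832c0c5, [], [], []⟩) (.leaf ⟨nat_lit 1, nat_lit 10, nat_lit 12, nat_lit 0x4bd8f29864, nat_lit 0x222e2c43e0e, nat_lit 0x18b60e58d4a, [], [], []⟩)) (.leaf ⟨nat_lit 1, nat_lit 10, nat_lit 10, nat_lit 0x17aa0e82182, nat_lit 0x899f0439a2, nat_lit 0x110d18b5b1, [], [], []⟩)) (.node (.leaf ⟨nat_lit 1, nat_lit 10, nat_lit 10, nat_lit 0x71941531c2, nat_lit 0x235711b961, nat_lit 0x78de8615a9, [], [], []⟩) (.leaf ⟨nat_lit 1, nat_lit 10, nat_lit 9, nat_lit 0x3b0b061d4e, nat_lit 0x29cb0ac85, nat_lit 0xb10a5148c, [], [], []⟩)))) (.node (.node (.node (.node (.leaf ⟨nat_lit 0, nat_lit 1, nat_lit 1, nat_lit 0, nat_lit 0x591cc891c2, nat_lit 0x83230ad, [], [], []⟩) (.leaf ⟨nat_lit 1, nat_lit 10, nat_lit 11, nat_lit 0x482a2b33602, nat_lit 0xb5b4f07b221, nat_lit 0x1298c4218c,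 [], [], []⟩)) (.leaf ⟨nat_lit 1, nat_lit 10, nat_lit 10, nat_lit 0xd33031615c2, nat_lit 0x158daa6ba01, nat_lit 0x58e075bd82, [], [], []⟩)) (.node (.node (.leaf ⟨nat_lit 0, nat_lit 8, nat_lit 8, nat_lit 0, nat_lit 0x162e89c22, nat_lit 0x54b46c, [], [], []⟩) (.leaf ⟨nat_lit 1, nat_lit 10, nat_lit 14, nat_lit 0x20e261a949, nat_lit 0xa1454e53922, nat_lit 0x39317b16b, [], [], []⟩)) (.leaf ⟨nat_lit 1, nat_lit 10, nat_lit 10, nat_lit 0xb0962f53e21, nat_lit 0x372d8b6c081, nat_lit 0x28b9a41b98b, [], [], []⟩))) (.node (.node (.node (.leaf ⟨nat_lit 0, nat_lit 1, nat_lit 1, nat_lit 0, nat_lit 0x178e0b34022, nat_lit 0x1448b3c5ad, [], [], []⟩) (.leaf ⟨nat_lit 1, nat_lit 10, nat_lit 12, nat_lit 0x315c56392a, nat_lit 0x99142db1, nat_lit 0x1345616ac64, [], [], []⟩)) (.leaf ⟨nat_lit 1, nat_lit 10, nat_lit 10, nat_lit 0x6b9cd7ac22, nat_lit 0x58e2481062, nat_lit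 0x134f17c147, [], [], []⟩)) (.node (.leaf ⟨nat_lit 1, nat_lit 10, nat_lit 10, nat_lit 0x421ce610a2, nat_lit 0xc52d7a94c, nat_lit 0x189898b930, [], [], []⟩) (.leaf ⟨nat_lit 1, nat_lit 10, nat_lit 10, nat_lit 0xb9717402c, nat_lit 0x49a2b63966, nat_lit 0x3a2d69570, [], [], []⟩))))

noncomputable def F101 : GT Fa := .node (.node (.node (.node (.node (.leaf ⟨nat_lit 2, nat_lit 0, nat_lit 0, nat_lit 0x12c8c540c7, nat_lit 0, nat_lit 0, [], [], [nat_lit 0x472227, nat_lit 0x472227, nat_lit 0x472227]⟩) (.leaf ⟨nat_lit 1, nat_lit 10, nat_lit 10, nat_lit 0x194cf2be21, nat_lit 0x114306e12da1, nat_lit 0x2c2970e01, [], [], []⟩)) (.leaf ⟨nat_lit 1, nat_lit 10, nat_lit 9, nat_lit 0x1388f6be24, nat_lit 0xa6c1e3515c1, nat_lit 0x23be2f2b5c8, [], [], []⟩)) (.node (.node (.leaf ⟨nat_lit 0, nat_lit 1, nat_lit 1, nat_lit 0, nat_lit 0x22a225a062, nat_lit 0x5e8639c5,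 [], [], []⟩) (.leaf ⟨nat_lit 1, nat_lit 10, nat_lit 14, nat_lit 0x291515c5c6, nat_lit 0xb840aa538e1, nat_lit 0x7c16d52a0d, [], [], []⟩)) (.leaf ⟨nat_lit 1, nat_lit 10, nat_lit 10, nat_lit 0x18c48e6ac22, nat_lit 0x157144624, nat_lit 0x8dcc5918b, [], [], []⟩))) (.node (.node (.node (.leaf ⟨nat_lit 0, nat_lit 1, nat_lit 1, nat_lit 0, nat_lit 0x1c5218b46e, nat_lit 0x8b8d1730e2, [], [], []⟩) (.leaf ⟨nat_lit 1, nat_lit 10, nat_lit 12, nat_lit 0x5b20a7bde7, nat_lit 0x2319eb0b202, nat_lit 0x163d6b4156e, [], [], []⟩)) (.leaf ⟨nat_lit 1, nat_lit 10, nat_lit 10, nat_lit 0x3aa2b309a4, nat_lit 0x32b46a7c462, nat_lit 0x42dc984181, [], [], []⟩)) (.node (.leaf ⟨nat_lit 1, nat_lit 9, nat_lit 10, nat_lit 0x179e0572941, nat_lit 0x15a90ad81, nat_lit 0x831c47c186, [], [], []⟩) (.leaf ⟨nat_lit 1, nat_lit 10, nat_lit 10, nat_lit 0x123125818e1, nat_lit 0x31418f3c0c1,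 nat_lit 0xdb172564, [], [], []⟩)))) (.node (.node (.node (.node (.leaf ⟨nat_lit 0, nat_lit 1, nat_lit 1, nat_lit 0, nat_lit 0x63205640c2, nat_lit 0x7a2047a147, [], [], []⟩) (.leaf ⟨nat_lit 1, nat_lit 10, nat_lit 11, nat_lit 0x18a84b9a9, nat_lit 0x5420c5c4ee, nat_lit 0x1a2315c441, [], [], []⟩)) (.leaf ⟨nat_lit 1, nat_lit 10, nat_lit 10, nat_lit 0x335c15c206, nat_lit 0x415518b171, nat_lit 0x6117072c85, [], [], []⟩)) (.node (.node (.leaf ⟨nat_lit 1, nat_lit 8, nat_lit 7, nat_lit 0x3829106aca2, nat_lit 0x79169811ef, nat_lit 0x31122d51e2b, [], [], []⟩) (.leaf ⟨nat_lit 1, nat_lit 10, nat_lit 14, nat_lit 0x1a1e36a5d1, nat_lit 0x1a1476320e, nat_lit 0xc58e33503, [], [], []⟩)) (.leaf ⟨nat_lit 1, nat_lit 10, nat_lit 10, nat_lit 0x1b9704316c, nat_lit 0x1230a463222, nat_lit 0x3445809ec, [], [], []⟩))) (.node (.node (.node (.leaf ⟨nat_lit 0, nat_lit 1,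 nat_lit 1, nat_lit 0, nat_lit 0x30a279822, nat_lit 0x11d828320d, [], [], []⟩) (.leaf ⟨nat_lit 1, nat_lit 12, nat_lit 10, nat_lit 0x2a8ad8c4e2, nat_lit 0x5c4ee5b981, nat_lit 0x10dc46a191, [], [], []⟩)) (.leaf ⟨nat_lit 1, nat_lit 10, nat_lit 10, nat_lit 0x345891c48b, nat_lit 0x431e2c3a862, nat_lit 0x439701c101, [], [], []⟩)) (.node (.leaf ⟨nat_lit 1, nat_lit 10, nat_lit 9, nat_lit 0x4c62c8a9f1, nat_lit 0x45466056d, nat_lit 0x17b17173881, [], [], []⟩) (.leaf ⟨nat_lit 1, nat_lit 10, nat_lit 9, nat_lit 0x5b5c97a923, nat_lit 0x95314d1bc82, nat_lit 0xbde85b9a4, [], [], []⟩))))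

noncomputable def F102 : GT Fa := .node (.node (.node (.node (.node (.leaf ⟨nat_lit 0, nat_lit 1, nat_lit 1, nat_lit 0, nat_lit 0x45c389422, nat_lit 0x6229166, [], [], []⟩) (.leaf ⟨nat_lit 1, nat_lit 10, nat_lit 10, nat_lit 0xb4a9aa4b221, nat_lit 0x222d6b4942c, nat_lit 0x4260e59443, [], [], []⟩)) (.leaf ⟨nat_lit 1, nat_lit 10, nat_lit 10, nat_lit 0xb10b9ae, nat_lit 0x68bdab72902, nat_lit 0x83d854bd42, [], [], []⟩)) (.node (.node (.leaf ⟨nat_lit 0, nat_lit 1, nat_lit 1, nat_lit 0, nat_lit 0x18ba2873102, nat_lit 0x1b02571582, [], [], []⟩) (.leaf ⟨nat_lit 1, nat_lit 10, nat_lit 14, nat_lit 0x8b1c71c561, nat_lit 0x18ae258c501, nat_lit 0x11d4154166, [], [], []⟩)) (.leaf ⟨nat_lit 1, nat_lit 10, nat_lit 10, nat_lit 0x141d07442c, nat_lit 0x42986825e1, nat_lit 0x17354760982, [], [], []⟩))) (.node (.node (.node (.leaf ⟨nat_lit 0, nat_lit 1, nat_lit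 1, nat_lit 0, nat_lit 0x630b07be02, nat_lit 0x608af2a5c3, [], [], []⟩) (.leaf ⟨nat_lit 1, nat_lit 9, nat_lit 12, nat_lit 0x32d8583422, nat_lit 0x151225741c1, nat_lit 0x5b18f7b171, [], [], []⟩)) (.leaf ⟨nat_lit 1, nat_lit 10, nat_lit 10, nat_lit 0x3362c7ad01, nat_lit 0x12a60c79546, nat_lit 0x5c17023226, [], [], []⟩)) (.node (.leaf ⟨nat_lit 1, nat_lit 10, nat_lit 10, nat_lit 0x46bdaa2a1e1, nat_lit 0x7a62d8b5c9, nat_lit 0x24b46b71964, [], [], []⟩) (.leaf ⟨nat_lit 1, nat_lit 10, nat_lit 10, nat_lit 0xc1bcca7a1a1, nat_lit 0x1569518ad, nat_lit 0x18b9b022d84, [], [], []⟩)))) (.node (.node (.node (.node (.leaf ⟨nat_lit 0, nat_lit 1, nat_lit 1, nat_lit 0, nat_lit 0x191f13be24, nat_lit 0x4f18aa2d, [], [], []⟩) (.leaf ⟨nat_lit 1, nat_lit 10, nat_lit 11, nat_lit 0x131100b4d0, nat_lit 0x523530434a2, nat_lit 0x57958364181, [], [], []⟩)) (.leaf ⟨nat_lit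 1, nat_lit 10, nat_lit 10, nat_lit 0x7396f63cac, nat_lit 0x515cd2c1a6, nat_lit 0x18148e731e3, [], [], []⟩)) (.node (.node (.leaf ⟨nat_lit 1, nat_lit 8, nat_lit 7, nat_lit 0x88cf5c52f, nat_lit 0x7a9040b190, nat_lit 0x12414d89162, [], [], []⟩) (.leaf ⟨nat_lit 1, nat_lit 14, nat_lit 10, nat_lit 0x962ce2, nat_lit 0x546241b921, nat_lit 0xe0768602, [], [], []⟩)) (.leaf ⟨nat_lit 1, nat_lit 10, nat_lit 10, nat_lit 0x31318b43922, nat_lit 0x2a101ba09, nat_lit 0x2446c72dc5, [], [], []⟩))) (.node (.node (.node (.leaf ⟨nat_lit 0, nat_lit 1, nat_lit 1, nat_lit 0, nat_lit 0x14cc2a1a1, nat_lit 0x129c44c1c6, [], [], []⟩) (.leaf ⟨nat_lit 1, nat_lit 10, nat_lit 12, nat_lit 0x5b14553c62, nat_lit 0x189c95114c, nat_lit 0x1198aa53caa, [], [], []⟩)) (.leaf ⟨nat_lit 1, nat_lit 10, nat_lit 10, nat_lit 0x12b5a683de1, nat_lit 0x488e266b8e1, nat_lit 0x645a65ba01, [],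 [], []⟩)) (.node (.leaf ⟨nat_lit 1, nat_lit 8, nat_lit 10, nat_lit 0x640c95ae02, nat_lit 0x189ef4b22f, nat_lit 0x5194f59c22, [], [], []⟩) (.leaf ⟨nat_lit 1, nat_lit 10, nat_lit 10, nat_lit 0xf7a9c882922, nat_lit 0x6320262991, nat_lit 0x9dad7c42b, [], [], []⟩))))

noncomputable def F103 : GT Fa := .node (.node (.node (.node (.node (.leaf ⟨nat_lit 0, nat_lit 1, nat_lit 1, nat_lit 0, nat_lit 0x45d128441, nat_lit 0x229166, [], [], []⟩) (.leaf ⟨nat_lit 1, nat_lit 10, nat_lit 10, nat_lit 0x16963e28, nat_lit 0x21b9aa69224, nat_lit 0x1539a5641a8, [], [], []⟩)) (.leaf ⟨nat_lit 1, nat_lit 10, nat_lit 10, nat_lit 0x1a142829e2, nat_lit 0x1b1ec8202a, nat_lit 0x4f7c1ca13481, [], [], []⟩)) (.node (.node (.leaf ⟨nat_lit 0, nat_lit 1, nat_lit 1, nat_lit 0, nat_lit 0x94cc625a2, nat_lit 0x6c0b1ce, [], [], []⟩) (.leaf ⟨nat_lit 1, nat_lit 14, nat_lit 9, nat_lit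 0x8b8f120da1, nat_lit 0x198cb231d0, nat_lit 0x27b46479181, [], [], []⟩)) (.leaf ⟨nat_lit 1, nat_lit 10, nat_lit 9, nat_lit 0x439306a46d, nat_lit 0x17b5ea4390e, nat_lit 0x1515c23b9c4, [], [], []⟩))) (.node (.node (.node (.leaf ⟨nat_lit 0, nat_lit 1, nat_lit 1, nat_lit 0, nat_lit 0x1d8f28e2d, nat_lit 0x5ef685a5, [], [], []⟩) (.leaf ⟨nat_lit 1, nat_lit 12, nat_lit 10, nat_lit 0xe5c20663902, nat_lit 0x2158a80dc6, nat_lit 0x262d9021d61, [], [], []⟩)) (.leaf ⟨nat_lit 1, nat_lit 10, nat_lit 10, nat_lit 0x91441b441, nat_lit 0x214a8a151, nat_lit 0x88dcb29163, [], [], []⟩)) (.node (.leaf ⟨nat_lit 1, nat_lit 10, nat_lit 10, nat_lit 0x2b7a1ae, nat_lit 0x208dae71c81, nat_lit 0x785462c0a3, [], [], []⟩) (.leaf ⟨nat_lit 1, nat_lit 9, nat_lit 10, nat_lit 0x9245412d, nat_lit 0x5356b63a02, nat_lit 0x38506a10b, [], [], []⟩)))) (.node (.node (.node (.node (.leaf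 ⟨nat_lit 0, nat_lit 1, nat_lit 1, nat_lit 0, nat_lit 0x9d8828982, nat_lit 0x13622194c2, [], [], []⟩) (.leaf ⟨nat_lit 1, nat_lit 10, nat_lit 11, nat_lit 0x8352f69a21, nat_lit 0x15ed8ade2, nat_lit 0x11a18a61e01, [], [], []⟩)) (.leaf ⟨nat_lit 1, nat_lit 10, nat_lit 10, nat_lit 0x6b507595a8, nat_lit 0x140b023cc6, nat_lit 0x268c4981941, [], [], []⟩)) (.node (.node (.leaf ⟨nat_lit 0, nat_lit 8, nat_lit 8, nat_lit 0, nat_lit 0x4505411e1, nat_lit 0x2b339d1, [], [], []⟩) (.leaf ⟨nat_lit 1, nat_lit 14, nat_lit 9, nat_lit 0x91e97960e, nat_lit 0x2420f4be0a, nat_lit 0x2625e45b1c5, [], [], []⟩)) (.leaf ⟨nat_lit 1, nat_lit 10, nat_lit 10, nat_lit 0x3398e6bcca, nat_lit 0x61c2d7c5e1, nat_lit 0x8293071a06, [], [], []⟩))) (.node (.node (.node (.leaf ⟨nat_lit 0, nat_lit 1, nat_lit 1, nat_lit 0, nat_lit 0x3c4ae8a422, nat_lit 0x1064615a5, [], [], []⟩) (.leaf ⟨nat_lit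 1, nat_lit 10, nat_lit 12, nat_lit 0x244e583983, nat_lit 0x99457162c, nat_lit 0x292c8a5d1, [], [], []⟩)) (.leaf ⟨nat_lit 1, nat_lit 10, nat_lit 10, nat_lit 0x8d4c5c08c, nat_lit 0x23ad8e6b561, nat_lit 0x1819a76c0e1, [], [], []⟩)) (.node (.leaf ⟨nat_lit 1, nat_lit 9, nat_lit 10, nat_lit 0x1122f6316d, nat_lit 0x12aa2f64145, nat_lit 0x254a6c4e6, [], [], []⟩) (.leaf ⟨nat_lit 1, nat_lit 10, nat_lit 10, nat_lit 0xe22c2c3b141, nat_lit 0x215b10b0ef, nat_lit 0x3c44c2b5e3, [], [], []⟩))))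

noncomputable def F104 : GT Fa := .node (.node (.node (.node (.node (.leaf ⟨nat_lit 0, nat_lit 1, nat_lit 1, nat_lit 0, nat_lit 0x4183e01, nat_lit 0x29064, [], [], []⟩) (.leaf ⟨nat_lit 1, nat_lit 10, nat_lit 10, nat_lit 0x62989640cb, nat_lit 0x42c3063231, nat_lit 0x134ad1ba05, [], [], []⟩)) (.leaf ⟨nat_lit 1, nat_lit 10, nat_lit 10, nat_lit 0xb0715bc85, nat_lit 0x12b62c8a9c8, nat_lit 0x8402c5b9a9, [], [], []⟩)) (.node (.node (.leaf ⟨nat_lit 0, nat_lit 1, nat_lit 1, nat_lit 0, nat_lit 0x135e573043, nat_lit 0x2951695ea, [], [], []⟩) (.leaf ⟨nat_lit 1, nat_lit 14, nat_lit 10, nat_lit 0x27116c891e1, nat_lit 0x71e2b3c1c1, nat_lit 0x15960c4a981, [], [], []⟩)) (.leaf ⟨nat_lit 1, nat_lit 10, nat_lit 10, nat_lit 0x6ae07134e2, nat_lit 0xb1ca509ea, nat_lit 0x304a8c5ae, [], [], []⟩))) (.node (.node (.node (.leaf ⟨nat_lit 0, nat_lit 1, nat_lit 1, nat_lit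 0, nat_lit 0x22e89422, nat_lit 0x580a25, [], [], []⟩) (.leaf ⟨nat_lit 0, nat_lit 12, nat_lit 12, nat_lit 0, nat_lit 0x525cd1c490, nat_lit 0x6152c80543, [], [], []⟩)) (.leaf ⟨nat_lit 1, nat_lit 9, nat_lit 10, nat_lit 0x28c5145ad, nat_lit 0x35a953ca1, nat_lit 0x12d1158de2, [], [], []⟩)) (.node (.leaf ⟨nat_lit 1, nat_lit 9, nat_lit 10, nat_lit 0x16856544162, nat_lit 0x1121906ad6b, nat_lit 0x2438eb745c2, [], [], []⟩) (.leaf ⟨nat_lit 1, nat_lit 10, nat_lit 10, nat_lit 0x8b8ed13e10, nat_lit 0x709c579d8b, nat_lit 0x6bc878b482, [], [], []⟩)))) (.node (.node (.node (.node (.leaf ⟨nat_lit 0, nat_lit 1, nat_lit 1, nat_lit 0, nat_lit 0x8715452d, nat_lit 0x9a989530, [], [], []⟩) (.leaf ⟨nat_lit 1, nat_lit 10, nat_lit 11, nat_lit 0x8062d7c52b, nat_lit 0x44c1aa79c82, nat_lit 0xef2be02, [], [], []⟩)) (.leaf ⟨nat_lit 1, nat_lit 10, nat_lit 10, nat_lit 0x3194c734f0,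 nat_lit 0x4448b5ba27, nat_lit 0x435632306a, [], [], []⟩)) (.node (.node (.leaf ⟨nat_lit 2, nat_lit 0, nat_lit 0, nat_lit 0x20861, nat_lit 0, nat_lit 0, [], [], [nat_lit 0x20f7a141, nat_lit 69667, nat_lit 0x1cd289ea]⟩) (.leaf ⟨nat_lit 1, nat_lit 10, nat_lit 14, nat_lit 0x5bdaa81c6d, nat_lit 0x231e761622, nat_lit 0x2194d83da2, [], [], []⟩)) (.leaf ⟨nat_lit 1, nat_lit 9, nat_lit 10, nat_lit 0x2545f1535a2, nat_lit 0x4396c82da2, nat_lit 0x105d1729ab, [], [], []⟩))) (.node (.node (.node (.leaf ⟨nat_lit 0, nat_lit 1, nat_lit 1, nat_lit 0, nat_lit 0x1a830538c2, nat_lit 0x7bccd431ce, [], [], []⟩) (.leaf ⟨nat_lit 1, nat_lit 10, nat_lit 12, nat_lit 0x26b96e5b0e1, nat_lit 0xa6c5851b141, nat_lit 0x5384d6c583, [], [], []⟩)) (.leaf ⟨nat_lit 1, nat_lit 10, nat_lit 10, nat_lit 0x352490835a1, nat_lit 0x4838af84102, nat_lit 0x8caf2bd23, [], [], []⟩)) (.node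 (.leaf ⟨nat_lit 1, nat_lit 10, nat_lit 10, nat_lit 0x21896f840a2, nat_lit 0x33ccd6ad61, nat_lit 0x3314c79585, [], [], []⟩) (.leaf ⟨nat_lit 1, nat_lit 10, nat_lit 10, nat_lit 0x688de564542, nat_lit 0x81ded8320d, nat_lit 0x5420a319a1, [], [], []⟩))))

noncomputable def F105 : GT Fa := .node (.node (.node (.node (.node (.leaf ⟨nat_lit 0, nat_lit 1, nat_lit 1, nat_lit 0, nat_lit 0x6795c8, nat_lit 0x222414d0, [], [], []⟩) (.leaf ⟨nat_lit 1, nat_lit 10, nat_lit 10, nat_lit 0x97390d8ae21, nat_lit 0x25b4437b181, nat_lit 0x4663e0672942, [], [], []⟩)) (.leaf ⟨nat_lit 1, nat_lit 10, nat_lit 10, nat_lit 0x24430b153a22, nat_lit 0x8998772a2f, nat_lit 0x2505506c4e8, [], [], []⟩)) (.node (.node (.leaf ⟨nat_lit 0, nat_lit 1, nat_lit 1, nat_lit 0, nat_lit 0x3258c83202, nat_lit 0x1def335c5, [], [], []⟩) (.leaf ⟨nat_lit 1, nat_lit 14, nat_lit 10, nat_lit 0x98532608,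 nat_lit 0x1d505096e, nat_lit 0x198a6acab, [], [], []⟩)) (.leaf ⟨nat_lit 1, nat_lit 10, nat_lit 10, nat_lit 0x14bd8983ca2, nat_lit 0xc6226b54c, nat_lit 0x245af6218e, [], [], []⟩))) (.node (.node (.node (.leaf ⟨nat_lit 0, nat_lit 1, nat_lit 1, nat_lit 0, nat_lit 0xca66150d, nat_lit 0x2a1e5714c5, [], [], []⟩) (.leaf ⟨nat_lit 1, nat_lit 12, nat_lit 10, nat_lit 0x22b95179d42, nat_lit 0x121706b5e6, nat_lit 0x26a5ce42d02, [], [], []⟩)) (.leaf ⟨nat_lit 1, nat_lit 10, nat_lit 10, nat_lit 0xb8a9e4689a1, nat_lit 0x1293163de5, nat_lit 0x9d8f8b983, [], [], []⟩)) (.node (.leaf ⟨nat_lit 1, nat_lit 10, nat_lit 9, nat_lit 0x25c54e33541, nat_lit 0x1462c0b609, nat_lit 0x18860d8a5c2, [], [], []⟩) (.leaf ⟨nat_lit 1, nat_lit 10, nat_lit 10, nat_lit 0x16a44d6bc43, nat_lit 0x5c627244e1, nat_lit 0x322c430a2, [], [], []⟩)))) (.node (.node (.node (.node (.leaf ⟨nat_lit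 0, nat_lit 1, nat_lit 1, nat_lit 0, nat_lit 0x239cc891c2, nat_lit 0x135312a605, [], [], []⟩) (.leaf ⟨nat_lit 1, nat_lit 10, nat_lit 11, nat_lit 0x18ad8ad6e, nat_lit 0x44c0ce0c0c1, nat_lit 0x3384d83228, [], [], []⟩)) (.leaf ⟨nat_lit 1, nat_lit 10, nat_lit 9, nat_lit 0x8ba2c630ac, nat_lit 0x120f6c541, nat_lit 0x60d915b8a1, [], [], []⟩)) (.node (.node (.leaf ⟨nat_lit 2, nat_lit 0, nat_lit 0, nat_lit 0x20f7a143, nat_lit 0, nat_lit 0, [], [], [nat_lit 69667, nat_lit 0x1cd289ea, nat_lit 130]⟩) (.leaf ⟨nat_lit 1, nat_lit 10, nat_lit 14, nat_lit 0x1b5e21b0d1, nat_lit 0x32deb6ad28, nat_lit 0x445172def, [], [], []⟩)) (.leaf ⟨nat_lit 1, nat_lit 10, nat_lit 10, nat_lit 0x2ae0751d4a, nat_lit 0x1441ec8b961, nat_lit 0xb2b5d072981, [], [], []⟩))) (.node (.node (.node (.leaf ⟨nat_lit 0, nat_lit 1, nat_lit 1, nat_lit 0, nat_lit 0x89a2a894c2, nat_lit 0x72e247bcc2,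 [], [], []⟩) (.leaf ⟨nat_lit 1, nat_lit 12, nat_lit 11, nat_lit 0x14ae0d7b0a2, nat_lit 0x41b12571201, nat_lit 0xc5ad22628, [], [], []⟩)) (.leaf ⟨nat_lit 1, nat_lit 10, nat_lit 10, nat_lit 0xb88b729c3, nat_lit 0x42a8c56ae02, nat_lit 0x15446c79941, [], [], []⟩)) (.node (.leaf ⟨nat_lit 1, nat_lit 10, nat_lit 10, nat_lit 0x644ae23daa, nat_lit 0x17b5ad89d0e, nat_lit 0x17458f2b5ec, [], [], []⟩) (.leaf ⟨nat_lit 1, nat_lit 10, nat_lit 10, nat_lit 0x2bcb18b222, nat_lit 0x132da959162, nat_lit 0x113d8534542, [], [], []⟩))))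

noncomputable def F106 : GT Fa := .node (.node (.node (.node (.node (.leaf ⟨nat_lit 0, nat_lit 1, nat_lit 1, nat_lit 0, nat_lit 0x310513041, nat_lit 0x9a2299a3, [], [], []⟩) (.leaf ⟨nat_lit 1, nat_lit 9, nat_lit 10, nat_lit 0x8cb83989, nat_lit 0x1171738ce, nat_lit 0x10de953a0a, [], [], []⟩)) (.leaf ⟨nat_lit 1, nat_lit 10, nat_lit 10, nat_lit 0x735cc130f1, nat_lit 0x1840cd1b94f, nat_lit 0x163c2e6bd62, [], [], []⟩)) (.node (.node (.leaf ⟨nat_lit 0, nat_lit 1, nat_lit 1, nat_lit 0, nat_lit 0x299828ba2e, nat_lit 0x1894e691aa, [], [], []⟩) (.leaf ⟨nat_lit 1, nat_lit 14, nat_lit 10, nat_lit 0x6bd2d2a990, nat_lit 0x1415ca64481, nat_lit 0x8868829cd, [], [], []⟩)) (.leaf ⟨nat_lit 1, nat_lit 10, nat_lit 10, nat_lit 0x12a0863d90, nat_lit 0x28b02b98f, nat_lit 0x611e45b84d, [], [], []⟩))) (.node (.node (.node (.leaf ⟨nat_lit 0, nat_lit 1, nat_lit 1,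 nat_lit 0, nat_lit 0x1be077c182, nat_lit 0x1a216bc62, [], [], []⟩) (.leaf ⟨nat_lit 1, nat_lit 10, nat_lit 12, nat_lit 0x879a2e63843, nat_lit 0x45ab81c43, nat_lit 0x316b7adc4, [], [], []⟩)) (.leaf ⟨nat_lit 1, nat_lit 10, nat_lit 10, nat_lit 0x18a0873563, nat_lit 0xf8a94f4b161, nat_lit 0x17a88c89d11, [], [], []⟩)) (.node (.leaf ⟨nat_lit 1, nat_lit 8, nat_lit 10, nat_lit 0x42d816914f, nat_lit 0x4b0ac52622, nat_lit 0x13bd458b621, [], [], []⟩) (.leaf ⟨nat_lit 1, nat_lit 10, nat_lit 10, nat_lit 0x228b22f69542, nat_lit 0x36b86d83122, nat_lit 0x5be084c1a2, [], [], []⟩)))) (.node (.node (.node (.node (.leaf ⟨nat_lit 0, nat_lit 1, nat_lit 1, nat_lit 0, nat_lit 0x1ec73908, nat_lit 0x82e1344d, [], [], []⟩) (.leaf ⟨nat_lit 1, nat_lit 11, nat_lit 9, nat_lit 0xc8c8a931, nat_lit 0x34452f62541, nat_lit 0x808ec8416c, [], [], []⟩)) (.leaf ⟨nat_lit 1, nat_lit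 10, nat_lit 10, nat_lit 0xbde8538ca, nat_lit 0xc821912b1c2, nat_lit 0x2241f133de1, [], [], []⟩)) (.node (.node (.leaf ⟨nat_lit 2, nat_lit 0, nat_lit 0, nat_lit 68, nat_lit 0, nat_lit 0, [], [], [nat_lit 0x1cd289ea, nat_lit 130, nat_lit 0x20f7a141]⟩) (.leaf ⟨nat_lit 1, nat_lit 10, nat_lit 14, nat_lit 0xa325eb7ae01, nat_lit 0x1518911b0a2, nat_lit 0x23b9cc5c541, [], [], []⟩)) (.leaf ⟨nat_lit 1, nat_lit 10, nat_lit 10, nat_lit 0x2bdec42161, nat_lit 0x619d083482, nat_lit 0x183c8e72203, [], [], []⟩))) (.node (.node (.node (.leaf ⟨nat_lit 0, nat_lit 1, nat_lit 1, nat_lit 0, nat_lit 0x219f143e24, nat_lit 0x3e05895c5, [], [], []⟩) (.leaf ⟨nat_lit 1, nat_lit 10, nat_lit 12, nat_lit 0x344901b5ab, nat_lit 0x525ce40deb, nat_lit 0x841cb5b5d1, [], [], []⟩)) (.leaf ⟨nat_lit 1, nat_lit 10, nat_lit 10, nat_lit 0x4408a81551, nat_lit 0x24b9b1519e1, nat_lit 0x33dab631c5,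 [], [], []⟩)) (.node (.leaf ⟨nat_lit 1, nat_lit 7, nat_lit 10, nat_lit 0x57c1d16a161, nat_lit 0x2c1a48a1cc, nat_lit 0x15222c8c58e, [], [], []⟩) (.leaf ⟨nat_lit 1, nat_lit 10, nat_lit 9, nat_lit 0x7418b8b5c3, nat_lit 0x1386c609f0, nat_lit 0x143d4a6c081, [], [], []⟩))))

noncomputable def F107 : GT Fa := .node (.node (.node (.node (.node (.leaf ⟨nat_lit 0, nat_lit 1, nat_lit 1, nat_lit 0, nat_lit 0xbcc150c82, nat_lit 0x110a76c562, [], [], []⟩) (.leaf ⟨nat_lit 1, nat_lit 10, nat_lit 10, nat_lit 0x115ad698eb, nat_lit 0x1238ae6c521, nat_lit 0x83946795c1, [], [], []⟩)) (.leaf ⟨nat_lit 1, nat_lit 10, nat_lit 7, nat_lit 0x85bdb05b501, nat_lit 0x288dcd42e02, nat_lit 0x1689a6628ad, [], [], []⟩)) (.node (.node (.leaf ⟨nat_lit 0, nat_lit 1, nat_lit 1, nat_lit 0, nat_lit 0x19828ba2e, nat_lit 0x27a8ad5a561, [], [], []⟩) (.leaf ⟨nat_lit 1, nat_lit 10, nat_lit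 14, nat_lit 0x8ad6f62481, nat_lit 0x59e31695ab, nat_lit 0x1322b8a561, [], [], []⟩)) (.leaf ⟨nat_lit 1, nat_lit 10, nat_lit 10, nat_lit 0xb4cd5c031, nat_lit 0x441e544622, nat_lit 0xc5512a1ab, [], [], []⟩))) (.node (.node (.node (.leaf ⟨nat_lit 0, nat_lit 1, nat_lit 1, nat_lit 0, nat_lit 0x3adca79969, nat_lit 0xa5ef4b5c3, [], [], []⟩) (.leaf ⟨nat_lit 1, nat_lit 10, nat_lit 12, nat_lit 0x2bdab49150, nat_lit 0x539436bc22, nat_lit 0x9b129d46, [], [], []⟩)) (.leaf ⟨nat_lit 1, nat_lit 10, nat_lit 10, nat_lit 0x41f01b605, nat_lit 0x263daa6a483, nat_lit 0x5adcb89984, [], [], []⟩)) (.node (.leaf ⟨nat_lit 1, nat_lit 9, nat_lit 10, nat_lit 0xa1ea140e2, nat_lit 0xc5ab605b1, nat_lit 0x15f079a09, [], [], []⟩) (.leaf ⟨nat_lit 1, nat_lit 10, nat_lit 10, nat_lit 0x120c73181, nat_lit 0x47414d13d41, nat_lit 0x1891a7738e3, [], [], []⟩)))) (.node (.node (.node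 (.node (.leaf ⟨nat_lit 0, nat_lit 1, nat_lit 1, nat_lit 0, nat_lit 0x8ca7120e, nat_lit 0x5e683d30, [], [], []⟩) (.leaf ⟨nat_lit 1, nat_lit 10, nat_lit 11, nat_lit 0xe1b11149601, nat_lit 0xa1f15a145, nat_lit 0xa18f6bcab, [], [], []⟩)) (.leaf ⟨nat_lit 1, nat_lit 10, nat_lit 10, nat_lit 0x1ad8479d6c, nat_lit 0x1b56d79d45, nat_lit 0x26a9ea2bce6, [], [], []⟩)) (.node (.node (.leaf ⟨nat_lit 2, nat_lit 0, nat_lit 0, nat_lit 0x5c4314d0, nat_lit 0, nat_lit 0, [], [], [nat_lit 130, nat_lit 0x20f7a141, nat_lit 69667]⟩) (.leaf ⟨nat_lit 1, nat_lit 14, nat_lit 10, nat_lit 0x5322d185a1, nat_lit 0x3b2275b462, nat_lit 0x121e44160e, [], [], []⟩)) (.leaf ⟨nat_lit 1, nat_lit 10, nat_lit 10, nat_lit 0x58dea2c1ce, nat_lit 0x4b2065c0ea, nat_lit 0x2196473222, [], [], []⟩))) (.node (.node (.node (.leaf ⟨nat_lit 0, nat_lit 1, nat_lit 1, nat_lit 0, nat_lit 0x16298658562,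 nat_lit 0x304f415c5, [], [], []⟩) (.leaf ⟨nat_lit 1, nat_lit 12, nat_lit 10, nat_lit 0xf2c50d83942, nat_lit 0x1143a0363d62, nat_lit 0xf5856783461, [], [], []⟩)) (.leaf ⟨nat_lit 1, nat_lit 10, nat_lit 10, nat_lit 0xb4ab1b5cc, nat_lit 0x541c28b88b, nat_lit 0x2735ce60c83, [], [], []⟩)) (.node (.leaf ⟨nat_lit 1, nat_lit 10, nat_lit 10, nat_lit 0x163da98c5c2, nat_lit 0x62a0d53e21, nat_lit 0x28b8d043983, [], [], []⟩) (.leaf ⟨nat_lit 1, nat_lit 10, nat_lit 10, nat_lit 0x16adea73949, nat_lit 0x1a5ab241c1, nat_lit 0x281ccd834c7, [], [], []⟩))))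

noncomputable def F108 : GT Fa := .node (.node (.node (.node (.node (.leaf ⟨nat_lit 0, nat_lit 1, nat_lit 1, nat_lit 0, nat_lit 0x41658a1ea, nat_lit 0x3142595a9, [], [], []⟩) (.leaf ⟨nat_lit 1, nat_lit 10, nat_lit 10, nat_lit 0x50a2488dec, nat_lit 0x8c4ee705a2, nat_lit 0x26ac2b5ade1, [], [], []⟩)) (.leaf ⟨nat_lit 1, nat_lit 9, nat_lit 10, nat_lit 0x111cd7210c, nat_lit 0x5adad134e2, nat_lit 0x53db06918f, [], [], []⟩)) (.node (.node (.leaf ⟨nat_lit 0, nat_lit 1, nat_lit 1, nat_lit 0, nat_lit 0x629c97ace2, nat_lit 0x18569064, [], [], []⟩) (.leaf ⟨nat_lit 1, nat_lit 14, nat_lit 10, nat_lit 0x2c52c58982, nat_lit 0xd0e5b1d0, nat_lit 0x52a2679622, [], [], []⟩)) (.leaf ⟨nat_lit 1, nat_lit 9, nat_lit 10, nat_lit 0x8bc6a44441, nat_lit 0x683d6e53e01, nat_lit 0x1398e8906d, [], [], []⟩))) (.node (.node (.node (.leaf ⟨nat_lit 0, nat_lit 1, nat_lit 1,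 nat_lit 0, nat_lit 0x21894150d, nat_lit 0x10d0c2c5cd, [], [], []⟩) (.leaf ⟨nat_lit 1, nat_lit 12, nat_lit 10, nat_lit 0x20d6e43a24, nat_lit 0x4ac9162cab, nat_lit 0x29a2e830c5, [], [], []⟩)) (.leaf ⟨nat_lit 1, nat_lit 9, nat_lit 10, nat_lit 0x1bca483830, nat_lit 0x11621305ada1, nat_lit 0x629903a841, [], [], []⟩)) (.node (.leaf ⟨nat_lit 1, nat_lit 10, nat_lit 8, nat_lit 0x1745e382162, nat_lit 0x809af2ac43, nat_lit 0x140a85acce, [], [], []⟩) (.leaf ⟨nat_lit 1, nat_lit 10, nat_lit 9, nat_lit 0x2b07168d4f, nat_lit 0x65bca183102, nat_lit 0x1119ec63ce2, [], [], []⟩)))) (.node (.node (.node (.node (.leaf ⟨nat_lit 0, nat_lit 1, nat_lit 1, nat_lit 0, nat_lit 0x218261c41, nat_lit 0x18533507, [], [], []⟩) (.leaf ⟨nat_lit 1, nat_lit 11, nat_lit 6, nat_lit 0x121ab33861, nat_lit 0x120e0c72da1, nat_lit 0x18981d66, [], [], []⟩)) (.leaf ⟨nat_lit 1, nat_lit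 10, nat_lit 10, nat_lit 0x225c3729d1, nat_lit 0xc4b1465c1c2, nat_lit 0x6bdb1429e1, [], [], []⟩)) (.node (.node (.leaf ⟨nat_lit 2, nat_lit 0, nat_lit 0, nat_lit 0x20861, nat_lit 0, nat_lit 0, [], [], [nat_lit 0x2b339d1, nat_lit 69667, nat_lit 0x20d1b1ef]⟩) (.leaf ⟨nat_lit 1, nat_lit 10, nat_lit 14, nat_lit 0x518aa13422, nat_lit 0x7282b5a422, nat_lit 0x1398b6960a, [], [], []⟩)) (.leaf ⟨nat_lit 1, nat_lit 10, nat_lit 10, nat_lit 0x21a2573870, nat_lit 0x150f7bdec, nat_lit 0x142e02529e4, [], [], []⟩))) (.node (.node (.node (.leaf ⟨nat_lit 0, nat_lit 1, nat_lit 1, nat_lit 0, nat_lit 0x4bcd07a605, nat_lit 0x3c705c1c9, [], [], []⟩) (.leaf ⟨nat_lit 1, nat_lit 12, nat_lit 10, nat_lit 0x1036442d, nat_lit 0x1440ce68a22, nat_lit 0x189e25719c8, [], [], []⟩)) (.leaf ⟨nat_lit 1, nat_lit 10, nat_lit 10, nat_lit 0x8adaa8b983, nat_lit 0x15856d72dc2, nat_lit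 0x35b1221e2, [], [], []⟩)) (.node (.leaf ⟨nat_lit 1, nat_lit 10, nat_lit 9, nat_lit 0x2b191639c3, nat_lit 0x1322151c62, nat_lit 0x16c1e5835e1, [], [], []⟩) (.leaf ⟨nat_lit 1, nat_lit 9, nat_lit 10, nat_lit 0x628af1c52f, nat_lit 0x88e2a82de5, nat_lit 0x4bc6d695cc, [], [], []⟩))))

noncomputable def F109 : GT Fa := .node (.node (.node (.node (.node (.leaf ⟨nat_lit 0, nat_lit 1, nat_lit 1, nat_lit 0, nat_lit 0x4b04f415c5, nat_lit 0x25e483d6d, [], [], []⟩) (.leaf ⟨nat_lit 1, nat_lit 10, nat_lit 10, nat_lit 0x412a5f18a8e2, nat_lit 0x12d8a71da2, nat_lit 0x7b62d8a185, [], [], []⟩)) (.leaf ⟨nat_lit 1, nat_lit 7, nat_lit 10, nat_lit 0x1dec82c50, nat_lit 0x25352a644a2, nat_lit 0x519858412f, [], [], []⟩)) (.node (.node (.leaf ⟨nat_lit 0, nat_lit 1, nat_lit 1, nat_lit 0, nat_lit 0x304c2b528, nat_lit 0x8a44a163, [], [], []⟩) (.leaf ⟨nat_lit 1, nat_lit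 14, nat_lit 10, nat_lit 0x1ace1629ef, nat_lit 0xab8362b, nat_lit 0x23d915bc64, [], [], []⟩)) (.leaf ⟨nat_lit 1, nat_lit 10, nat_lit 10, nat_lit 0x288a8a8ca, nat_lit 0x223df032de2, nat_lit 0x38ce615c1, [], [], []⟩))) (.node (.node (.node (.leaf ⟨nat_lit 0, nat_lit 1, nat_lit 1, nat_lit 0, nat_lit 0x2b04f83e06, nat_lit 0xd916c5a2, [], [], []⟩) (.leaf ⟨nat_lit 1, nat_lit 10, nat_lit 12, nat_lit 0x26b55162c64, nat_lit 0x16860b8ac61, nat_lit 0x21be2a4b569, [], [], []⟩)) (.leaf ⟨nat_lit 1, nat_lit 10, nat_lit 10, nat_lit 0x8dad8bd11, nat_lit 0x1b570791c7, nat_lit 0x115ec729a1, [], [], []⟩)) (.node (.leaf ⟨nat_lit 1, nat_lit 10, nat_lit 10, nat_lit 0x22ad0f528a2, nat_lit 0x23b5ad5c102, nat_lit 0x27c189531c3, [], [], []⟩) (.leaf ⟨nat_lit 1, nat_lit 10, nat_lit 10, nat_lit 0x11a48d71601, nat_lit 0x4a9892c1b1, nat_lit 0x27b62b72a26, [], [], []⟩))))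 (.node (.node (.node (.node (.leaf ⟨nat_lit 0, nat_lit 1, nat_lit 1, nat_lit 0, nat_lit 0xa88a32ce2, nat_lit 0x1ef685a3, [], [], []⟩) (.leaf ⟨nat_lit 1, nat_lit 9, nat_lit 11, nat_lit 0xb0b89154081, nat_lit 0x36bd6b44181, nat_lit 0x20e2b8ae04, [], [], []⟩)) (.leaf ⟨nat_lit 1, nat_lit 10, nat_lit 10, nat_lit 0x2c1aa7b4d1, nat_lit 0x82db15ac2d, nat_lit 0x452d744eb, [], [], []⟩)) (.node (.node (.leaf ⟨nat_lit 2, nat_lit 0, nat_lit 0, nat_lit 0x223810a2, nat_lit 0, nat_lit 0, [], [], [nat_lit 69667, nat_lit 0x20d1b1ef, nat_lit 130]⟩) (.leaf ⟨nat_lit 1, nat_lit 14, nat_lit 10, nat_lit 0x7b10f41490, nat_lit 0x8bdef1bcc6, nat_lit 0x531eb3c44b, [], [], []⟩)) (.leaf ⟨nat_lit 1, nat_lit 10, nat_lit 10, nat_lit 0x3316d718af, nat_lit 0x23b5c15c4e1, nat_lit 0x1a4cc0b5a4, [], [], []⟩))) (.node (.node (.node (.leaf ⟨nat_lit 0, nat_lit 1, nat_lit 1, nat_lit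 0, nat_lit 0x41648314e, nat_lit 0x129ca338c2, [], [], []⟩) (.leaf ⟨nat_lit 1, nat_lit 10, nat_lit 12, nat_lit 0x68dd12348e, nat_lit 0x4a98e5a501, nat_lit 0x2811d119a25, [], [], []⟩)) (.leaf ⟨nat_lit 1, nat_lit 10, nat_lit 10, nat_lit 0x3341ce6c443, nat_lit 0x15282b7a945, nat_lit 0x111ca4a84f, [], [], []⟩)) (.node (.leaf ⟨nat_lit 1, nat_lit 8, nat_lit 10, nat_lit 0xadc453cc5, nat_lit 0x2328b083061, nat_lit 0x83d0f2458a, [], [], []⟩) (.leaf ⟨nat_lit 1, nat_lit 10, nat_lit 10, nat_lit 0x180604811c2, nat_lit 0x256b6b86e, nat_lit 0x313d8243966, [], [], []⟩))))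

noncomputable def F110 : GT Fa := .node (.node (.node (.node (.node (.leaf ⟨nat_lit 0, nat_lit 1, nat_lit 1, nat_lit 0, nat_lit 0x52168, nat_lit 0x328cb, [], [], []⟩) (.leaf ⟨nat_lit 1, nat_lit 10, nat_lit 10, nat_lit 0x7c14383461, nat_lit 0x22c16f7c181, nat_lit 0x15b163335c3, [], [], []⟩)) (.leaf ⟨nat_lit 1, nat_lit 9, nat_lit 10, nat_lit 0x1a94769dc6, nat_lit 0x25b4ae5b8b0, nat_lit 0x23bc8f64631, [], [], []⟩)) (.node (.node (.leaf ⟨nat_lit 0, nat_lit 1, nat_lit 1, nat_lit 0, nat_lit 0x135f12a98e, nat_lit 0xacce43e24, [], [], []⟩) (.leaf ⟨nat_lit 1, nat_lit 14, nat_lit 9, nat_lit 0xc5c624581, nat_lit 0x9539b00b901, nat_lit 0xa14c83de2, [], [], []⟩)) (.leaf ⟨nat_lit 1, nat_lit 10, nat_lit 10, nat_lit 0x65918c84102, nat_lit 0x27a22f619ea, nat_lit 0x283e2d10608, [], [], []⟩))) (.node (.node (.node (.leaf ⟨nat_lit 0, nat_lit 1, nat_lit 1, nat_lit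 0, nat_lit 0x9615a5, nat_lit 0xc2912b, [], [], []⟩) (.leaf ⟨nat_lit 1, nat_lit 10, nat_lit 12, nat_lit 0x9cb6bccb, nat_lit 0x12d8362601, nat_lit 0xccc8a571, [], [], []⟩)) (.leaf ⟨nat_lit 1, nat_lit 10, nat_lit 10, nat_lit 0x319902416e, nat_lit 0x11e2a7b471, nat_lit 0x99171e23, [], [], []⟩)) (.node (.leaf ⟨nat_lit 1, nat_lit 10, nat_lit 10, nat_lit 0x3314e23d31, nat_lit 0x1ba05824a2, nat_lit 0x1318b73131, [], [], []⟩) (.leaf ⟨nat_lit 1, nat_lit 10, nat_lit 10, nat_lit 0xc82ce168da2, nat_lit 0x16b8ac8a0a1, nat_lit 0x7adc95ade3, [], [], []⟩)))) (.node (.node (.node (.node (.leaf ⟨nat_lit 0, nat_lit 1, nat_lit 1, nat_lit 0, nat_lit 0x7a8cb730e2, nat_lit 0x3ded0b4a3, [], [], []⟩) (.leaf ⟨nat_lit 1, nat_lit 10, nat_lit 11, nat_lit 0x78d898a9ae, nat_lit 0x45462150de1, nat_lit 0x82c7074121, [], [], []⟩)) (.leaf ⟨nat_lit 1, nat_lit 10, nat_lit 10,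 nat_lit 0x632250898b, nat_lit 0x60de71b085, nat_lit 0x1298470d51, [], [], []⟩)) (.node (.node (.leaf ⟨nat_lit 2, nat_lit 0, nat_lit 0, nat_lit 68, nat_lit 0, nat_lit 0, [], [], [nat_lit 0x20d1b1ef, nat_lit 130, nat_lit 0x2b339d1]⟩) (.leaf ⟨nat_lit 1, nat_lit 14, nat_lit 9, nat_lit 0x5539868b101, nat_lit 0x315ae529a4, nat_lit 0x32245a161, [], [], []⟩)) (.leaf ⟨nat_lit 1, nat_lit 10, nat_lit 10, nat_lit 0x2228c628, nat_lit 0x2835cd4b501, nat_lit 0x2529c78b5a1, [], [], []⟩))) (.node (.node (.node (.leaf ⟨nat_lit 0, nat_lit 1, nat_lit 1, nat_lit 0, nat_lit 0x24af2b921, nat_lit 0x22361629, [], [], []⟩) (.leaf ⟨nat_lit 1, nat_lit 11, nat_lit 12, nat_lit 0x2b60e3ac4d, nat_lit 0x6158982dc6, nat_lit 0x33ae2a8b9c1, [], [], []⟩)) (.leaf ⟨nat_lit 1, nat_lit 10, nat_lit 10, nat_lit 0x90f16ad0a, nat_lit 0x25960d52201, nat_lit 0x2725696c0e2, [], [], []⟩))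 (.node (.leaf ⟨nat_lit 1, nat_lit 10, nat_lit 10, nat_lit 0x10a8b60a, nat_lit 0x2a56e735a1, nat_lit 0x6c56b73902, [], [], []⟩) (.leaf ⟨nat_lit 1, nat_lit 10, nat_lit 10, nat_lit 0x3bd486414c, nat_lit 0x3b5f10b4ab, nat_lit 0x48a3b845, [], [], []⟩))))

noncomputable def F111 : GT Fa := .node (.node (.node (.node (.node (.leaf ⟨nat_lit 0, nat_lit 1, nat_lit 1, nat_lit 0, nat_lit 0x31507, nat_lit 0x4446d, [], [], []⟩) (.leaf ⟨nat_lit 1, nat_lit 10, nat_lit 10, nat_lit 0x13890811b1, nat_lit 0x335ea39a2f, nat_lit 0x219ec3314f, [], [], []⟩)) (.leaf ⟨nat_lit 1, nat_lit 10, nat_lit 10, nat_lit 0x145ad544e4, nat_lit 0x2444ab7b170, nat_lit 0x11c20f8bd02, [], [], []⟩)) (.node (.node (.leaf ⟨nat_lit 0, nat_lit 1, nat_lit 1, nat_lit 0, nat_lit 0x7950e134c1, nat_lit 0x1106d83d49, [], [], []⟩) (.leaf ⟨nat_lit 1, nat_lit 10, nat_lit 14, nat_lit 0x141d8e2062c,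 nat_lit 0x1954f6904b, nat_lit 0x1158f834a3, [], [], []⟩)) (.leaf ⟨nat_lit 1, nat_lit 10, nat_lit 10, nat_lit 0x8599a968d41, nat_lit 0x298462501, nat_lit 0x446a5a4829a1, [], [], []⟩))) (.node (.node (.node (.leaf ⟨nat_lit 0, nat_lit 1, nat_lit 1, nat_lit 0, nat_lit 0x8b8e18b982, nat_lit 0x62de5499c4, [], [], []⟩) (.leaf ⟨nat_lit 1, nat_lit 10, nat_lit 12, nat_lit 0x4344f53e0d, nat_lit 0x99042d82, nat_lit 0x5b5a4809a1, [], [], []⟩)) (.leaf ⟨nat_lit 1, nat_lit 10, nat_lit 10, nat_lit 0x118f2ad64, nat_lit 0x399112c8b, nat_lit 0xd6a9e351881, [], [], []⟩)) (.node (.leaf ⟨nat_lit 1, nat_lit 10, nat_lit 9, nat_lit 0x172caf62a01, nat_lit 0x4346f59dc1, nat_lit 0x11e086b545, [], [], []⟩) (.leaf ⟨nat_lit 1, nat_lit 10, nat_lit 10, nat_lit 0x31c7345c4, nat_lit 0x245615b830, nat_lit 0x135455158c, [], [], []⟩)))) (.node (.node (.node (.node (.leaf ⟨nat_lit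 0, nat_lit 1, nat_lit 1, nat_lit 0, nat_lit 0x3cd07a605, nat_lit 0x1e382e0e, [], [], []⟩) (.leaf ⟨nat_lit 1, nat_lit 10, nat_lit 11, nat_lit 0x83de64aa10, nat_lit 0x41618994d, nat_lit 0x88548611c5, [], [], []⟩)) (.leaf ⟨nat_lit 1, nat_lit 10, nat_lit 10, nat_lit 0x43c55041201, nat_lit 0x818ad1ba21, nat_lit 0x18a0c53223, [], [], []⟩)) (.node (.node (.leaf ⟨nat_lit 2, nat_lit 0, nat_lit 0, nat_lit 0x4505411e1, nat_lit 0, nat_lit 0, [], [], [nat_lit 130, nat_lit 0x2b339d1, nat_lit 69667]⟩) (.leaf ⟨nat_lit 1, nat_lit 14, nat_lit 10, nat_lit 0x191a723221, nat_lit 0x3594d05b981, nat_lit 0x567739c9, [], [], []⟩)) (.leaf ⟨nat_lit 1, nat_lit 9, nat_lit 10, nat_lit 0x2444cd7c4e1, nat_lit 0x143e2a32942, nat_lit 0x1808d1610a1, [], [], []⟩))) (.node (.node (.node (.leaf ⟨nat_lit 0, nat_lit 1, nat_lit 1, nat_lit 0, nat_lit 0x3e063c5c1, nat_lit 0x16282ba2e,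 [], [], []⟩) (.leaf ⟨nat_lit 1, nat_lit 12, nat_lit 10, nat_lit 0xb2acca74542, nat_lit 0x344b8ada2, nat_lit 0x18116f82d8a, [], [], []⟩)) (.leaf ⟨nat_lit 1, nat_lit 10, nat_lit 10, nat_lit 0x4bcd17be03, nat_lit 0xf3b1ec8b561, nat_lit 0x7bda3339a6, [], [], []⟩)) (.node (.leaf ⟨nat_lit 1, nat_lit 10, nat_lit 9, nat_lit 0xa0c2860d, nat_lit 0x245885ad84, nat_lit 0x22153083141, [], [], []⟩) (.leaf ⟨nat_lit 1, nat_lit 10, nat_lit 10, nat_lit 0x1395069e01, nat_lit 0x282a0a89161, nat_lit 0x234590329e1, [], [], []⟩))))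

noncomputable def F112 : GT Fa := .node (.node (.node (.node (.node (.leaf ⟨nat_lit 0, nat_lit 1, nat_lit 1, nat_lit 0, nat_lit 0x4183c50, nat_lit 0x329064, [], [], []⟩) (.leaf ⟨nat_lit 1, nat_lit 10, nat_lit 10, nat_lit 0x505a8819ab, nat_lit 0x2a141b0815e1, nat_lit 0x89d4f6150f, [], [], []⟩)) (.leaf ⟨nat_lit 1, nat_lit 10, nat_lit 10, nat_lit 0xd8b064645a1, nat_lit 0xc59a02840c1, nat_lit 0x545e860610, [], [], []⟩)) (.node (.node (.leaf ⟨nat_lit 1, nat_lit 1, nat_lit 6, nat_lit 4, nat_lit 0, nat_lit 0, [], [], []⟩) (.leaf ⟨nat_lit 1, nat_lit 14, nat_lit 10, nat_lit 0x25c49069482, nat_lit 0x9f18a585, nat_lit 0xac8e61509, [], [], []⟩)) (.leaf ⟨nat_lit 1, nat_lit 10, nat_lit 10, nat_lit 0x2715cc3bd81, nat_lit 0xc141c56c102, nat_lit 0x31410d541a8, [], [], []⟩))) (.node (.node (.node (.leaf ⟨nat_lit 0, nat_lit 1, nat_lit 1, nat_lit 0, nat_lit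 0x5b90a329c1, nat_lit 0x25f078ca2, [], [], []⟩) (.leaf ⟨nat_lit 1, nat_lit 12, nat_lit 10, nat_lit 0x89071dab, nat_lit 0x24318551581, nat_lit 0x1360372c71, [], [], []⟩)) (.leaf ⟨nat_lit 1, nat_lit 10, nat_lit 10, nat_lit 0x6a18f538c1, nat_lit 0x580e0a689e2, nat_lit 0x21b5ea61cc6, [], [], []⟩)) (.node (.leaf ⟨nat_lit 1, nat_lit 9, nat_lit 10, nat_lit 0xb744f189141, nat_lit 0x11214f6b4e4, nat_lit 0x43e02515c5, [], [], []⟩) (.leaf ⟨nat_lit 1, nat_lit 10, nat_lit 10, nat_lit 0x47c58e891c2, nat_lit 0x63c8f518e1, nat_lit 0x25288f69202, [], [], []⟩)))) (.node (.node (.node (.node (.leaf ⟨nat_lit 0, nat_lit 1, nat_lit 1, nat_lit 0, nat_lit 0x7920f5b4e1, nat_lit 0x3c705860e, [], [], []⟩) (.leaf ⟨nat_lit 1, nat_lit 10, nat_lit 11, nat_lit 0x1b18c815a6, nat_lit 0x85c1b11bd22, nat_lit 0x121f18a88c, [], [], []⟩)) (.leaf ⟨nat_lit 1, nat_lit 10, nat_lit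 9, nat_lit 0x2d67644ef, nat_lit 0x8828b071cc1, nat_lit 0xb5c522ce3, [], [], []⟩)) (.node (.node (.leaf ⟨nat_lit 1, nat_lit 8, nat_lit 8, nat_lit 0x62e495ea, nat_lit 0x199e382ccb, nat_lit 0x2c8e23c8a, [], [], []⟩) (.leaf ⟨nat_lit 1, nat_lit 14, nat_lit 14, nat_lit 0x5a62d4844c, nat_lit 0x43130089e5, nat_lit 0x26462c0c50a, [], [], []⟩)) (.leaf ⟨nat_lit 1, nat_lit 10, nat_lit 10, nat_lit 0xf1ad6b23622, nat_lit 0x742c6f8bde2, nat_lit 0x8b8911146e, [], [], []⟩))) (.node (.node (.node (.leaf ⟨nat_lit 0, nat_lit 1, nat_lit 1, nat_lit 0, nat_lit 0x2a0b62a28, nat_lit 0x4423639c8, [], [], []⟩) (.leaf ⟨nat_lit 1, nat_lit 12, nat_lit 10, nat_lit 0x1250e731f1, nat_lit 0x7791506be22, nat_lit 0x11448f7bce4, [], [], []⟩)) (.leaf ⟨nat_lit 1, nat_lit 10, nat_lit 10, nat_lit 0x11322e53167, nat_lit 0x241ca538eb, nat_lit 0x102adae1b162, [], [], []⟩)) (.node (.leaf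 ⟨nat_lit 1, nat_lit 8, nat_lit 10, nat_lit 0x12ac6e71221, nat_lit 0x17ad6c1b9c2, nat_lit 0x2731e66c1a2, [], [], []⟩) (.leaf ⟨nat_lit 1, nat_lit 10, nat_lit 10, nat_lit 0x12df152923, nat_lit 0x35154d32c41, nat_lit 0x954e3c626, [], [], []⟩))))

noncomputable def F113 : GT Fa := .node (.node (.node (.node (.node (.leaf ⟨nat_lit 0, nat_lit 1, nat_lit 1, nat_lit 0, nat_lit 0xcf2b903, nat_lit 0x26795c8, [], [], []⟩) (.leaf ⟨nat_lit 1, nat_lit 10, nat_lit 10, nat_lit 0x6bde81b5a1, nat_lit 0x11d9142d90, nat_lit 0x42571735a5, [], [], []⟩)) (.leaf ⟨nat_lit 1, nat_lit 10, nat_lit 10, nat_lit 0x1841d148541, nat_lit 0x12920f644e2, nat_lit 0x89666b5ec, [], [], []⟩)) (.node (.node (.leaf ⟨nat_lit 0, nat_lit 6, nat_lit 6, nat_lit 0, nat_lit 0x19f02302a, nat_lit 0x221335f0, [], [], []⟩) (.leaf ⟨nat_lit 1, nat_lit 14, nat_lit 10, nat_lit 0x891eb694c1, nat_lit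 0x22d7071c22, nat_lit 0x5bd8f1a1e6, [], [], []⟩)) (.leaf ⟨nat_lit 1, nat_lit 10, nat_lit 10, nat_lit 0x3ac6d79221, nat_lit 0x1a14772e0b, nat_lit 0xc5cd808a3, [], [], []⟩))) (.node (.node (.node (.leaf ⟨nat_lit 0, nat_lit 1, nat_lit 1, nat_lit 0, nat_lit 0x78e0b34022, nat_lit 0x14449835f0, [], [], []⟩) (.leaf ⟨nat_lit 1, nat_lit 10, nat_lit 12, nat_lit 0x191ed3a94e, nat_lit 0x539a87314e, nat_lit 0x269dca0be2e, [], [], []⟩)) (.leaf ⟨nat_lit 1, nat_lit 10, nat_lit 10, nat_lit 0x529ec1c5a1, nat_lit 0x1439ca3b4ab, nat_lit 0x4b190231e1, [], [], []⟩)) (.node (.leaf ⟨nat_lit 1, nat_lit 10, nat_lit 10, nat_lit 0x13ced81883, nat_lit 0x7b48d2ad82, nat_lit 0x8b8cf1b122, [], [], []⟩) (.leaf ⟨nat_lit 1, nat_lit 10, nat_lit 10, nat_lit 0x2cad3b98a, nat_lit 0x36c59143d81, nat_lit 0x6254c79041, [], [], []⟩)))) (.node (.node (.node (.node (.leaf ⟨nat_lit 0,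 nat_lit 1, nat_lit 1, nat_lit 0, nat_lit 0x3c6c81c30, nat_lit 0x442c80609, [], [], []⟩) (.leaf ⟨nat_lit 1, nat_lit 9, nat_lit 11, nat_lit 0xe6b90e838e1, nat_lit 0x621ea73a07, nat_lit 0x7a94e5b9c2, [], [], []⟩)) (.leaf ⟨nat_lit 1, nat_lit 10, nat_lit 9, nat_lit 0x439815c090, nat_lit 0x2735ec38581, nat_lit 0x14c4af518a3, [], [], []⟩)) (.node (.node (.leaf ⟨nat_lit 1, nat_lit 1, nat_lit 9, nat_lit 10, nat_lit 0, nat_lit 0, [], [], []⟩) (.leaf ⟨nat_lit 1, nat_lit 14, nat_lit 9, nat_lit 0xb52480441, nat_lit 0x31298b64082, nat_lit 0x44ae23cca, [], [], []⟩)) (.leaf ⟨nat_lit 1, nat_lit 9, nat_lit 10, nat_lit 0x1b0f072a2a, nat_lit 0x218c241e5, nat_lit 0xb1ed1a908, [], [], []⟩))) (.node (.node (.node (.leaf ⟨nat_lit 0, nat_lit 1, nat_lit 1, nat_lit 0, nat_lit 0x1f078862, nat_lit 0x1e66392e, [], [], []⟩) (.leaf ⟨nat_lit 1, nat_lit 12, nat_lit 10, nat_lit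 0x23d8e8382b, nat_lit 0x646276b461, nat_lit 0x316d7c0aa, [], [], []⟩)) (.leaf ⟨nat_lit 1, nat_lit 10, nat_lit 10, nat_lit 0x8918283967, nat_lit 0x6345836c082, nat_lit 0x68bd697c4a2, [], [], []⟩)) (.node (.leaf ⟨nat_lit 1, nat_lit 9, nat_lit 10, nat_lit 0x1b16413183, nat_lit 0x1c1d07c1c1, nat_lit 0x8c5707a16b, [], [], []⟩) (.leaf ⟨nat_lit 1, nat_lit 10, nat_lit 10, nat_lit 0x156f7c148, nat_lit 0x16be0b7c101, nat_lit 0x2644c68a86e, [], [], []⟩))))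

noncomputable def F114 : GT Fa := .node (.node (.node (.node (.node (.leaf ⟨nat_lit 0, nat_lit 1, nat_lit 1, nat_lit 0, nat_lit 0x310510d82, nat_lit 0x4d114cd, [], [], []⟩) (.leaf ⟨nat_lit 1, nat_lit 10, nat_lit 10, nat_lit 0x429ad0b941, nat_lit 0x5656a50b, nat_lit 0x10deb435c2, [], [], []⟩)) (.leaf ⟨nat_lit 1, nat_lit 10, nat_lit 10, nat_lit 0x8c5042be2d, nat_lit 0x7bd8e71a02, nat_lit 0x4b20c89185, [], [], []⟩)) (.node (.node (.leaf ⟨nat_lit 0, nat_lit 6, nat_lit 6, nat_lit 0, nat_lit 0x25f07c0c6, nat_lit 0x61d858a182, [], [], []⟩) (.leaf ⟨nat_lit 1, nat_lit 10, nat_lit 14, nat_lit 0x122315bd6f, nat_lit 0x7106e69471, nat_lit 0x1145eb84205, [], [], []⟩)) (.leaf ⟨nat_lit 1, nat_lit 10, nat_lit 10, nat_lit 0x4387053462, nat_lit 0x691f12b551, nat_lit 0x1719b0529e1, [], [], []⟩))) (.node (.node (.node (.leaf ⟨nat_lit 0, nat_lit 1, nat_lit 1,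 nat_lit 0, nat_lit 0x26287062e, nat_lit 0xb0ad795c5, [], [], []⟩) (.leaf ⟨nat_lit 1, nat_lit 12, nat_lit 10, nat_lit 0x1918960a31, nat_lit 0xc08c82a24, nat_lit 0x2316d82941, [], [], []⟩)) (.leaf ⟨nat_lit 1, nat_lit 10, nat_lit 10, nat_lit 0x916e22dc4, nat_lit 0x1735cd81565, nat_lit 0xd82cea62921, [], [], []⟩)) (.node (.leaf ⟨nat_lit 1, nat_lit 10, nat_lit 9, nat_lit 0x141aa61cae, nat_lit 0x7a4712c542, nat_lit 0x9a933e08, [], [], []⟩) (.leaf ⟨nat_lit 1, nat_lit 9, nat_lit 10, nat_lit 0x12288a73443, nat_lit 0x7c08d6ad0b, nat_lit 0x22a9e68c4e1, [], [], []⟩)))) (.node (.node (.node (.node (.leaf ⟨nat_lit 0, nat_lit 1, nat_lit 1, nat_lit 0, nat_lit 0x3ca66390e, nat_lit 0x885900c125, [], [], []⟩) (.leaf ⟨nat_lit 1, nat_lit 11, nat_lit 9, nat_lit 0x11a91b9c7, nat_lit 0x145504ae03, nat_lit 0x5362f63e26, [], [], []⟩)) (.leaf ⟨nat_lit 1, nat_lit 10,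 nat_lit 10, nat_lit 0x841ec53202, nat_lit 0x325ab435e5, nat_lit 0x2753dea53944, [], [], []⟩)) (.node (.node (.leaf ⟨nat_lit 0, nat_lit 9, nat_lit 9, nat_lit 0, nat_lit 0x68d85, nat_lit 0xbd3150628, [], [], []⟩) (.leaf ⟨nat_lit 1, nat_lit 7, nat_lit 14, nat_lit 0x2bd2523083, nat_lit 0x4bd8b640e2, nat_lit 0x12d6c1b5e2, [], [], []⟩)) (.leaf ⟨nat_lit 1, nat_lit 10, nat_lit 10, nat_lit 0x1b4c90c08f, nat_lit 0xb6218572181, nat_lit 0x731cc58e2c, [], [], []⟩))) (.node (.node (.node (.leaf ⟨nat_lit 0, nat_lit 1, nat_lit 1, nat_lit 0, nat_lit 0x7c1e534121, nat_lit 0x12890640c2, [], [], []⟩) (.leaf ⟨nat_lit 1, nat_lit 12, nat_lit 10, nat_lit 0x68b18189582, nat_lit 0x6c4eb189a5, nat_lit 0x641a18a22c, [], [], []⟩)) (.leaf ⟨nat_lit 1, nat_lit 10, nat_lit 10, nat_lit 0x954161715e1, nat_lit 0x240d178986, nat_lit 0x785cb235a3, [], [], []⟩)) (.node (.leaf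 ⟨nat_lit 1, nat_lit 7, nat_lit 10, nat_lit 0x4891e48b602, nat_lit 0x28a14d52222, nat_lit 0x5304c6210e, [], [], []⟩) (.leaf ⟨nat_lit 1, nat_lit 10, nat_lit 10, nat_lit 0xd3c14a79c62, nat_lit 0x48a5cd5ad01, nat_lit 0x410e80c8a, [], [], []⟩))))

noncomputable def F115 : GT Fa := .node (.node (.node (.node (.node (.leaf ⟨nat_lit 0, nat_lit 1, nat_lit 1, nat_lit 0, nat_lit 0x120a380d82, nat_lit 0x9a2299a9, [], [], []⟩) (.leaf ⟨nat_lit 1, nat_lit 10, nat_lit 10, nat_lit 0x334cd49022, nat_lit 0x4402d23d2d, nat_lit 0x4ada35c589, [], [], []⟩)) (.leaf ⟨nat_lit 1, nat_lit 10, nat_lit 10, nat_lit 0x117b54c63c82, nat_lit 0xd1396972de2, nat_lit 0x93314c52881, [], [], []⟩)) (.node (.node (.leaf ⟨nat_lit 0, nat_lit 6, nat_lit 6, nat_lit 0, nat_lit 0x989135a3, nat_lit 0x9a253c182, [], [], []⟩) (.leaf ⟨nat_lit 1, nat_lit 10, nat_lit 14, nat_lit 0x1bc6e728a2,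 nat_lit 0x8a5630b0a1, nat_lit 0x614ed68de4, [], [], []⟩)) (.leaf ⟨nat_lit 1, nat_lit 10, nat_lit 10, nat_lit 0xc810b033441, nat_lit 0x1145416aa31, nat_lit 0xb20b7ad03, [], [], []⟩))) (.node (.node (.node (.leaf ⟨nat_lit 0, nat_lit 1, nat_lit 1, nat_lit 0, nat_lit 0x288a32ce2, nat_lit 0x6f7b42d, [], [], []⟩) (.leaf ⟨nat_lit 1, nat_lit 12, nat_lit 10, nat_lit 0xa42e0e70541, nat_lit 0xf241ce81de2, nat_lit 0x184210444a2, [], [], []⟩)) (.leaf ⟨nat_lit 1, nat_lit 10, nat_lit 9, nat_lit 0x116ad0e491a2, nat_lit 0x888918bc6c, nat_lit 0x123deb69570, [], [], []⟩)) (.node (.leaf ⟨nat_lit 1, nat_lit 10, nat_lit 10, nat_lit 0x450564182, nat_lit 0x1230ad819c1, nat_lit 0xa9c953922, [], [], []⟩) (.leaf ⟨nat_lit 1, nat_lit 9, nat_lit 10, nat_lit 0x7290f2b170, nat_lit 0x2344cc83470, nat_lit 0x12397010c8b, [], [], []⟩)))) (.node (.node (.node (.node (.leaf ⟨nat_lit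 0, nat_lit 1, nat_lit 1, nat_lit 0, nat_lit 0x14c5c78b982, nat_lit 0x9def3b5c8, [], [], []⟩) (.leaf ⟨nat_lit 1, nat_lit 11, nat_lit 10, nat_lit 0x322c338ee, nat_lit 0xad86811ea, nat_lit 0x3b9ab0ba27, [], [], []⟩)) (.leaf ⟨nat_lit 1, nat_lit 10, nat_lit 10, nat_lit 0x218b639a5, nat_lit 0x5410e5ade2, nat_lit 0x1315f072a21, [], [], []⟩)) (.node (.node (.leaf ⟨nat_lit 0, nat_lit 9, nat_lit 9, nat_lit 0, nat_lit 0x4370830, nat_lit 0x4c0b0689a1, [], [], []⟩) (.leaf ⟨nat_lit 1, nat_lit 10, nat_lit 14, nat_lit 0x23905441ed, nat_lit 0x6395122d01, nat_lit 0x1bcea81dae, [], [], []⟩)) (.leaf ⟨nat_lit 1, nat_lit 10, nat_lit 10, nat_lit 0x47a0a383e21, nat_lit 0x17418163081, nat_lit 0x645ce83a21, [], [], []⟩))) (.node (.node (.node (.leaf ⟨nat_lit 0, nat_lit 1, nat_lit 1, nat_lit 0, nat_lit 0x345c5345c5, nat_lit 0x345c5345c5, [], [], []⟩) (.leaf ⟨nat_lit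 1, nat_lit 11, nat_lit 12, nat_lit 0x579dae2b962, nat_lit 0x6c02d82cb1, nat_lit 0x539517b12c, [], [], []⟩)) (.leaf ⟨nat_lit 1, nat_lit 10, nat_lit 10, nat_lit 0x111582828c1, nat_lit 0x19e104b521, nat_lit 0x114454f8b0e3, [], [], []⟩)) (.node (.leaf ⟨nat_lit 1, nat_lit 8, nat_lit 10, nat_lit 0x5b5af534e5, nat_lit 0x35ba26529c1, nat_lit 0x7b18f1918b, [], [], []⟩) (.leaf ⟨nat_lit 1, nat_lit 10, nat_lit 10, nat_lit 0x1ba2a6ada8, nat_lit 0x60dae72163, nat_lit 0x17b5b16c561, [], [], []⟩))))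

noncomputable def F116 : GT Fa := .node (.node (.node (.node (.node (.leaf ⟨nat_lit 0, nat_lit 1, nat_lit 1, nat_lit 0, nat_lit 0x10625531c6, nat_lit 0x29cd4bd48, [], [], []⟩) (.leaf ⟨nat_lit 1, nat_lit 10, nat_lit 10, nat_lit 0x2dcb0b62a, nat_lit 0x13a0a34121, nat_lit 0x4f6b60880962, [], [], []⟩)) (.leaf ⟨nat_lit 1, nat_lit 10, nat_lit 9, nat_lit 0x1b563711ec, nat_lit 0xe3be1042da1, nat_lit 0x22aa2132944, [], [], []⟩)) (.node (.node (.leaf ⟨nat_lit 0, nat_lit 6, nat_lit 6, nat_lit 0, nat_lit 9, nat_lit 7, [], [], []⟩) (.leaf ⟨nat_lit 1, nat_lit 14, nat_lit 10, nat_lit 0x54b90b8ae02, nat_lit 0x1b90e14549, nat_lit 0x7c0b071e06, [], [], []⟩)) (.leaf ⟨nat_lit 1, nat_lit 10, nat_lit 10, nat_lit 0xb8ae3344d, nat_lit 0x398f7ad68, nat_lit 0x348c23d4a, [], [], []⟩))) (.node (.node (.node (.leaf ⟨nat_lit 0, nat_lit 1, nat_lit 1, nat_lit 0, nat_lit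 0x3cf11b422, nat_lit 0x3d0c738a3, [], [], []⟩) (.leaf ⟨nat_lit 1, nat_lit 12, nat_lit 10, nat_lit 0x3155059d61, nat_lit 0x174110629eb, nat_lit 0x44a770a23, [], [], []⟩)) (.leaf ⟨nat_lit 1, nat_lit 9, nat_lit 10, nat_lit 0x2caf8b050, nat_lit 0x2b94c4ae2b, nat_lit 0x44621d16b9c2, [], [], []⟩)) (.node (.leaf ⟨nat_lit 1, nat_lit 10, nat_lit 10, nat_lit 0x2b8aa819c3, nat_lit 0x2bd8f20da6, nat_lit 0xd824c54c, [], [], []⟩) (.leaf ⟨nat_lit 1, nat_lit 10, nat_lit 10, nat_lit 0x1a1892adef, nat_lit 0x8416c3198a, nat_lit 0x1e0e2b461, [], [], []⟩)))) (.node (.node (.node (.node (.leaf ⟨nat_lit 0, nat_lit 1, nat_lit 1, nat_lit 0, nat_lit 0x3320b34062, nat_lit 0x3bcaf335c7, [], [], []⟩) (.leaf ⟨nat_lit 1, nat_lit 11, nat_lit 7, nat_lit 0xbe0484128, nat_lit 0x111b1910aca1, nat_lit 0x31c771064, [], [], []⟩)) (.leaf ⟨nat_lit 1, nat_lit 10, nat_lit 8, nat_lit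 0x2a6257a943, nat_lit 0x11216d70d82, nat_lit 0x7110f64581, [], [], []⟩)) (.node (.node (.leaf ⟨nat_lit 0, nat_lit 9, nat_lit 9, nat_lit 0, nat_lit 0xb174422, nat_lit 0x3d2a42e06, [], [], []⟩) (.leaf ⟨nat_lit 1, nat_lit 14, nat_lit 10, nat_lit 0x222dca7b521, nat_lit 0xf3420f1c541, nat_lit 0x8b967711ad, [], [], []⟩)) (.leaf ⟨nat_lit 1, nat_lit 10, nat_lit 10, nat_lit 0x2241ad0adc2, nat_lit 0x627c2065b5c1, nat_lit 0x4b8394f518a1, [], [], []⟩))) (.node (.node (.node (.leaf ⟨nat_lit 0, nat_lit 1, nat_lit 1, nat_lit 0, nat_lit 0x82594c3, nat_lit 0x1ef6a0ee, [], [], []⟩) (.leaf ⟨nat_lit 1, nat_lit 10, nat_lit 12, nat_lit 0x11474462b, nat_lit 0x689304b4d1, nat_lit 0x1918b69162, [], [], []⟩)) (.leaf ⟨nat_lit 1, nat_lit 10, nat_lit 10, nat_lit 0x243dec12d67, nat_lit 0x91a67c622, nat_lit 0x2446d6b4ed, [], [], []⟩)) (.node (.leaf ⟨nat_lit 1, nat_lit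 9, nat_lit 10, nat_lit 0x17a604525a2, nat_lit 0x1a5ab0882c, nat_lit 0x163d0b83965, [], [], []⟩) (.leaf ⟨nat_lit 1, nat_lit 10, nat_lit 10, nat_lit 0x15920a535c2, nat_lit 0x1192a88581, nat_lit 0x268c4a53943, [], [], []⟩))))

noncomputable def F117 : GT Fa := .node (.node (.node (.node (.node (.leaf ⟨nat_lit 0, nat_lit 1, nat_lit 1, nat_lit 0, nat_lit 0x1c4ae8a422, nat_lit 0x12e28585c4, [], [], []⟩) (.leaf ⟨nat_lit 1, nat_lit 10, nat_lit 10, nat_lit 0x53c6263e02, nat_lit 0x1116e63041, nat_lit 0x27c5b162d0a, [], [], []⟩)) (.leaf ⟨nat_lit 1, nat_lit 10, nat_lit 10, nat_lit 0xa98f60dce, nat_lit 0x521c6711e2, nat_lit 0x39c76ae27, [], [], []⟩)) (.node (.node (.leaf ⟨nat_lit 0, nat_lit 6, nat_lit 6, nat_lit 0, nat_lit 0x19a2534182, nat_lit 0x414152e, [], [], []⟩) (.leaf ⟨nat_lit 1, nat_lit 10, nat_lit 14, nat_lit 0xa316c570, nat_lit 0x1785c554542,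 nat_lit 0x53de478dcb, [], [], []⟩)) (.leaf ⟨nat_lit 1, nat_lit 10, nat_lit 10, nat_lit 0x28a183cca, nat_lit 0x161c4d83181, nat_lit 0x12b8887416c, [], [], []⟩))) (.node (.node (.node (.leaf ⟨nat_lit 0, nat_lit 1, nat_lit 1, nat_lit 0, nat_lit 0x1c1658a1ea, nat_lit 0xa9cd4bd48, [], [], []⟩) (.leaf ⟨nat_lit 0, nat_lit 12, nat_lit 12, nat_lit 0, nat_lit 0x56d7308c, nat_lit 0x2306b838ab, [], [], []⟩)) (.leaf ⟨nat_lit 1, nat_lit 10, nat_lit 10, nat_lit 0x9609eb644a1, nat_lit 0x258462a09, nat_lit 0x11b10c63943, [], [], []⟩)) (.node (.leaf ⟨nat_lit 1, nat_lit 10, nat_lit 8, nat_lit 0x9a2a42ca1, nat_lit 0xf3bd445ada2, nat_lit 0x11551225a4, [], [], []⟩) (.leaf ⟨nat_lit 1, nat_lit 10, nat_lit 10, nat_lit 0xb3b19151502, nat_lit 0x1d11741a2, nat_lit 0x791af1b22d, [], [], []⟩)))) (.node (.node (.node (.node (.leaf ⟨nat_lit 0, nat_lit 1, nat_lit 1, nat_lit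 0, nat_lit 0x5795c9, nat_lit 0x311b0b1, [], [], []⟩) (.leaf ⟨nat_lit 1, nat_lit 10, nat_lit 11, nat_lit 0x15041e25, nat_lit 0x6458c88571, nat_lit 0x2322b63ceb, [], [], []⟩)) (.leaf ⟨nat_lit 1, nat_lit 10, nat_lit 10, nat_lit 0x2a429ec31982, nat_lit 0x7b54d738ab, nat_lit 0x15b22b4388e, [], [], []⟩)) (.node (.node (.leaf ⟨nat_lit 1, nat_lit 8, nat_lit 9, nat_lit 0x11ec8be02, nat_lit 0x32d8f639a2, nat_lit 0x14446d, [], [], []⟩) (.leaf ⟨nat_lit 1, nat_lit 10, nat_lit 14, nat_lit 0x6b9c9805d1, nat_lit 0x10534b0731e2, nat_lit 0x6c6225162b, [], [], []⟩)) (.leaf ⟨nat_lit 1, nat_lit 10, nat_lit 10, nat_lit 0x628ae535c2, nat_lit 0x110f05b064, nat_lit 0x1950d5b8c6, [], [], []⟩))) (.node (.node (.node (.leaf ⟨nat_lit 0, nat_lit 1, nat_lit 1, nat_lit 0, nat_lit 0x2050b8a2, nat_lit 0x5ef6a0ee, [], [], []⟩) (.leaf ⟨nat_lit 1, nat_lit 10, nat_lit 12, nat_lit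 0x21994e721c2, nat_lit 0x5adca825a5, nat_lit 0x4d32cb1641c1, [], [], []⟩)) (.leaf ⟨nat_lit 1, nat_lit 10, nat_lit 9, nat_lit 0x2b9460b0a8, nat_lit 0x229e513141, nat_lit 0x799e8639a5, [], [], []⟩)) (.node (.leaf ⟨nat_lit 1, nat_lit 10, nat_lit 10, nat_lit 0x3e2c490af, nat_lit 0x7acb051627, nat_lit 0x1895d1215e1, [], [], []⟩) (.leaf ⟨nat_lit 1, nat_lit 9, nat_lit 10, nat_lit 0x14bcac62102, nat_lit 0x3529a654482, nat_lit 0x35cb6ac2c, [], [], []⟩))))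

noncomputable def F118 : GT Fa := .node (.node (.node (.node (.node (.leaf ⟨nat_lit 0, nat_lit 1, nat_lit 1, nat_lit 0, nat_lit 0xb1eb79d62, nat_lit 0x43d8e71cc3, [], [], []⟩) (.leaf ⟨nat_lit 1, nat_lit 10, nat_lit 9, nat_lit 0x85404363de1, nat_lit 0x35c56184062, nat_lit 0x1a94f54508, [], [], []⟩)) (.leaf ⟨nat_lit 1, nat_lit 10, nat_lit 10, nat_lit 0x2739b16c4e2, nat_lit 0x21b5504b942, nat_lit 0x18aa2f840ac, [], [], []⟩)) (.node (.node (.leaf ⟨nat_lit 0, nat_lit 0, nat_lit 0, nat_lit 0, nat_lit 0x329b02b5a4, nat_lit 0x231858b168, [], [], []⟩) (.leaf ⟨nat_lit 1, nat_lit 9, nat_lit 14, nat_lit 0x2609ae6be04, nat_lit 0x1aa2d12ced, nat_lit 0x2b3a9ec72a21, [], [], []⟩)) (.leaf ⟨nat_lit 1, nat_lit 10, nat_lit 10, nat_lit 0x22b5ab13c22, nat_lit 0x13adad23c82, nat_lit 0x4b608839a6, [], [], []⟩))) (.node (.node (.node (.leaf ⟨nat_lit 0, nat_lit 1,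 nat_lit 1, nat_lit 0, nat_lit 0x895c18a422, nat_lit 0x25c50b0b881, [], [], []⟩) (.leaf ⟨nat_lit 1, nat_lit 12, nat_lit 10, nat_lit 0x35b4718be01, nat_lit 0x63caf8bc4f, nat_lit 0x605aa53d83, [], [], []⟩)) (.leaf ⟨nat_lit 1, nat_lit 10, nat_lit 10, nat_lit 0x3c31689b0, nat_lit 0x107c5ae41541, nat_lit 0x4f88ccc7a921, [], [], []⟩)) (.node (.leaf ⟨nat_lit 1, nat_lit 9, nat_lit 10, nat_lit 0x5c5438a5a1, nat_lit 0x2341b07a4a2, nat_lit 0x54e690a7, [], [], []⟩) (.leaf ⟨nat_lit 1, nat_lit 10, nat_lit 10, nat_lit 0x57b20b83de2, nat_lit 0xaa2d3aa28, nat_lit 0xb745eb33061, [], [], []⟩)))) (.node (.node (.node (.node (.leaf ⟨nat_lit 0, nat_lit 1, nat_lit 1, nat_lit 0, nat_lit 0x12c5c78b982, nat_lit 0x30aa12da9, [], [], []⟩) (.leaf ⟨nat_lit 1, nat_lit 11, nat_lit 10, nat_lit 0x12e2b28862, nat_lit 0x462862a27, nat_lit 0xa2e2b8a9, [], [], []⟩)) (.leaf ⟨nat_lit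 1, nat_lit 10, nat_lit 10, nat_lit 0x2a8ce8b56c, nat_lit 0x1125cc82161, nat_lit 0x26a10e54561, [], [], []⟩)) (.node (.node (.leaf ⟨nat_lit 1, nat_lit 7, nat_lit 9, nat_lit 0x136254382c, nat_lit 0x11ef40c82, nat_lit 0x2195d162c41, [], [], []⟩) (.leaf ⟨nat_lit 1, nat_lit 9, nat_lit 14, nat_lit 0x272d675c481, nat_lit 0x115042085, nat_lit 0xb561695ec, [], [], []⟩)) (.leaf ⟨nat_lit 1, nat_lit 10, nat_lit 10, nat_lit 0x5b9703898b, nat_lit 0x64be2314581, nat_lit 0x7a62d8a9a4, [], [], []⟩))) (.node (.node (.node (.leaf ⟨nat_lit 0, nat_lit 1, nat_lit 1, nat_lit 0, nat_lit 0x135e570d82, nat_lit 0x125af639c5, [], [], []⟩) (.leaf ⟨nat_lit 1, nat_lit 12, nat_lit 12, nat_lit 0x2830a16c121, nat_lit 0xbce3131f0, nat_lit 0x388c2b223, [], [], []⟩)) (.leaf ⟨nat_lit 1, nat_lit 10, nat_lit 9, nat_lit 0x4c4700a9cd, nat_lit 0x234b010da2, nat_lit 0x12acec63843,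 [], [], []⟩)) (.node (.leaf ⟨nat_lit 1, nat_lit 10, nat_lit 10, nat_lit 0x1a1ea51c2c, nat_lit 0x45f141462, nat_lit 0x1116b438e4, [], [], []⟩) (.leaf ⟨nat_lit 1, nat_lit 10, nat_lit 10, nat_lit 0xa9842b4e2, nat_lit 0x4b9ca734af, nat_lit 0x18479950, [], [], []⟩))))

noncomputable def F119 : GT Fa := .node (.node (.node (.node (.node (.leaf ⟨nat_lit 0, nat_lit 1, nat_lit 1, nat_lit 0, nat_lit 0x1962c1aa2d, nat_lit 0x35ca64169, [], [], []⟩) (.leaf ⟨nat_lit 1, nat_lit 10, nat_lit 9, nat_lit 0x45260e69562, nat_lit 0xa421ea229c1, nat_lit 0x107362e32ce2, [], [], []⟩)) (.leaf ⟨nat_lit 1, nat_lit 10, nat_lit 10, nat_lit 0x33360e70981, nat_lit 0x4b9ae541e9, nat_lit 0x522106b622, [], [], []⟩)) (.node (.node (.leaf ⟨nat_lit 0, nat_lit 6, nat_lit 6, nat_lit 0, nat_lit 0x7132da9, nat_lit 0xacce1b9c5, [], [], []⟩) (.leaf ⟨nat_lit 1, nat_lit 10, nat_lit 14,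 nat_lit 0xbdb061567, nat_lit 0x29df043149, nat_lit 0x4c06b89d0c, [], [], []⟩)) (.leaf ⟨nat_lit 1, nat_lit 10, nat_lit 10, nat_lit 0x21b94f61862, nat_lit 0x2a0ad59d61, nat_lit 0x685ec7122d, [], [], []⟩))) (.node (.node (.node (.leaf ⟨nat_lit 0, nat_lit 1, nat_lit 1, nat_lit 0, nat_lit 0xbe077c182, nat_lit 0x25ef4b5c5, [], [], []⟩) (.leaf ⟨nat_lit 1, nat_lit 10, nat_lit 12, nat_lit 0xc4c48541, nat_lit 0x4360f3b04f, nat_lit 0x41c58378541, [], [], []⟩)) (.leaf ⟨nat_lit 1, nat_lit 10, nat_lit 10, nat_lit 0x21c46b5c7, nat_lit 0x95454a44542, nat_lit 0x689f07bda5, [], [], []⟩)) (.node (.leaf ⟨nat_lit 1, nat_lit 10, nat_lit 9, nat_lit 0x17be3112e21, nat_lit 0x32d6882169, nat_lit 0x1611b01c064, [], [], []⟩) (.leaf ⟨nat_lit 1, nat_lit 10, nat_lit 10, nat_lit 0x4ae04534e8, nat_lit 0x242dc3625c2, nat_lit 0x283e2b8b4a4, [], [], []⟩)))) (.node (.node (.node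 (.node (.leaf ⟨nat_lit 0, nat_lit 1, nat_lit 1, nat_lit 0, nat_lit 0x3d6710dea, nat_lit 0x5ef694ce, [], [], []⟩) (.leaf ⟨nat_lit 1, nat_lit 11, nat_lit 10, nat_lit 0x229d8f7c162, nat_lit 0x2b4ce42982, nat_lit 0x538b1240c1, [], [], []⟩)) (.leaf ⟨nat_lit 1, nat_lit 10, nat_lit 9, nat_lit 0xc7bcb0430e1, nat_lit 0x2ba287a1ab, nat_lit 0x17b5302388d, [], [], []⟩)) (.node (.node (.leaf ⟨nat_lit 1, nat_lit 9, nat_lit 9, nat_lit 0x3cf0795c7, nat_lit 0x8bda6718a1, nat_lit 0xb02c73923, [], [], []⟩) (.leaf ⟨nat_lit 1, nat_lit 14, nat_lit 10, nat_lit 0x728e18a8e2, nat_lit 0x841e77a8c7, nat_lit 0x2b04d7a627, [], [], []⟩)) (.leaf ⟨nat_lit 1, nat_lit 10, nat_lit 10, nat_lit 0x13bc6e64443, nat_lit 0x3a9417354d, nat_lit 0x14ac6f7a8e4, [], [], []⟩))) (.node (.node (.node (.leaf ⟨nat_lit 0, nat_lit 1, nat_lit 1, nat_lit 0, nat_lit 0x445c67c182, nat_lit 0x282d8a24481,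 [], [], []⟩) (.leaf ⟨nat_lit 1, nat_lit 10, nat_lit 12, nat_lit 0x50a6c06e, nat_lit 0x3b991689e1, nat_lit 0x641505a48a, [], [], []⟩)) (.leaf ⟨nat_lit 1, nat_lit 10, nat_lit 9, nat_lit 0x1c6285898f, nat_lit 0x1b18b229a1, nat_lit 0x215cc43da4, [], [], []⟩)) (.node (.leaf ⟨nat_lit 1, nat_lit 9, nat_lit 10, nat_lit 0xc18734565, nat_lit 0x195895b9c5, nat_lit 0x28292f535cd, [], [], []⟩) (.leaf ⟨nat_lit 1, nat_lit 10, nat_lit 10, nat_lit 0x4bd707216c, nat_lit 0x225cd8a883, nat_lit 0x2542065b1ea, [], [], []⟩))))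

noncomputable def F120 : GT Fa := .node (.node (.node (.node (.node (.leaf ⟨nat_lit 0, nat_lit 1, nat_lit 1, nat_lit 0, nat_lit 0x1312f5c04c, nat_lit 0xc454210d, [], [], []⟩) (.leaf ⟨nat_lit 1, nat_lit 10, nat_lit 10, nat_lit 0x458b7bc8e, nat_lit 0x2a9ea7b070, nat_lit 0x1691cc74163, [], [], []⟩)) (.leaf ⟨nat_lit 1, nat_lit 10, nat_lit 9, nat_lit 0x3b44d7316e, nat_lit 0x129ec58a0c, nat_lit 0x28a1642c146, [], [], []⟩)) (.node (.node (.leaf ⟨nat_lit 0, nat_lit 6, nat_lit 6, nat_lit 0, nat_lit 9380, nat_lit 0x329067, [], [], []⟩) (.leaf ⟨nat_lit 1, nat_lit 9, nat_lit 14, nat_lit 0x22b964590a2, nat_lit 0x2336313ac83, nat_lit 0x362759151, [], [], []⟩)) (.leaf ⟨nat_lit 1, nat_lit 10, nat_lit 10, nat_lit 0xaa2d6c08f, nat_lit 0x7302b82dd1, nat_lit 0xc5cd3458a, [], [], []⟩))) (.node (.node (.node (.leaf ⟨nat_lit 0, nat_lit 1, nat_lit 1, nat_lit 0,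 nat_lit 0x12949691cb, nat_lit 0x12f7a5ae, [], [], []⟩) (.leaf ⟨nat_lit 1, nat_lit 12, nat_lit 10, nat_lit 0x2320b79d6e, nat_lit 0x2a98e73041, nat_lit 0x1360878c50, [], [], []⟩)) (.leaf ⟨nat_lit 1, nat_lit 10, nat_lit 10, nat_lit 0x16b9a1831d1, nat_lit 0x36ac856c201, nat_lit 0x182ccf63105, [], [], []⟩)) (.node (.leaf ⟨nat_lit 1, nat_lit 10, nat_lit 10, nat_lit 0x534b171c82, nat_lit 0x56914d33522, nat_lit 0x13ccd7b507, [], [], []⟩) (.leaf ⟨nat_lit 1, nat_lit 10, nat_lit 10, nat_lit 0x32dd171422, nat_lit 0x529e579221, nat_lit 0x6852f825aa, [], [], []⟩)))) (.node (.node (.node (.node (.leaf ⟨nat_lit 0, nat_lit 1, nat_lit 1, nat_lit 0, nat_lit 0xc0c27b0e2, nat_lit 0x23615a9, [], [], []⟩) (.leaf ⟨nat_lit 1, nat_lit 11, nat_lit 9, nat_lit 0x346e73231, nat_lit 0x6268a2c, nat_lit 0x13c668b14f, [], [], []⟩)) (.leaf ⟨nat_lit 1, nat_lit 9, nat_lit 10,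 nat_lit 0x18c55188a21, nat_lit 0x153030698e1, nat_lit 0xc541a283862, [], [], []⟩)) (.node (.node (.leaf ⟨nat_lit 1, nat_lit 9, nat_lit 9, nat_lit 0x2292d825c4, nat_lit 0x63050538a1, nat_lit 0x10d05438a3, [], [], []⟩) (.leaf ⟨nat_lit 1, nat_lit 10, nat_lit 14, nat_lit 0xe721ef82c81, nat_lit 0x11713c4eb, nat_lit 0x922c710a8, [], [], []⟩)) (.leaf ⟨nat_lit 1, nat_lit 8, nat_lit 10, nat_lit 0x459120e01, nat_lit 0x1b0cb2b98f, nat_lit 0x1aa066c564, [], [], []⟩))) (.node (.node (.node (.leaf ⟨nat_lit 0, nat_lit 1, nat_lit 1, nat_lit 0, nat_lit 0x446236c182, nat_lit 0x235ca60da2, [], [], []⟩) (.leaf ⟨nat_lit 1, nat_lit 10, nat_lit 12, nat_lit 0x11d8e6c102, nat_lit 0x7c16b491a1, nat_lit 0x11416d2318e, [], [], []⟩)) (.leaf ⟨nat_lit 1, nat_lit 10, nat_lit 10, nat_lit 0x791f06c0b0, nat_lit 0x72c9062c70, nat_lit 0x13ad8b2b5c1, [], [], []⟩)) (.node (.leaf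 ⟨nat_lit 1, nat_lit 10, nat_lit 10, nat_lit 0x104c0f072c81, nat_lit 0x13446a631e1, nat_lit 0x821656ad04, [], [], []⟩) (.leaf ⟨nat_lit 1, nat_lit 10, nat_lit 10, nat_lit 0x6a84b69490, nat_lit 0x189d4c2454a, nat_lit 0x142d8b7c583, [], [], []⟩))))

noncomputable def F121 : GT Fa := .node (.node (.node (.node (.node (.leaf ⟨nat_lit 0, nat_lit 1, nat_lit 1, nat_lit 0, nat_lit 0x129c951431, nat_lit 0xa2a6c550, [], [], []⟩) (.leaf ⟨nat_lit 1, nat_lit 10, nat_lit 10, nat_lit 0x57163a26, nat_lit 0x5b0345a4, nat_lit 0x233d41631e3, [], [], []⟩)) (.leaf ⟨nat_lit 1, nat_lit 10, nat_lit 10, nat_lit 0xc5bd65589a2, nat_lit 0x6408b83161, nat_lit 0x8360b4a86a, [], [], []⟩)) (.node (.node (.leaf ⟨nat_lit 2, nat_lit 0, nat_lit 0, nat_lit 4193, nat_lit 0, nat_lit 0, [], [], [nat_lit 0x2bde37a141, nat_lit 4131, nat_lit 0xec52201]⟩) (.leaf ⟨nat_lit 1, nat_lit 10,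 nat_lit 14, nat_lit 0x271d6c5b5e9, nat_lit 0x2b85161143, nat_lit 0x88360a74561, [], [], []⟩)) (.leaf ⟨nat_lit 1, nat_lit 10, nat_lit 10, nat_lit 0x8bcd15b0ef, nat_lit 0x15bcec8ada2, nat_lit 0x12cae5850b, [], [], []⟩))) (.node (.node (.node (.leaf ⟨nat_lit 0, nat_lit 1, nat_lit 1, nat_lit 0, nat_lit 0x18961627, nat_lit 0x95862b507, [], [], []⟩) (.leaf ⟨nat_lit 1, nat_lit 10, nat_lit 12, nat_lit 0x7c1ed6bd8b, nat_lit 0x1d6d30962, nat_lit 0x595ab7b169, [], [], []⟩)) (.leaf ⟨nat_lit 1, nat_lit 10, nat_lit 10, nat_lit 0x9645882c122, nat_lit 0x6b6100b206, nat_lit 0x2b8cd24521, [], [], []⟩)) (.node (.leaf ⟨nat_lit 1, nat_lit 9, nat_lit 10, nat_lit 0x3a84d3c022, nat_lit 0x96417143862, nat_lit 0x7bd0f0c1e3, [], [], []⟩) (.leaf ⟨nat_lit 1, nat_lit 10, nat_lit 10, nat_lit 0x43d30840e1, nat_lit 0x7c5428950e, nat_lit 0x2a2e2b621, [], [], []⟩)))) (.node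 (.node (.node (.node (.leaf ⟨nat_lit 0, nat_lit 1, nat_lit 1, nat_lit 0, nat_lit 0xb03123d62, nat_lit 0x7c5516c5c3, [], [], []⟩) (.leaf ⟨nat_lit 1, nat_lit 9, nat_lit 11, nat_lit 0x3ac307a841, nat_lit 0x101b90f63de2, nat_lit 0x17408b6c5e2, [], [], []⟩)) (.leaf ⟨nat_lit 1, nat_lit 10, nat_lit 10, nat_lit 0x5ac2d8ad86, nat_lit 0x112b961, nat_lit 0x20b18364485, [], [], []⟩)) (.node (.node (.leaf ⟨nat_lit 1, nat_lit 9, nat_lit 8, nat_lit 0x1308e6a56f, nat_lit 0x511c5235a1, nat_lit 0x608713a188, [], [], []⟩) (.leaf ⟨nat_lit 1, nat_lit 10, nat_lit 14, nat_lit 0x21b10c8c622, nat_lit 0x131ed40541, nat_lit 0x15a18c2b1e3, [], [], []⟩)) (.leaf ⟨nat_lit 1, nat_lit 10, nat_lit 10, nat_lit 0x4171595ea, nat_lit 0x689a1540a2, nat_lit 0x222dc43c201, [], [], []⟩))) (.node (.node (.node (.leaf ⟨nat_lit 0, nat_lit 1, nat_lit 1, nat_lit 0, nat_lit 0x8c54989ca2,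 nat_lit 0x22a5eb78c82, [], [], []⟩) (.leaf ⟨nat_lit 1, nat_lit 10, nat_lit 12, nat_lit 0x28a231430e2, nat_lit 0x60dab4304b, nat_lit 0xc5260e73a22, [], [], []⟩)) (.leaf ⟨nat_lit 1, nat_lit 10, nat_lit 10, nat_lit 0x191618ad8f, nat_lit 0x14ba2c521e1, nat_lit 0x1241cc4b181, [], [], []⟩)) (.node (.leaf ⟨nat_lit 1, nat_lit 10, nat_lit 9, nat_lit 0x645a26ba05, nat_lit 0xdc5229e2, nat_lit 0x15c1a7540ad, [], [], []⟩) (.leaf ⟨nat_lit 1, nat_lit 10, nat_lit 10, nat_lit 0x1ba03731cd, nat_lit 0x5c08c6096d, nat_lit 0x79def34584, [], [], []⟩))))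

noncomputable def F122 : GT Fa := .node (.node (.node (.node (.node (.leaf ⟨nat_lit 0, nat_lit 1, nat_lit 1, nat_lit 0, nat_lit 0x8f238e4, nat_lit 0x615a7, [], [], []⟩) (.leaf ⟨nat_lit 1, nat_lit 10, nat_lit 10, nat_lit 0x4344d0b9c1, nat_lit 0x2191d16bc43, nat_lit 0x25bd91545f1, [], [], []⟩)) (.leaf ⟨nat_lit 1, nat_lit 10, nat_lit 10, nat_lit 0x64523745c1, nat_lit 0x2b6c4836c141, nat_lit 0x7bccf44462, [], [], []⟩)) (.node (.node (.leaf ⟨nat_lit 2, nat_lit 0, nat_lit 0, nat_lit 0x28a1829cd, nat_lit 0, nat_lit 0, [], [], [nat_lit 4131, nat_lit 0xec52201, nat_lit 4]⟩) (.leaf ⟨nat_lit 1, nat_lit 14, nat_lit 10, nat_lit 0x14320d3ac22, nat_lit 0x17862f828e2, nat_lit 0x4b2a21069481, [], [], []⟩)) (.leaf ⟨nat_lit 1, nat_lit 10, nat_lit 9, nat_lit 0x8e47b150, nat_lit 0x1148f63146, nat_lit 0x189ef53e2f, [], [], []⟩))) (.node (.node (.node (.leaf ⟨nat_lit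 0, nat_lit 1, nat_lit 1, nat_lit 0, nat_lit 0x258961627, nat_lit 0x4ac315a8, [], [], []⟩) (.leaf ⟨nat_lit 1, nat_lit 12, nat_lit 10, nat_lit 0x11a659dea, nat_lit 0x25539637a5e2, nat_lit 0x3b9cb615a1, [], [], []⟩)) (.leaf ⟨nat_lit 1, nat_lit 10, nat_lit 10, nat_lit 0xae0d0a8c1, nat_lit 0x544aa8ac81, nat_lit 0x1882e59604, [], [], []⟩)) (.node (.leaf ⟨nat_lit 1, nat_lit 10, nat_lit 10, nat_lit 0x1c58c71209, nat_lit 0x35ad8f6bda2, nat_lit 0x11154e5198e, [], [], []⟩) (.leaf ⟨nat_lit 1, nat_lit 9, nat_lit 10, nat_lit 0x4c56c7a190, nat_lit 0x3c62c84203, nat_lit 0x608a982caa, [], [], []⟩)))) (.node (.node (.node (.node (.leaf ⟨nat_lit 0, nat_lit 1, nat_lit 1, nat_lit 0, nat_lit 0xac2b4a1, nat_lit 45229, [], [], []⟩) (.leaf ⟨nat_lit 1, nat_lit 10, nat_lit 11, nat_lit 0x23c1088348a, nat_lit 0x143e0b89ca6, nat_lit 0x59ccb6b5e1, [], [], []⟩)) (.leaf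 ⟨nat_lit 1, nat_lit 10, nat_lit 9, nat_lit 0x8b5c672a23, nat_lit 0x1b10c8a081, nat_lit 0x430ec59dc5, [], [], []⟩)) (.node (.node (.leaf ⟨nat_lit 1, nat_lit 9, nat_lit 7, nat_lit 0xcb40590, nat_lit 0xb04b2b986, nat_lit 0x61deb3c0e1, [], [], []⟩) (.leaf ⟨nat_lit 1, nat_lit 14, nat_lit 10, nat_lit 0x90a668962, nat_lit 0x16a9ad1b8a2, nat_lit 0x2319706b48d, [], [], []⟩)) (.leaf ⟨nat_lit 1, nat_lit 10, nat_lit 10, nat_lit 0x14c58953168, nat_lit 0x725d12bc71, nat_lit 0x180444535c4, [], [], []⟩))) (.node (.node (.node (.leaf ⟨nat_lit 0, nat_lit 1, nat_lit 1, nat_lit 0, nat_lit 0x1c507745c1, nat_lit 0x4be0f340e3, [], [], []⟩) (.leaf ⟨nat_lit 1, nat_lit 10, nat_lit 12, nat_lit 0x2adce2b22f, nat_lit 0x1711d13b1c2, nat_lit 0x21b94a63c6c, [], [], []⟩)) (.leaf ⟨nat_lit 1, nat_lit 10, nat_lit 10, nat_lit 0xb1ed2ba28, nat_lit 0x6914f1898c, nat_lit 0x28bdad2ada9,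 [], [], []⟩)) (.node (.leaf ⟨nat_lit 1, nat_lit 10, nat_lit 10, nat_lit 0x258d6b8412b, nat_lit 0x233d88820e1, nat_lit 0x23d0d2b223, [], [], []⟩) (.leaf ⟨nat_lit 1, nat_lit 9, nat_lit 10, nat_lit 0x14322a5284d, nat_lit 0x29cc5862c, nat_lit 0x1505902a22e, [], [], []⟩))))

noncomputable def F123 : GT Fa := .node (.node (.node (.node (.node (.leaf ⟨nat_lit 0, nat_lit 1, nat_lit 1, nat_lit 0, nat_lit 0x7615a5, nat_lit 0xc2b4a7, [], [], []⟩) (.leaf ⟨nat_lit 1, nat_lit 10, nat_lit 10, nat_lit 0x791cc83201, nat_lit 0x58060c8ada1, nat_lit 0x7bc2a7a8c3, [], [], []⟩)) (.leaf ⟨nat_lit 1, nat_lit 9, nat_lit 10, nat_lit 0x18c5048a883, nat_lit 0x5528ea430a1, nat_lit 0x10d0a319c2, [], [], []⟩)) (.node (.node (.leaf ⟨nat_lit 2, nat_lit 0, nat_lit 0, nat_lit 4, nat_lit 0, nat_lit 0, [], [], [nat_lit 0xec52201, nat_lit 4, nat_lit 0x2bde37a141]⟩) (.leaf ⟨nat_lit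 1, nat_lit 14, nat_lit 10, nat_lit 0x2b5e8615c1, nat_lit 0x231218c581, nat_lit 0x174488629c9, [], [], []⟩)) (.leaf ⟨nat_lit 1, nat_lit 10, nat_lit 10, nat_lit 0x5c5cd23061, nat_lit 0x444518c5e6, nat_lit 0x36236216d, [], [], []⟩))) (.node (.node (.node (.leaf ⟨nat_lit 0, nat_lit 1, nat_lit 1, nat_lit 0, nat_lit 0x4c52e3c5c5, nat_lit 0x1a2e60530, [], [], []⟩) (.leaf ⟨nat_lit 1, nat_lit 12, nat_lit 10, nat_lit 0x745906b54d, nat_lit 0x3360f5856b, nat_lit 0x3bd907302b, [], [], []⟩)) (.leaf ⟨nat_lit 1, nat_lit 10, nat_lit 10, nat_lit 0x5c8231c9, nat_lit 0x42e2b6b8d0, nat_lit 0x179daa53102, [], [], []⟩)) (.node (.leaf ⟨nat_lit 1, nat_lit 8, nat_lit 10, nat_lit 0x34c5ed73941, nat_lit 0x58c825c5, nat_lit 0x12dea815a1, [], [], []⟩) (.leaf ⟨nat_lit 1, nat_lit 10, nat_lit 10, nat_lit 0x21a226922d, nat_lit 0x121a470971, nat_lit 0x95318954d, [], [], []⟩))))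 (.node (.node (.node (.node (.leaf ⟨nat_lit 0, nat_lit 1, nat_lit 1, nat_lit 0, nat_lit 0x15f078c41, nat_lit 0x82683e08, [], [], []⟩) (.leaf ⟨nat_lit 1, nat_lit 10, nat_lit 11, nat_lit 0x123e097ac83, nat_lit 0x3840e45ac22, nat_lit 0x334cd82d84, [], [], []⟩)) (.leaf ⟨nat_lit 1, nat_lit 10, nat_lit 10, nat_lit 0x2619ef3b081, nat_lit 0xb0a20b62e02, nat_lit 0x7b0eb619e4, [], [], []⟩)) (.node (.node (.leaf ⟨nat_lit 1, nat_lit 7, nat_lit 9, nat_lit 0x62e0c8b0a2, nat_lit 0x2be04525a8, nat_lit 0x5420344562, [], [], []⟩) (.leaf ⟨nat_lit 1, nat_lit 10, nat_lit 14, nat_lit 0x25b56e718a3, nat_lit 0x7a9ca4a9e5, nat_lit 0x7a8302ac82, [], [], []⟩)) (.leaf ⟨nat_lit 1, nat_lit 10, nat_lit 9, nat_lit 0xb16d8098f, nat_lit 0x29d8c51162, nat_lit 0x7094863d49, [], [], []⟩))) (.node (.node (.node (.leaf ⟨nat_lit 0, nat_lit 1, nat_lit 1, nat_lit 0, nat_lit 0x1bd2f6b905,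 nat_lit 0x7acab6242a, [], [], []⟩) (.leaf ⟨nat_lit 1, nat_lit 12, nat_lit 10, nat_lit 0x111a1063982, nat_lit 0x183d90740c2, nat_lit 0x1ad2a7bd0c, [], [], []⟩)) (.leaf ⟨nat_lit 1, nat_lit 10, nat_lit 9, nat_lit 0x21a5811e1, nat_lit 0x24b5248ac62, nat_lit 0x1529ed22d02, [], [], []⟩)) (.node (.leaf ⟨nat_lit 1, nat_lit 10, nat_lit 9, nat_lit 0x63e2684105, nat_lit 0xc4d7b4cb, nat_lit 0x4adec144ef, [], [], []⟩) (.leaf ⟨nat_lit 1, nat_lit 10, nat_lit 10, nat_lit 0xa529e18c5a2, nat_lit 0x7098c7a1e1, nat_lit 0x14ae214c422, [], [], []⟩))))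

noncomputable def F124 : GT Fa := .node (.node (.node (.node (.node (.leaf ⟨nat_lit 0, nat_lit 1, nat_lit 1, nat_lit 0, nat_lit 0x3298a8bd30, nat_lit 0x1e312c5d0, [], [], []⟩) (.leaf ⟨nat_lit 1, nat_lit 10, nat_lit 10, nat_lit 0x1121ad5c18f, nat_lit 0x276b4647ae01, nat_lit 0x28b60b2ad82, [], [], []⟩)) (.leaf ⟨nat_lit 1, nat_lit 10, nat_lit 10, nat_lit 0x11c08b83606, nat_lit 0xc5ec2c1a1, nat_lit 0x328ce341cc, [], [], []⟩)) (.node (.node (.leaf ⟨nat_lit 2, nat_lit 0, nat_lit 0, nat_lit 0xec52203, nat_lit 0, nat_lit 0, [], [], [nat_lit 4, nat_lit 0x2bde37a141, nat_lit 4131]⟩) (.leaf ⟨nat_lit 1, nat_lit 14, nat_lit 10, nat_lit 0x7b0ca6a8e2, nat_lit 0x8b06c191ef, nat_lit 0x23314553d81, [], [], []⟩)) (.leaf ⟨nat_lit 1, nat_lit 10, nat_lit 10, nat_lit 0x7245163c41, nat_lit 0x332e2c8a4a1, nat_lit 0x15c5e3330aa, [], [], []⟩))) (.node (.node (.node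 (.leaf ⟨nat_lit 0, nat_lit 1, nat_lit 1, nat_lit 0, nat_lit 0x7c0ef14182, nat_lit 0x9a216bc62, [], [], []⟩) (.leaf ⟨nat_lit 1, nat_lit 12, nat_lit 10, nat_lit 0x7150e2c1e4, nat_lit 0x29da26b52a, nat_lit 0x4772d918b061, [], [], []⟩)) (.leaf ⟨nat_lit 1, nat_lit 10, nat_lit 10, nat_lit 0x24205835a8, nat_lit 0x225af63caa, nat_lit 0x72caa8ba0d, [], [], []⟩)) (.node (.leaf ⟨nat_lit 1, nat_lit 8, nat_lit 10, nat_lit 0x1b60c88451, nat_lit 0x7948f6982d, nat_lit 0x4031244ed, [], [], []⟩) (.leaf ⟨nat_lit 1, nat_lit 10, nat_lit 10, nat_lit 0x89ccb43561, nat_lit 0x11d90795ce, nat_lit 0x2a9ed6c06a, [], [], []⟩)))) (.node (.node (.node (.node (.leaf ⟨nat_lit 0, nat_lit 1, nat_lit 1, nat_lit 0, nat_lit 0x15e58162e, nat_lit 0x241c683904, [], [], []⟩) (.leaf ⟨nat_lit 1, nat_lit 10, nat_lit 11, nat_lit 0xa53d0a62461, nat_lit 0x2294482607, nat_lit 0x688ab82602,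 [], [], []⟩)) (.leaf ⟨nat_lit 1, nat_lit 10, nat_lit 10, nat_lit 0x1a1497ad81, nat_lit 0x19ce625cc, nat_lit 0x17b1cd3adec, [], [], []⟩)) (.node (.node (.leaf ⟨nat_lit 0, nat_lit 9, nat_lit 9, nat_lit 0, nat_lit 0x4c1816c5f1, nat_lit 0x6154e6a1c2, [], [], []⟩) (.leaf ⟨nat_lit 1, nat_lit 14, nat_lit 10, nat_lit 0x8ad42910, nat_lit 0x4c54c33830, nat_lit 0x8954148, [], [], []⟩)) (.leaf ⟨nat_lit 1, nat_lit 10, nat_lit 10, nat_lit 0x29e10631c1, nat_lit 0xf81d9023ca2, nat_lit 0xe045ad81, [], [], []⟩))) (.node (.node (.node (.leaf ⟨nat_lit 0, nat_lit 1, nat_lit 1, nat_lit 0, nat_lit 0x1c4ee8950e, nat_lit 0x60dd12a5c3, [], [], []⟩) (.leaf ⟨nat_lit 1, nat_lit 12, nat_lit 10, nat_lit 0x4a1d083a10, nat_lit 0x4b5ea81cc2, nat_lit 0x18ac8e6bc82, [], [], []⟩)) (.leaf ⟨nat_lit 1, nat_lit 9, nat_lit 10, nat_lit 0x12b50b234e2, nat_lit 0x218f7b18b, nat_lit 0x29ab60de9,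 [], [], []⟩)) (.node (.leaf ⟨nat_lit 1, nat_lit 9, nat_lit 10, nat_lit 0x113454e62841, nat_lit 0x1738e460961, nat_lit 0xc5198569222, [], [], []⟩) (.leaf ⟨nat_lit 1, nat_lit 9, nat_lit 10, nat_lit 0x1895ec39502, nat_lit 0x1245cc50dc2, nat_lit 0x13131798a2, [], [], []⟩))))

noncomputable def F125 : GT Fa := .node (.node (.node (.node (.node (.leaf ⟨nat_lit 0, nat_lit 1, nat_lit 1, nat_lit 0, nat_lit 0x13d637acc2, nat_lit 0xc5858b8ed, [], [], []⟩) (.leaf ⟨nat_lit 1, nat_lit 10, nat_lit 10, nat_lit 0x415d072ca1, nat_lit 0xb811eb81941, nat_lit 0x141cc7c16c, [], [], []⟩)) (.leaf ⟨nat_lit 1, nat_lit 10, nat_lit 10, nat_lit 0x7c52f6a0e2, nat_lit 0x3bd4172d91, nat_lit 0xb2c5310b221, [], [], []⟩)) (.node (.node (.leaf ⟨nat_lit 2, nat_lit 0, nat_lit 0, nat_lit 4193, nat_lit 0, nat_lit 0, [], [], [nat_lit 0xacce1b9c5, nat_lit 4131, nat_lit 0x318459041]⟩)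 (.leaf ⟨nat_lit 1, nat_lit 14, nat_lit 10, nat_lit 0xa2f5c1a1, nat_lit 0x37c54862d22, nat_lit 0x6ae02841a2, [], [], []⟩)) (.leaf ⟨nat_lit 1, nat_lit 9, nat_lit 10, nat_lit 0xb9a95ba2e, nat_lit 0x789e215c102, nat_lit 0x5c4af609ae, [], [], []⟩))) (.node (.node (.node (.leaf ⟨nat_lit 0, nat_lit 1, nat_lit 1, nat_lit 0, nat_lit 0x5283159608, nat_lit 0x25ef4b5c3, [], [], []⟩) (.leaf ⟨nat_lit 1, nat_lit 10, nat_lit 12, nat_lit 0x4b18f529a3, nat_lit 0x104c1a40a982, nat_lit 0x28152b5c02e, [], [], []⟩)) (.leaf ⟨nat_lit 1, nat_lit 10, nat_lit 10, nat_lit 0x6160f8b231, nat_lit 0xc8994c23981, nat_lit 0x18a9af1b621, [], [], []⟩)) (.node (.leaf ⟨nat_lit 1, nat_lit 10, nat_lit 10, nat_lit 0xc535658b4a1, nat_lit 0x3449022d81, nat_lit 0x435eb818f1, [], [], []⟩) (.leaf ⟨nat_lit 1, nat_lit 10, nat_lit 10, nat_lit 0x12454c0acc2, nat_lit 0x17028571, nat_lit 0xc0626bc8b,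 [], [], []⟩)))) (.node (.node (.node (.node (.leaf ⟨nat_lit 0, nat_lit 1, nat_lit 1, nat_lit 0, nat_lit 0x288f134ee, nat_lit 0x125116c5ad, [], [], []⟩) (.leaf ⟨nat_lit 1, nat_lit 10, nat_lit 11, nat_lit 0x3daa70a0d, nat_lit 0x195ef42dea, nat_lit 0x6aded54126, [], [], []⟩)) (.leaf ⟨nat_lit 1, nat_lit 10, nat_lit 10, nat_lit 0x10ac330af, nat_lit 0x7b22378969, nat_lit 0x23bd906ade2, [], [], []⟩)) (.node (.node (.leaf ⟨nat_lit 2, nat_lit 0, nat_lit 0, nat_lit 10337, nat_lit 0, nat_lit 0, [], [], [nat_lit 0x13ccc7acad, nat_lit 11299, nat_lit 0x27344d41182]⟩) (.leaf ⟨nat_lit 1, nat_lit 14, nat_lit 10, nat_lit 0x3e262aa02, nat_lit 0xa841e553481, nat_lit 0xb191525a9, [], [], []⟩)) (.leaf ⟨nat_lit 1, nat_lit 10, nat_lit 10, nat_lit 0x17a98f835e2, nat_lit 0xb1ed529c8, nat_lit 0xa2267c1c7, [], [], []⟩))) (.node (.node (.node (.leaf ⟨nat_lit 0, nat_lit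 1, nat_lit 1, nat_lit 0, nat_lit 0x10c130e2, nat_lit 0x51189ad, [], [], []⟩) (.leaf ⟨nat_lit 1, nat_lit 12, nat_lit 10, nat_lit 0x3d458adf0, nat_lit 0x115914312f, nat_lit 0x1429f1595c9, [], [], []⟩)) (.leaf ⟨nat_lit 1, nat_lit 10, nat_lit 10, nat_lit 0x1c02e89881, nat_lit 0x12d704be05, nat_lit 0x16922d8b1c1, [], [], []⟩)) (.node (.leaf ⟨nat_lit 1, nat_lit 10, nat_lit 7, nat_lit 0xa4414e34102, nat_lit 0x5094653607, nat_lit 0x13a9af83e03, [], [], []⟩) (.leaf ⟨nat_lit 1, nat_lit 10, nat_lit 10, nat_lit 0x129cd8b0ce, nat_lit 0x78610431ce, nat_lit 0x960e315b081, [], [], []⟩))))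

noncomputable def F126 : GT Fa := .node (.node (.node (.node (.node (.leaf ⟨nat_lit 0, nat_lit 1, nat_lit 1, nat_lit 0, nat_lit 0x6320c4c043, nat_lit 0xa5f1229cd, [], [], []⟩) (.leaf ⟨nat_lit 1, nat_lit 10, nat_lit 10, nat_lit 0x3c8c825ca, nat_lit 0x826097290e, nat_lit 0x7c5a3520a4, [], [], []⟩)) (.leaf ⟨nat_lit 1, nat_lit 10, nat_lit 10, nat_lit 0x1bd6d4a9ab, nat_lit 0x77396b83da1, nat_lit 0x135d10b185, [], [], []⟩)) (.node (.node (.leaf ⟨nat_lit 2, nat_lit 0, nat_lit 0, nat_lit 0x1a0e441c5, nat_lit 0, nat_lit 0, [], [], [nat_lit 4131, nat_lit 0x318459041, nat_lit 4]⟩) (.leaf ⟨nat_lit 1, nat_lit 14, nat_lit 7, nat_lit 0x188af515aa, nat_lit 0x62c43163061, nat_lit 0x25318e6b8c4, [], [], []⟩)) (.leaf ⟨nat_lit 1, nat_lit 10, nat_lit 10, nat_lit 0x10cee69a0a, nat_lit 0xb5b568795c2, nat_lit 0x79d4251d85, [], [], []⟩))) (.node (.node (.node (.leaf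 ⟨nat_lit 0, nat_lit 1, nat_lit 1, nat_lit 0, nat_lit 0x10dd15056e, nat_lit 0x345cc0a603, [], [], []⟩) (.leaf ⟨nat_lit 1, nat_lit 12, nat_lit 10, nat_lit 0x88999072883, nat_lit 0x2a0a32890, nat_lit 0x1262f835e2, [], [], []⟩)) (.leaf ⟨nat_lit 1, nat_lit 10, nat_lit 10, nat_lit 0xd448ba02, nat_lit 0xb5b20b1c162, nat_lit 0x10739467c141, [], [], []⟩)) (.node (.leaf ⟨nat_lit 1, nat_lit 10, nat_lit 7, nat_lit 0x12e8a5f1, nat_lit 0x83c8f5b604, nat_lit 0xa12b59e0e, [], [], []⟩) (.leaf ⟨nat_lit 1, nat_lit 10, nat_lit 10, nat_lit 0x1a04b68c22, nat_lit 0x20eb8b605, nat_lit 0x21c1c38c4cb, [], [], []⟩)))) (.node (.node (.node (.node (.leaf ⟨nat_lit 0, nat_lit 1, nat_lit 1, nat_lit 0, nat_lit 0x2bd0f6bdae, nat_lit 0x3e0979510, [], [], []⟩) (.leaf ⟨nat_lit 1, nat_lit 11, nat_lit 10, nat_lit 0x36a9e38bda1, nat_lit 0x1235ed3c4a1, nat_lit 0x13404b8b522, [],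 [], []⟩)) (.leaf ⟨nat_lit 1, nat_lit 10, nat_lit 10, nat_lit 0x1b42b3a94a, nat_lit 0x56a22f7a862, nat_lit 0x2541cb71061, [], [], []⟩)) (.node (.node (.leaf ⟨nat_lit 2, nat_lit 0, nat_lit 0, nat_lit 0x11719d169841, nat_lit 0, nat_lit 0, [], [], [nat_lit 11299, nat_lit 0x27344d41182, nat_lit 10]⟩) (.leaf ⟨nat_lit 1, nat_lit 14, nat_lit 10, nat_lit 0x222f8a602, nat_lit 0x8632215be21, nat_lit 0x9c46c0f0, [], [], []⟩)) (.leaf ⟨nat_lit 1, nat_lit 10, nat_lit 10, nat_lit 0xb88f42da5, nat_lit 0x462dca82182, nat_lit 0x4b2055ba25, [], [], []⟩))) (.node (.node (.node (.leaf ⟨nat_lit 0, nat_lit 1, nat_lit 1, nat_lit 0, nat_lit 0x15ec73908, nat_lit 0x105c2689a5, [], [], []⟩) (.leaf ⟨nat_lit 1, nat_lit 12, nat_lit 10, nat_lit 0x15bdec40541, nat_lit 0x117416f62081, nat_lit 0x311b0cf61ca1, [], [], []⟩)) (.leaf ⟨nat_lit 1, nat_lit 10, nat_lit 10, nat_lit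 0x30cc1354a, nat_lit 0x14bda98c56c, nat_lit 0x34511a905, [], [], []⟩)) (.node (.leaf ⟨nat_lit 1, nat_lit 7, nat_lit 10, nat_lit 0x54b88f7acc2, nat_lit 0x1599707c4a1, nat_lit 0x10805d16b9c2, [], [], []⟩) (.leaf ⟨nat_lit 1, nat_lit 10, nat_lit 10, nat_lit 0x4c1ea6b4e2, nat_lit 0x515e558def, nat_lit 0xd8b1b962, [], [], []⟩))))

noncomputable def F127 : GT Fa := .node (.node (.node (.node (.node (.leaf ⟨nat_lit 0, nat_lit 1, nat_lit 1, nat_lit 0, nat_lit 0x615af2b8a1, nat_lit 0xa628745c3, [], [], []⟩) (.leaf ⟨nat_lit 1, nat_lit 10, nat_lit 10, nat_lit 0x5444aa2c201, nat_lit 0x180a0473942, nat_lit 0x5b8ad71223, [], [], []⟩)) (.leaf ⟨nat_lit 1, nat_lit 7, nat_lit 10, nat_lit 0x3a95179985, nat_lit 0x57b5ab6bd82, nat_lit 0x2221878b870, [], [], []⟩)) (.node (.node (.leaf ⟨nat_lit 2, nat_lit 0, nat_lit 0, nat_lit 4, nat_lit 0, nat_lit 0, [], [], [nat_lit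 0x318459041, nat_lit 4, nat_lit 0xacce1b9c5]⟩) (.leaf ⟨nat_lit 1, nat_lit 14, nat_lit 9, nat_lit 0x32a0a80e08, nat_lit 0x36c1a153d41, nat_lit 0x6b610518a8, [], [], []⟩)) (.leaf ⟨nat_lit 1, nat_lit 10, nat_lit 10, nat_lit 0x399718bd62, nat_lit 0x53da45210e, nat_lit 0x22b9c68882c, [], [], []⟩))) (.node (.node (.node (.leaf ⟨nat_lit 0, nat_lit 1, nat_lit 1, nat_lit 0, nat_lit 0x11be247ad02, nat_lit 0x44ee8a1c3, [], [], []⟩) (.leaf ⟨nat_lit 1, nat_lit 10, nat_lit 12, nat_lit 0x19aa0b631, nat_lit 0x10ac0c5a3, nat_lit 0x60d8183d6e, [], [], []⟩)) (.leaf ⟨nat_lit 1, nat_lit 9, nat_lit 10, nat_lit 0x2a94183501, nat_lit 0x68ad8e5a1c1, nat_lit 0xf15b202, [], [], []⟩)) (.node (.leaf ⟨nat_lit 1, nat_lit 10, nat_lit 9, nat_lit 0x1b1620b88c, nat_lit 0x1316f334c1, nat_lit 0x2bcae4bd62, [], [], []⟩) (.leaf ⟨nat_lit 1, nat_lit 10, nat_lit 10, nat_lit 0x53de84be22,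 nat_lit 0x129ea43141, nat_lit 0x148d6ad11, [], [], []⟩)))) (.node (.node (.node (.node (.leaf ⟨nat_lit 0, nat_lit 1, nat_lit 1, nat_lit 0, nat_lit 0x40c27b0e2, nat_lit 0x3615a9, [], [], []⟩) (.leaf ⟨nat_lit 1, nat_lit 10, nat_lit 11, nat_lit 0x1ade55c462, nat_lit 0x5bd2a2bd82, nat_lit 0x2b8ac4c54c, [], [], []⟩)) (.leaf ⟨nat_lit 1, nat_lit 10, nat_lit 10, nat_lit 0x699aa89df0, nat_lit 0xa79d6d509a2, nat_lit 0x153da314189, [], [], []⟩)) (.node (.node (.leaf ⟨nat_lit 2, nat_lit 0, nat_lit 0, nat_lit 11, nat_lit 0, nat_lit 0, [], [], [nat_lit 0x27344d41182, nat_lit 10, nat_lit 0x13ccc7acad]⟩) (.leaf ⟨nat_lit 1, nat_lit 10, nat_lit 14, nat_lit 0x6adb12a8c2, nat_lit 0xb1cb789a2, nat_lit 0x72e2d7b0a8, [], [], []⟩)) (.leaf ⟨nat_lit 1, nat_lit 10, nat_lit 10, nat_lit 0x3741637b5e2, nat_lit 0x888c795e9, nat_lit 0x70dca145ce, [], [], []⟩))) (.node (.node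 (.node (.leaf ⟨nat_lit 0, nat_lit 1, nat_lit 1, nat_lit 0, nat_lit 0x2be0760601, nat_lit 0xc50e60608, [], [], []⟩) (.leaf ⟨nat_lit 1, nat_lit 10, nat_lit 12, nat_lit 0x1234ac5058a, nat_lit 0x53891544ac, nat_lit 0x118ba313bd82, [], [], []⟩)) (.leaf ⟨nat_lit 1, nat_lit 10, nat_lit 10, nat_lit 0x15f143567, nat_lit 0x968dc9715e2, nat_lit 0x22a58c72606, [], [], []⟩)) (.node (.leaf ⟨nat_lit 1, nat_lit 9, nat_lit 10, nat_lit 0x16398c7962d, nat_lit 0x45aca46b5c1, nat_lit 0x13b5ad6a164, [], [], []⟩) (.leaf ⟨nat_lit 1, nat_lit 10, nat_lit 10, nat_lit 0x7bc8e244f1, nat_lit 0x62d086adcb, nat_lit 0x269dae54522, [], [], []⟩))))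

noncomputable def F : GT Fa := (.node (.node (.node (.node (.node (.node (.node F0 F64) (.node F32 F96)) (.node (.node F16 F80) (.node F48 F112))) (.node (.node (.node F8 F72) (.node F40 F104)) (.node (.node F24 F88) (.node F56 F120)))) (.node (.node (.node (.node F4 F68) (.node F36 F100)) (.node (.node F20 F84) (.node F52 F116))) (.node (.node (.node F12 F76) (.node F44 F108)) (.node (.node F28 F92) (.node F60 F124))))) (.node (.node (.node (.node (.node F2 F66) (.node F34 F98)) (.node (.node F18 F82) (.node F50 F114))) (.node (.node (.node F10 F74) (.node F42 F106)) (.node (.node F26 F90) (.node F58 F122)))) (.node (.node (.node (.node F6 F70) (.node F38 F102)) (.node (.node F22 F86) (.node F54 F118))) (.node (.node (.node F14 F78) (.node F46 F110)) (.node (.node F30 F94) (.node F62 F126)))))) (.node (.node (.node (.node (.node (.node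 F1 F65) (.node F33 F97)) (.node (.node F17 F81) (.node F49 F113))) (.node (.node (.node F9 F73) (.node F41 F105)) (.node (.node F25 F89) (.node F57 F121)))) (.node (.node (.node (.node F5 F69) (.node F37 F101)) (.node (.node F21 F85) (.node F53 F117))) (.node (.node (.node F13 F77) (.node F45 F109)) (.node (.node F29 F93) (.node F61 F125))))) (.node (.node (.node (.node (.node F3 F67) (.node F35 F99)) (.node (.node F19 F83) (.node F51 F115))) (.node (.node (.node F11 F75) (.node F43 F107)) (.node (.node F27 F91) (.node F59 F123)))) (.node (.node (.node (.node F7 F71) (.node F39 F103)) (.node (.node F23 F87) (.node F55 F119))) (.node (.node (.node F15 F79) (.node F47 F111)) (.node (.node F31 F95) (.node F63 F127)))))))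

noncomputable def W0 : GT (List ℕ) := .node (.node (.node (.node (.leaf ([])) (.leaf ([nat_lit 17, nat_lit 1, nat_lit 3, nat_lit 17]))) (.node (.leaf ([nat_lit 17, nat_lit 3, nat_lit 2, nat_lit 1, nat_lit 0, nat_lit 3, nat_lit 2, nat_lit 1, nat_lit 3, nat_lit 17])) (.leaf ([nat_lit 17, nat_lit 14, nat_lit 15, nat_lit 17, nat_lit 11, nat_lit 17])))) (.node (.node (.leaf ([nat_lit 17, nat_lit 3, nat_lit 2, nat_lit 3, nat_lit 17])) (.leaf ([nat_lit 17, nat_lit 3, nat_lit 10, nat_lit 17]))) (.node (.leaf ([nat_lit 17, nat_lit 3, nat_lit 17])) (.leaf ([nat_lit 17, nat_lit 3, nat_lit 17, nat_lit 9, nat_lit 17]))))) (.node (.node (.node (.leaf ([nat_lit 17])) (.leaf ([nat_lit 17, nat_lit 9, nat_lit 17]))) (.node (.leaf ([nat_lit 17, nat_lit 3, nat_lit 17])) (.leaf ([nat_lit 17, nat_lit 16, nat_lit 16, nat_lit 17, nat_lit 11, nat_lit 17])))) (.node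 (.node (.leaf ([nat_lit 17, nat_lit 1, nat_lit 0, nat_lit 3, nat_lit 2, nat_lit 1, nat_lit 3, nat_lit 2, nat_lit 3, nat_lit 17])) (.leaf ([nat_lit 17, nat_lit 3, nat_lit 17, nat_lit 1, nat_lit 3, nat_lit 17]))) (.leaf ([nat_lit 17, nat_lit 11, nat_lit 17]))))

noncomputable def W : GT (List ℕ) := W0

/-- the relators with the new generator -/
def R : List (List ℕ × List ℕ × List ℕ) := [([nat_lit 17, nat_lit 17, nat_lit 2, nat_lit 0], [], []),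
  ([nat_lit 18, nat_lit 0, nat_lit 17, nat_lit 0], [], []),
  ([nat_lit 18, nat_lit 2, nat_lit 17, nat_lit 2], [], []),
  ([nat_lit 18, nat_lit 4, nat_lit 17, nat_lit 4], [], []),
  ([nat_lit 3, nat_lit 4, nat_lit 18, nat_lit 3, nat_lit 17, nat_lit 3, nat_lit 4, nat_lit 18, nat_lit 3, nat_lit 17], [], []),
  ([nat_lit 18, nat_lit 1, nat_lit 2, nat_lit 0, nat_lit 1, nat_lit 17, nat_lit 1, nat_lit 0, nat_lit 2, nat_lit 1, nat_lit 4], [], []),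
  ([nat_lit 3, nat_lit 18, nat_lit 3, nat_lit 1, nat_lit 2, nat_lit 0, nat_lit 1, nat_lit 3, nat_lit 17, nat_lit 3, nat_lit 1, nat_lit 0, nat_lit 2, nat_lit 1, nat_lit 2, nat_lit 4, nat_lit 3, nat_lit 18, nat_lit 3, nat_lit 1, nat_lit 2, nat_lit 0, nat_lit 1, nat_lit 4, nat_lit 18], [], []),
  ([nat_lit 18, nat_lit 6, nat_lit 17, nat_lit 6], [], []),
  ([nat_lit 4, nat_lit 7, nat_lit 7, nat_lit 18, nat_lit 5, nat_lit 5, nat_lit 4, nat_lit 7, nat_lit 7, nat_lit 17, nat_lit 5, nat_lit 5], [], []),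
  ([nat_lit 0, nat_lit 2, nat_lit 7, nat_lit 18, nat_lit 7, nat_lit 18, nat_lit 7, nat_lit 18], [], []),
  ([nat_lit 0, nat_lit 2, nat_lit 7, nat_lit 18, nat_lit 5, nat_lit 17, nat_lit 7, nat_lit 18, nat_lit 5, nat_lit 17, nat_lit 7, nat_lit 18, nat_lit 5, nat_lit 17, nat_lit 7, nat_lit 18, nat_lit 5, nat_lit 17], [], []),
  ([nat_lit 3, nat_lit 7, nat_lit 7, nat_lit 17, nat_lit 5, nat_lit 5, nat_lit 3, nat_lit 7, nat_lit 7, nat_lit 17, nat_lit 5, nat_lit 5, nat_lit 3, nat_lit 7, nat_lit 7, nat_lit 17, nat_lit 5, nat_lit 5, nat_lit 3, nat_lit 7, nat_lit 7, nat_lit 17, nat_lit 4, nat_lit 3, nat_lit 2, nat_lit 3, nat_lit 4, nat_lit 5, nat_lit 5, nat_lit 5, nat_lit 4, nat_lit 3, nat_lit 2, nat_lit 3, nat_lit 4, nat_lit 7, nat_lit 3, nat_lit 2, nat_lit 3, nat_lit 2, nat_lit 0], [], [])]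

/-- the data -/
noncomputable def P : Par := ⟨ThAct.T, nat_lit 17, fun y => Nat.land (Nat.shiftRight (nat_lit 0x464f835cb625462a0e418820) (Nat.mul (nat_lit 5) y)) (nat_lit 31), [nat_lit 0, nat_lit 1, nat_lit 50, nat_lit 26], nat_lit 0, nat_lit 35, [], [], F.get, W.get, R⟩

end Cfsg.Agent.L0.ThFB
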