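import Cfsg.Agent.L0.Th.Act
import Cfsg.Agent.L0.PcLab

/-! The table of the subgroup of index three. -/

set_option autoImplicit false

namespace Cfsg.Agent.L0.ThN

/-- the letters -/
def l : List ℕ := [nat_lit 0, nat_lit 1, nat_lit 2, nat_lit 3, nat_lit 4, nat_lit 5, nat_lit 7]

/-- the table -/
noncomputable def T : ℕ → ℕ → ℕ := fun c i => ThAct.T c (nthN l i)

end Cfsg.Agent.L0.ThN
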