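import Cfsg.Agent.L0.CosetChain

/-! Generated coset table certificate. -/

set_option autoImplicit false
set_option maxRecDepth 100000

namespace Cfsg.Agent.L0.ThTc1

noncomputable def t0 : BT := .leaf (nat_lit 0x2759d6759d5294a5294a5200)

noncomputable def tree : BT := t0

noncomputable def row : ℕ → ℕ := rowOf tree (nat_lit 3) (nat_lit 7) (nat_lit 94) (nat_lit 0x3fffffffffffffffffffffff)

noncomputable def cols : List Col := [⟨nat_lit 9, nat_lit 1, []⟩,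
  ⟨nat_lit 14, nat_lit 1, []⟩,
  ⟨nat_lit 19, nat_lit 1, []⟩,
  ⟨nat_lit 24, nat_lit 1, []⟩,
  ⟨nat_lit 29, nat_lit 1, []⟩,
  ⟨nat_lit 34, nat_lit 1, []⟩,
  ⟨nat_lit 39, nat_lit 1, []⟩,
  ⟨nat_lit 44, nat_lit 1, []⟩,
  ⟨nat_lit 49, nat_lit 1, []⟩,
  ⟨nat_lit 54, nat_lit 0, [([nat_lit 59], nat_lit 0)]⟩,
  ⟨nat_lit 59, nat_lit 0, [([nat_lit 14, nat_lit 19, nat_lit 24, nat_lit 29, nat_lit 34], nat_lit 0)]⟩,
  ⟨nat_lit 64, nat_lit 0, [([nat_lit 69], nat_lit 0)]⟩,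
  ⟨nat_lit 69, nat_lit 0, [([nat_lit 24, nat_lit 34, nat_lit 14, nat_lit 19, nat_lit 24, nat_lit 29, nat_lit 44, nat_lit 44], nat_lit 0)]⟩,
  ⟨nat_lit 74, nat_lit 0, [([nat_lit 79], nat_lit 0)]⟩,
  ⟨nat_lit 79, nat_lit 0, [([nat_lit 34, nat_lit 29, nat_lit 24, nat_lit 19, nat_lit 14, nat_lit 9, nat_lit 24, nat_lit 39], nat_lit 0)]⟩,
  ⟨nat_lit 84, nat_lit 0, [([nat_lit 89], nat_lit 0)]⟩,
  ⟨nat_lit 89, nat_lit 0, [([nat_lit 29, nat_lit 24, nat_lit 34, nat_lit 34, nat_lit 19, nat_lit 14, nat_lit 24, nat_lit 19, nat_lit 49], nat_lit 0)]⟩]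

noncomputable def erots : List (List ℕ × ℕ) := []

noncomputable def gens : List ℕ := [nat_lit 9, nat_lit 14, nat_lit 19, nat_lit 24, nat_lit 29, nat_lit 34, nat_lit 39, nat_lit 44, nat_lit 49, nat_lit 54, nat_lit 59, nat_lit 64, nat_lit 69, nat_lit 74, nat_lit 79, nat_lit 84, nat_lit 89]

noncomputable def chk : ℕ → Bool := chkRow0 row (nat_lit 1) (nat_lit 0x1) (nat_lit 0x6) (nat_lit 3) (nat_lit 0x3) (nat_lit 0) (nat_lit 0x1) (nat_lit 1) (nat_lit 0x7f) (nat_lit 0x100) [] cols gens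

theorem b0 : allR chk 0 0 = true := by decide +kernel

noncomputable def T : CT := ⟨row, nat_lit 1, nat_lit 1, nat_lit 0x1, nat_lit 0x6, nat_lit 3, nat_lit 0x3, nat_lit 0, nat_lit 0x1, nat_lit 1, nat_lit 0x7f, nat_lit 0x100, nat_lit 94, nat_lit 94, nat_lit 0, nat_lit 10, [], cols, erots, gens⟩

theorem all : ∀ c < 1, chk c = true := fun c hc =>
  allR_glue (d := 0) (n := 1) (forall_lt_succ' forall_lt_zero' b0) c (lt_of_lt_of_le hc (by norm_num))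

/-- the relators used -/
def R : List (List ℕ) := [[nat_lit 9, nat_lit 10],
  [nat_lit 11, nat_lit 12],
  [nat_lit 13, nat_lit 14],
  [nat_lit 15, nat_lit 16],
  [nat_lit 10, nat_lit 1, nat_lit 2, nat_lit 3, nat_lit 4, nat_lit 5],
  [nat_lit 12, nat_lit 3, nat_lit 5, nat_lit 1, nat_lit 2, nat_lit 3, nat_lit 4, nat_lit 7, nat_lit 7],
  [nat_lit 14, nat_lit 5, nat_lit 4, nat_lit 3, nat_lit 2, nat_lit 1, nat_lit 0, nat_lit 3, nat_lit 6],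
  [nat_lit 16, nat_lit 4, nat_lit 3, nat_lit 5, nat_lit 5, nat_lit 2, nat_lit 1, nat_lit 3, nat_lit 2, nat_lit 8]]

theorem cert : Cert T (R.map fun r => (r, 0)) ([0, 1, 2, 3, 4, 5, 6, 7, 8].map fun y => (y, 0)) 9 5 [0, 1, 2, 3, 4, 5, 6, 7, 8, 9, 10, 11, 12, 13, 14, 15, 16] :=
  ⟨by decide +kernel, ⟨[[], [], [], [], [], [], [], [], [], [(0, 0)], [(4, 0)], [(1, 0)], [(5, 0)], [(2, 0)], [(6, 0)], [(3, 0)], [(7, 0)]], [], by decide +kernel⟩, by decide +kernel, Or.inl ⟨rfl, all⟩⟩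

theorem bound {Γ : Type*} [Group Γ] {x : ℕ → Γ} (hR : ∀ r ∈ R, ev x r = 1) {n : ℕ}
    (h : CardLe x [0, 1, 2, 3, 4, 5, 6, 7, 8] n) : CardLe x [0, 1, 2, 3, 4, 5, 6, 7, 8, 9, 10, 11, 12, 13, 14, 15, 16] (1 * n) :=
  cert.cardLe rfl hR h

end Cfsg.Agent.L0.ThTc1
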