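import Cfsg.Agent.L0.CosetChain
import Cfsg.Agent.L0.Th.Tc3D0
import Cfsg.Agent.L0.Th.Tc3D1

/-! Generated coset table certificate. -/

set_option autoImplicit false
set_option maxRecDepth 100000

namespace Cfsg.Agent.L0.ThTc3

noncomputable def tree : BT := (.node (.node (.node (.node (.node t0 t16) (.node t8 t24)) (.node (.node t4 t20) (.node t12 t28))) (.node (.node (.node t2 t18) (.node t10 t26)) (.node (.node t6 t22) (.node t14 t30)))) (.node (.node (.node (.node t1 t17) (.node t9 t25)) (.node (.node t5 t21) (.node t13 t29))) (.node (.node (.node t3 t19) (.node t11 t27)) (.node (.node t7 t23) (.node t15 t31)))))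

noncomputable def row : ℕ → ℕ := rowOf tree (nat_lit 4) (nat_lit 15) (nat_lit 585) (nat_lit 0x1ffffffffffffffffffffffffffffffffffffffffffffffffffffffffffffffffffffffffffffffffffffffffffffffffffffffffffffffffffffffffffffffffffffffffffffffffff)

noncomputable def cols : List Col := [⟨nat_lit 30, nat_lit 1, [([nat_lit 30], nat_lit 0), ([nat_lit 180, nat_lit 30, nat_lit 240], nat_lit 0), ([nat_lit 150, nat_lit 30, nat_lit 150], nat_lit 0), ([nat_lit 240, nat_lit 30, nat_lit 180], nat_lit 0), ([nat_lit 120, nat_lit 90, nat_lit 120, nat_lit 90, nat_lit 120, nat_lit 90, nat_lit 120, nat_lit 90], nat_lit 0), ([nat_lit 60, nat_lit 30, nat_lit 60, nat_lit 30, nat_lit 60], nat_lit 0)]⟩,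
  ⟨nat_lit 60, nat_lit 1, [([nat_lit 60], nat_lit 0), ([nat_lit 180, nat_lit 60, nat_lit 240], nat_lit 0), ([nat_lit 240, nat_lit 60, nat_lit 180], nat_lit 0), ([nat_lit 150, nat_lit 60, nat_lit 150], nat_lit 0), ([nat_lit 120, nat_lit 60, nat_lit 120], nat_lit 0), ([nat_lit 30, nat_lit 60, nat_lit 30, nat_lit 60, nat_lit 30], nat_lit 0), ([nat_lit 90, nat_lit 60, nat_lit 90, nat_lit 60, nat_lit 90], nat_lit 0), ([nat_lit 90, nat_lit 120, nat_lit 150, nat_lit 60, nat_lit 90, nat_lit 120, nat_lit 150, nat_lit 60, nat_lit 90, nat_lit 120, nat_lit 150, nat_lit 60, nat_lit 90, nat_lit 120, nat_lit 150, nat_lit 60, nat_lit 90, nat_lit 120, nat_lit 150, nat_lit 60, nat_lit 90, nat_lit 120, nat_lit 150, nat_lit 60, nat_lit 90, nat_lit 120, nat_lit 150, nat_lit 60, nat_lit 90, nat_lit 120, nat_lit 150], nat_lit 0)]⟩,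
  ⟨nat_lit 90, nat_lit 1, [([nat_lit 90], nat_lit 0), ([nat_lit 180, nat_lit 90, nat_lit 240], nat_lit 0), ([nat_lit 240, nat_lit 90, nat_lit 180], nat_lit 0), ([nat_lit 150, nat_lit 90, nat_lit 150], nat_lit 0), ([nat_lit 60, nat_lit 90, nat_lit 60, nat_lit 90, nat_lit 60], nat_lit 0), ([nat_lit 120, nat_lit 90, nat_lit 120, nat_lit 90, nat_lit 120, nat_lit 90, nat_lit 30, nat_lit 120], nat_lit 0), ([nat_lit 120, nat_lit 90, nat_lit 120, nat_lit 90, nat_lit 30, nat_lit 120, nat_lit 90, nat_lit 120], nat_lit 0), ([nat_lit 30, nat_lit 120, nat_lit 90, nat_lit 120, nat_lit 90, nat_lit 120, nat_lit 90, nat_lit 120], nat_lit 0), ([nat_lit 120, nat_lit 150, nat_lit 60, nat_lit 90, nat_lit 120, nat_lit 150, nat_lit 60, nat_lit 90, nat_lit 120, nat_lit 150, nat_lit 60, nat_lit 90, nat_lit 120, nat_lit 150, nat_lit 60, nat_lit 90, nat_lit 120, nat_lit 150, nat_lit 60, nat_lit 90, nat_lit 120, nat_lit 150, nat_lit 60, nat_lit 90, nat_lit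 120, nat_lit 150, nat_lit 60, nat_lit 90, nat_lit 120, nat_lit 150, nat_lit 60], nat_lit 0), ([nat_lit 120, nat_lit 90, nat_lit 30, nat_lit 120, nat_lit 90, nat_lit 120, nat_lit 90, nat_lit 120], nat_lit 0)]⟩,
  ⟨nat_lit 120, nat_lit 1, [([nat_lit 120], nat_lit 0), ([nat_lit 180, nat_lit 120, nat_lit 180], nat_lit 0), ([nat_lit 60, nat_lit 120, nat_lit 60], nat_lit 0), ([nat_lit 150, nat_lit 120, nat_lit 150, nat_lit 120, nat_lit 150], nat_lit 0), ([nat_lit 90, nat_lit 120, nat_lit 90, nat_lit 120, nat_lit 90, nat_lit 30, nat_lit 120, nat_lit 90], nat_lit 0), ([nat_lit 90, nat_lit 120, nat_lit 90, nat_lit 120, nat_lit 90, nat_lit 120, nat_lit 90, nat_lit 30], nat_lit 0), ([nat_lit 90, nat_lit 120, nat_lit 90, nat_lit 30, nat_lit 120, nat_lit 90, nat_lit 120, nat_lit 90], nat_lit 0), ([nat_lit 150, nat_lit 60, nat_lit 90, nat_lit 120, nat_lit 150, nat_lit 60, nat_lit 90, nat_lit 120, nat_lit 150, nat_lit 60, nat_lit 90, nat_lit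 120, nat_lit 150, nat_lit 60, nat_lit 90, nat_lit 120, nat_lit 150, nat_lit 60, nat_lit 90, nat_lit 120, nat_lit 150, nat_lit 60, nat_lit 90, nat_lit 120, nat_lit 150, nat_lit 60, nat_lit 90, nat_lit 120, nat_lit 150, nat_lit 60, nat_lit 90], nat_lit 0), ([nat_lit 90, nat_lit 30, nat_lit 120, nat_lit 90, nat_lit 120, nat_lit 90, nat_lit 120, nat_lit 90], nat_lit 0)]⟩,
  ⟨nat_lit 150, nat_lit 1, [([nat_lit 150], nat_lit 0), ([nat_lit 60, nat_lit 150, nat_lit 60], nat_lit 0), ([nat_lit 30, nat_lit 150, nat_lit 30], nat_lit 0), ([nat_lit 90, nat_lit 150, nat_lit 90], nat_lit 0), ([nat_lit 120, nat_lit 150, nat_lit 120, nat_lit 150, nat_lit 120], nat_lit 0), ([nat_lit 240, nat_lit 240, nat_lit 150, nat_lit 180, nat_lit 180, nat_lit 180, nat_lit 150, nat_lit 240], nat_lit 0), ([nat_lit 240, nat_lit 150, nat_lit 240, nat_lit 240, nat_lit 150, nat_lit 180, nat_lit 180, nat_lit 180], nat_lit 0), ([nat_lit 180, nat_lit 180, nat_lit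 180, nat_lit 150, nat_lit 240, nat_lit 150, nat_lit 240, nat_lit 240], nat_lit 0), ([nat_lit 60, nat_lit 90, nat_lit 120, nat_lit 150, nat_lit 60, nat_lit 90, nat_lit 120, nat_lit 150, nat_lit 60, nat_lit 90, nat_lit 120, nat_lit 150, nat_lit 60, nat_lit 90, nat_lit 120, nat_lit 150, nat_lit 60, nat_lit 90, nat_lit 120, nat_lit 150, nat_lit 60, nat_lit 90, nat_lit 120, nat_lit 150, nat_lit 60, nat_lit 90, nat_lit 120, nat_lit 150, nat_lit 60, nat_lit 90, nat_lit 120], nat_lit 0)]⟩,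
  ⟨nat_lit 180, nat_lit 0, [([nat_lit 240], nat_lit 0), ([nat_lit 120, nat_lit 180, nat_lit 120], nat_lit 0), ([nat_lit 60, nat_lit 240, nat_lit 60], nat_lit 0), ([nat_lit 30, nat_lit 240, nat_lit 30], nat_lit 0), ([nat_lit 90, nat_lit 240, nat_lit 90], nat_lit 0), ([nat_lit 180, nat_lit 180, nat_lit 180, nat_lit 180, nat_lit 180, nat_lit 180], nat_lit 0), ([nat_lit 150, nat_lit 240, nat_lit 150, nat_lit 240, nat_lit 240, nat_lit 150, nat_lit 180, nat_lit 180], nat_lit 0), ([nat_lit 180, nat_lit 150, nat_lit 240, nat_lit 150, nat_lit 240, nat_lit 240, nat_lit 150, nat_lit 180], nat_lit 0), ([nat_lit 180, nat_lit 180, nat_lit 150, nat_lit 240, nat_lit 150, nat_lit 240, nat_lit 240, nat_lit 150], nat_lit 0)]⟩,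
  ⟨nat_lit 240, nat_lit 0, [([nat_lit 180], nat_lit 0), ([nat_lit 30, nat_lit 180, nat_lit 30], nat_lit 0), ([nat_lit 60, nat_lit 180, nat_lit 60], nat_lit 0), ([nat_lit 90, nat_lit 180, nat_lit 90], nat_lit 0), ([nat_lit 150, nat_lit 240, nat_lit 240, nat_lit 150, nat_lit 180, nat_lit 180, nat_lit 180, nat_lit 150], nat_lit 0), ([nat_lit 150, nat_lit 180, nat_lit 180, nat_lit 180, nat_lit 150, nat_lit 240, nat_lit 150, nat_lit 240], nat_lit 0), ([nat_lit 240, nat_lit 150, nat_lit 180, nat_lit 180, nat_lit 180, nat_lit 150, nat_lit 240, nat_lit 150], nat_lit 0)]⟩]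

noncomputable def erots : List (List ℕ × ℕ) := [([nat_lit 240, nat_lit 180], nat_lit 0),
  ([nat_lit 180, nat_lit 240], nat_lit 0),
  ([nat_lit 150, nat_lit 150], nat_lit 0),
  ([nat_lit 120, nat_lit 120], nat_lit 0),
  ([nat_lit 90, nat_lit 90], nat_lit 0),
  ([nat_lit 60, nat_lit 60], nat_lit 0),
  ([nat_lit 30, nat_lit 30], nat_lit 0),
  ([nat_lit 120, nat_lit 90, nat_lit 120, nat_lit 90, nat_lit 120, nat_lit 90, nat_lit 120, nat_lit 90, nat_lit 30], nat_lit 0),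
  ([nat_lit 30, nat_lit 120, nat_lit 90, nat_lit 120, nat_lit 90, nat_lit 120, nat_lit 90, nat_lit 120, nat_lit 90], nat_lit 0),
  ([nat_lit 120, nat_lit 150, nat_lit 60, nat_lit 90, nat_lit 120, nat_lit 150, nat_lit 60, nat_lit 90, nat_lit 120, nat_lit 150, nat_lit 60, nat_lit 90, nat_lit 120, nat_lit 150, nat_lit 60, nat_lit 90, nat_lit 120, nat_lit 150, nat_lit 60, nat_lit 90, nat_lit 120, nat_lit 150, nat_lit 60, nat_lit 90, nat_lit 120, nat_lit 150, nat_lit 60, nat_lit 90, nat_lit 120, nat_lit 150, nat_lit 60, nat_lit 90], nat_lit 0),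
  ([nat_lit 150, nat_lit 60, nat_lit 90, nat_lit 120, nat_lit 150, nat_lit 60, nat_lit 90, nat_lit 120, nat_lit 150, nat_lit 60, nat_lit 90, nat_lit 120, nat_lit 150, nat_lit 60, nat_lit 90, nat_lit 120, nat_lit 150, nat_lit 60, nat_lit 90, nat_lit 120, nat_lit 150, nat_lit 60, nat_lit 90, nat_lit 120, nat_lit 150, nat_lit 60, nat_lit 90, nat_lit 120, nat_lit 150, nat_lit 60, nat_lit 90, nat_lit 120], nat_lit 0),
  ([nat_lit 150, nat_lit 240, nat_lit 240, nat_lit 150, nat_lit 180, nat_lit 180, nat_lit 180, nat_lit 150, nat_lit 240], nat_lit 0),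
  ([nat_lit 150, nat_lit 120, nat_lit 150, nat_lit 120, nat_lit 150, nat_lit 120], nat_lit 0),
  ([nat_lit 240, nat_lit 150, nat_lit 240, nat_lit 240, nat_lit 150, nat_lit 180, nat_lit 180, nat_lit 180, nat_lit 150], nat_lit 0),
  ([nat_lit 60, nat_lit 90, nat_lit 120, nat_lit 150, nat_lit 60, nat_lit 90, nat_lit 120, nat_lit 150, nat_lit 60, nat_lit 90, nat_lit 120, nat_lit 150, nat_lit 60, nat_lit 90, nat_lit 120, nat_lit 150, nat_lit 60, nat_lit 90, nat_lit 120, nat_lit 150, nat_lit 60, nat_lit 90, nat_lit 120, nat_lit 150, nat_lit 60, nat_lit 90, nat_lit 120, nat_lit 150, nat_lit 60, nat_lit 90, nat_lit 120, nat_lit 150], nat_lit 0),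
  ([nat_lit 150, nat_lit 240, nat_lit 150, nat_lit 240, nat_lit 240, nat_lit 150, nat_lit 180, nat_lit 180, nat_lit 180], nat_lit 0),
  ([nat_lit 240, nat_lit 240, nat_lit 150, nat_lit 180, nat_lit 180, nat_lit 180, nat_lit 150, nat_lit 240, nat_lit 150], nat_lit 0),
  ([nat_lit 180, nat_lit 30, nat_lit 240, nat_lit 30], nat_lit 0),
  ([nat_lit 90, nat_lit 120, nat_lit 90, nat_lit 120, nat_lit 90, nat_lit 120, nat_lit 90, nat_lit 30, nat_lit 120], nat_lit 0),
  ([nat_lit 90, nat_lit 120, nat_lit 150, nat_lit 60, nat_lit 90, nat_lit 120, nat_lit 150, nat_lit 60, nat_lit 90, nat_lit 120, nat_lit 150, nat_lit 60, nat_lit 90, nat_lit 120, nat_lit 150, nat_lit 60, nat_lit 90, nat_lit 120, nat_lit 150, nat_lit 60, nat_lit 90, nat_lit 120, nat_lit 150, nat_lit 60, nat_lit 90, nat_lit 120, nat_lit 150, nat_lit 60, nat_lit 90, nat_lit 120, nat_lit 150, nat_lit 60], nat_lit 0),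
  ([nat_lit 120, nat_lit 90, nat_lit 120, nat_lit 90, nat_lit 120, nat_lit 90, nat_lit 30, nat_lit 120, nat_lit 90], nat_lit 0),
  ([nat_lit 120, nat_lit 150, nat_lit 120, nat_lit 150, nat_lit 120, nat_lit 150], nat_lit 0),
  ([nat_lit 60, nat_lit 30, nat_lit 60, nat_lit 30, nat_lit 60, nat_lit 30], nat_lit 0),
  ([nat_lit 90, nat_lit 60, nat_lit 90, nat_lit 60, nat_lit 90, nat_lit 60], nat_lit 0),
  ([nat_lit 90, nat_lit 120, nat_lit 90, nat_lit 30, nat_lit 120, nat_lit 90, nat_lit 120, nat_lit 90, nat_lit 120], nat_lit 0),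
  ([nat_lit 180, nat_lit 180, nat_lit 180, nat_lit 150, nat_lit 240, nat_lit 150, nat_lit 240, nat_lit 240, nat_lit 150], nat_lit 0),
  ([nat_lit 240, nat_lit 30, nat_lit 180, nat_lit 30], nat_lit 0),
  ([nat_lit 30, nat_lit 150, nat_lit 30, nat_lit 150], nat_lit 0),
  ([nat_lit 90, nat_lit 30, nat_lit 120, nat_lit 90, nat_lit 120, nat_lit 90, nat_lit 120, nat_lit 90, nat_lit 120], nat_lit 0),
  ([nat_lit 120, nat_lit 90, nat_lit 120, nat_lit 90, nat_lit 30, nat_lit 120, nat_lit 90, nat_lit 120, nat_lit 90], nat_lit 0),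
  ([nat_lit 180, nat_lit 120, nat_lit 180, nat_lit 120], nat_lit 0),
  ([nat_lit 30, nat_lit 60, nat_lit 30, nat_lit 60, nat_lit 30, nat_lit 60], nat_lit 0),
  ([nat_lit 60, nat_lit 90, nat_lit 60, nat_lit 90, nat_lit 60, nat_lit 90], nat_lit 0),
  ([nat_lit 90, nat_lit 180, nat_lit 90, nat_lit 240], nat_lit 0),
  ([nat_lit 150, nat_lit 30, nat_lit 150, nat_lit 30], nat_lit 0),
  ([nat_lit 180, nat_lit 90, nat_lit 240, nat_lit 90], nat_lit 0),
  ([nat_lit 180, nat_lit 180, nat_lit 150, nat_lit 240, nat_lit 150, nat_lit 240, nat_lit 240, nat_lit 150, nat_lit 180], nat_lit 0),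
  ([nat_lit 90, nat_lit 120, nat_lit 90, nat_lit 120, nat_lit 90, nat_lit 30, nat_lit 120, nat_lit 90, nat_lit 120], nat_lit 0),
  ([nat_lit 150, nat_lit 180, nat_lit 180, nat_lit 180, nat_lit 150, nat_lit 240, nat_lit 150, nat_lit 240, nat_lit 240], nat_lit 0),
  ([nat_lit 240, nat_lit 150, nat_lit 180, nat_lit 180, nat_lit 180, nat_lit 150, nat_lit 240, nat_lit 150, nat_lit 240], nat_lit 0),
  ([nat_lit 30, nat_lit 240, nat_lit 30, nat_lit 180], nat_lit 0),
  ([nat_lit 120, nat_lit 180, nat_lit 120, nat_lit 180], nat_lit 0),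
  ([nat_lit 30, nat_lit 180, nat_lit 30, nat_lit 240], nat_lit 0),
  ([nat_lit 90, nat_lit 150, nat_lit 90, nat_lit 150], nat_lit 0),
  ([nat_lit 120, nat_lit 60, nat_lit 120, nat_lit 60], nat_lit 0),
  ([nat_lit 120, nat_lit 90, nat_lit 30, nat_lit 120, nat_lit 90, nat_lit 120, nat_lit 90, nat_lit 120, nat_lit 90], nat_lit 0),
  ([nat_lit 60, nat_lit 120, nat_lit 60, nat_lit 120], nat_lit 0),
  ([nat_lit 60, nat_lit 240, nat_lit 60, nat_lit 180], nat_lit 0),
  ([nat_lit 90, nat_lit 240, nat_lit 90, nat_lit 180], nat_lit 0),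
  ([nat_lit 240, nat_lit 90, nat_lit 180, nat_lit 90], nat_lit 0),
  ([nat_lit 60, nat_lit 180, nat_lit 60, nat_lit 240], nat_lit 0),
  ([nat_lit 180, nat_lit 60, nat_lit 240, nat_lit 60], nat_lit 0),
  ([nat_lit 180, nat_lit 180, nat_lit 180, nat_lit 180, nat_lit 180, nat_lit 180, nat_lit 180], nat_lit 0),
  ([nat_lit 180, nat_lit 150, nat_lit 240, nat_lit 150, nat_lit 240, nat_lit 240, nat_lit 150, nat_lit 180, nat_lit 180], nat_lit 0),
  ([nat_lit 60, nat_lit 150, nat_lit 60, nat_lit 150], nat_lit 0),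
  ([nat_lit 150, nat_lit 60, nat_lit 150, nat_lit 60], nat_lit 0),
  ([nat_lit 240, nat_lit 60, nat_lit 180, nat_lit 60], nat_lit 0)]

noncomputable def gens : List ℕ := [nat_lit 30, nat_lit 60, nat_lit 90, nat_lit 120, nat_lit 150, nat_lit 180, nat_lit 240]

noncomputable def chk : ℕ → Bool := chkRow1 row (nat_lit 32192) (nat_lit 17472) (nat_lit 0x7fff) (nat_lit 0x7f8000) (nat_lit 23) (nat_lit 0x7f) (nat_lit 0) (nat_lit 0x7fff) (nat_lit 15) (nat_lit 0x3ff) (nat_lit 0x3e000000) (nat_lit 540) (nat_lit 570) (nat_lit 4) [] cols erots gens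

end Cfsg.Agent.L0.ThTc3
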